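import Cfsg.Agent.LFType23.Frame

/-!
The centraliser of the involution has two orbits, of lengths 378 and 1701, on nonzero singular vectors.
-/
set_option autoImplicit false

namespace Cfsg.Agent.LFType23

/-- Membership of the long orbit, for the class parameter `γ`. -/
def big (γ : ZMod 3) (u : V) : Prop := wt u = 4 ∨ (wt u = 6 ∧ cl u ≠ γ)

instance (γ : ZMod 3) (u : V) : Decidable (big γ u) := by unfold big; infer_instance

/-- The five monomial classes. -/
def atom (u : V) : Fin 5 :=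
  if wt u = 2 then 0 else if wt u = 4 then 1 else if cl u = 0 then 2 else if cl u = 1 then 3 else 4

theorem wt_singular (u : V) (hu : qf u = 0) (hu0 : u ≠ 0) : wt u = 2 ∨ wt u = 4 ∨ wt u = 6 := by
  have h : (Finset.univ.filter fun u : V =>
      qf u = 0 ∧ u ≠ 0 ∧ ¬ (wt u = 2 ∨ wt u = 4 ∨ wt u = 6)).card = 0 := by decide +kernel
  by_contra hn
  rw [Finset.card_eq_zero] at h
  exact Finset.notMem_empty u (h ▸ Finset.mem_filter.2 ⟨Finset.mem_univ _, hu, hu0, hn⟩)

theorem card_atom0 : (Finset.univ.filter fun u : V => (qf u = 0 ∧ u ≠ 0) ∧ atom u = 0).card = 135 := by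
  decide +kernel
theorem card_atom1 : (Finset.univ.filter fun u : V => (qf u = 0 ∧ u ≠ 0) ∧ atom u = 1).card = 1215 := by
  decide +kernel
theorem card_atom2 : (Finset.univ.filter fun u : V => (qf u = 0 ∧ u ≠ 0) ∧ atom u = 2).card = 243 := by
  decide +kernel
theorem card_atom3 : (Finset.univ.filter fun u : V => (qf u = 0 ∧ u ≠ 0) ∧ atom u = 3).card = 243 := by
  decide +kernel
theorem card_atom4 : (Finset.univ.filter fun u : V => (qf u = 0 ∧ u ≠ 0) ∧ atom u = 4).card = 243 := by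
  decide +kernel

/-- The support. -/
def supp (u : V) : Fin 6 → Bool := fun i => decide (u i ≠ 0)

theorem supp_two : ∀ f : Fin 6 → Bool, (Finset.univ.filter fun i => f i = true).card = 2 →
    ∃ σ : Equiv.Perm (Fin 6), Equiv.Perm.sign σ = 1 ∧
      ∀ i, f (σ i) = ![true, true, false, false, false, false] i := by decide +kernel

theorem supp_four : ∀ f : Fin 6 → Bool, (Finset.univ.filter fun i => f i = true).card = 4 →
    ∃ σ : Equiv.Perm (Fin 6), Equiv.Perm.sign σ = 1 ∧
      ∀ i, f (σ i) = ![true, true, true, true, false, false] i := by decide +kernel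

theorem rot_lg : ∀ a b : F4, a ≠ 0 → b ≠ 0 → rot (lg b - lg a) a = b := by decide

theorem wt_eq_supp (u : V) : wt u = (Finset.univ.filter fun i => supp u i = true).card := by
  simp [wt, supp]

/-- Two vectors of the same class are related by a monomial map. -/
theorem reach {u w : V} (hu : qf u = 0) (hu0 : u ≠ 0) (hw : wt u = wt w) (hc : wt u = 6 → cl u = cl w) :
    ∃ (σ : Equiv.Perm (Fin 6)) (a : Fin 6 → ZMod 3),
      Equiv.Perm.sign σ = 1 ∧ ∑ i, a i = 0 ∧ diag a (perm σ u) = w := by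
  classical
  obtain ⟨σ, hσ, hsupp⟩ : ∃ σ : Equiv.Perm (Fin 6), Equiv.Perm.sign σ = 1 ∧
      ∀ i, supp u (σ i) = supp w i := by
    have h2 := wt_eq_supp u
    have h3 := wt_eq_supp w
    rw [← hw] at h3
    rcases wt_singular u hu hu0 with e | e | e
    · obtain ⟨σ, hσ, hs⟩ := supp_two _ (h2 ▸ e)
      obtain ⟨τ, hτ, ht⟩ := supp_two _ (h3 ▸ e)
      refine ⟨σ * τ⁻¹, by simp [hσ, hτ], fun i => ?_⟩
      rw [Equiv.Perm.mul_apply, hs, ← ht]; simp
    · obtain ⟨σ, hσ, hs⟩ := supp_four _ (h2 ▸ e)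
      obtain ⟨τ, hτ, ht⟩ := supp_four _ (h3 ▸ e)
      refine ⟨σ * τ⁻¹, by simp [hσ, hτ], fun i => ?_⟩
      rw [Equiv.Perm.mul_apply, hs, ← ht]; simp
    · have all6 : ∀ f : Fin 6 → Bool, (Finset.univ.filter fun i => f i = true).card = 6 → ∀ i, f i = true := by
        decide +kernel
      exact ⟨1, by simp, fun i => (all6 _ (h2 ▸ e) _).trans (all6 _ (h3 ▸ e) i).symm⟩
  have hiff : ∀ i, u (σ i) ≠ 0 ↔ w i ≠ 0 := fun i => by
    have := hsupp i; simp only [supp, decide_eq_decide] at this; exact this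
  by_cases hfull : ∀ i, w i ≠ 0
  · refine ⟨σ, fun i => lg (w i) - lg (u (σ i)), hσ, ?_, funext fun i => rot_lg _ _ ((hiff i).2 (hfull i)) (hfull i)⟩
    have h6 : wt w = 6 := by
      rw [wt, Finset.filter_true_of_mem fun i _ => hfull i]; simp
    rw [Finset.sum_sub_distrib, Equiv.sum_comp σ fun i => lg (u i)]
    exact sub_eq_zero.2 (hc (hw.trans h6)).symm
  · push Not at hfull
    obtain ⟨j, hj⟩ := hfull
    refine ⟨σ, Function.update (fun i => lg (w i) - lg (u (σ i))) j
      (-∑ i ∈ Finset.univ.erase j, (lg (w i) - lg (u (σ i)))), hσ, ?_, funext fun i => ?_⟩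
    · rw [← Finset.add_sum_erase _ _ (Finset.mem_univ j), Function.update_self]
      rw [Finset.sum_congr rfl fun i hi => Function.update_of_ne (Finset.ne_of_mem_erase hi) _ _]
      exact neg_add_cancel _
    · by_cases hi : w i = 0
      · have h0 : u (σ i) = 0 := by_contra fun h => ((hiff i).1 h) hi
        have : ∀ k : ZMod 3, rot k 0 = 0 := by decide
        simp [diag, perm, h0, hi, this]
      · have hij : i ≠ j := fun h => hi (h ▸ hj)
        simp only [diag, perm, Function.update_of_ne hij]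
        exact rot_lg _ _ ((hiff i).2 hi) hi

variable {G : Type*} [Group G] {z : G} {Q : Subgroup G}

namespace Frame

variable (F : Frame z Q)

/-- Two vectors are related when some element of the centraliser maps one to the other. -/
def Rel (u w : V) : Prop := ∃ h, Commute h z ∧ F.pi h u = w

theorem rel_refl (u : V) : F.Rel u u := ⟨1, Commute.one_left z, F.pi_one u⟩

theorem rel_symm {u w : V} (h : F.Rel u w) : F.Rel w u := by
  obtain ⟨h, hh, rfl⟩ := h
  exact ⟨h⁻¹, hh.inv_left, F.pi_inv_apply hh u⟩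

theorem rel_trans {u v w : V} (h : F.Rel u v) (k : F.Rel v w) : F.Rel u w := by
  obtain ⟨h, hh, rfl⟩ := h
  obtain ⟨k, hk, rfl⟩ := k
  exact ⟨k * h, hk.mul_left hh, F.pi_mul hk hh u⟩

theorem rel_of_class {u w : V} (hu : qf u = 0) (hu0 : u ≠ 0) (hw : qf w = 0) (hw0 : w ≠ 0)
    (h : atom u = atom w) : F.Rel u w := by
  have hwt : wt u = wt w ∧ (wt u = 6 → cl u = cl w) := by
    have key : ∀ (m n : Fin 3) (c c' : ZMod 3),
        let A : ℕ → ZMod 3 → Fin 5 := fun k d =>
          if k = 2 then 0 else if k = 4 then 1 else if d = 0 then 2 else if d = 1 then 3 else 4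
        A ((![2, 4, 6] : Fin 3 → ℕ) m) c = A ((![2, 4, 6] : Fin 3 → ℕ) n) c' →
          m = n ∧ (m = 2 → c = c') := by decide
    obtain ⟨m, hm⟩ : ∃ m : Fin 3, wt u = (![2, 4, 6] : Fin 3 → ℕ) m := by
      rcases wt_singular u hu hu0 with e | e | e
      exacts [⟨0, e⟩, ⟨1, e⟩, ⟨2, e⟩]
    obtain ⟨n, hn⟩ : ∃ n : Fin 3, wt w = (![2, 4, 6] : Fin 3 → ℕ) n := by
      rcases wt_singular w hw hw0 with e | e | e
      exacts [⟨0, e⟩, ⟨1, e⟩, ⟨2, e⟩]
    obtain ⟨hmn, hc⟩ := key m n (cl u) (cl w) (by simpa [atom, hm, hn] using h)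
    refine ⟨by rw [hm, hn, hmn], fun h6 => hc ?_⟩
    have k6 : ∀ j : Fin 3, (![2, 4, 6] : Fin 3 → ℕ) j = 6 → j = 2 := by decide
    exact k6 m (hm ▸ h6)
  obtain ⟨σ, a, hσ, ha, e⟩ := reach hu hu0 hwt.1 hwt.2
  obtain ⟨p, hp, hpe⟩ := F.perm_mem σ hσ
  obtain ⟨d, hd, hde⟩ := F.diag_mem a ha
  exact ⟨d * p, hd.mul_left hp, by rw [F.pi_mul hd hp, hpe, hde, e]⟩

theorem pi_pow {h : G} (hh : Commute h z) (n : ℕ) (u : V) : F.pi (h ^ n) u = (F.pi h)^[n] u := by
  induction n with
  | zero => rw [pow_zero, F.pi_one]; rfl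
  | succ n ih =>
    rw [pow_succ', F.pi_mul hh (hh.pow_left n), ih, Function.iterate_succ_apply']

theorem sq_lin {h : G} (hh : Commute h z) (u : V) : F.pi (h * h) (om u) = om (F.pi (h * h) u) := by
  rw [F.pi_mul hh hh, F.pi_mul hh hh]
  rcases F.lin_or h hh with e | e
  · rw [e, e]
  · rw [e, e, e, om_cube]

/-- The stabiliser of a vector. -/
def stab (u : V) : Subgroup G where
  carrier := {h | Commute h z ∧ F.pi h u = u}
  mul_mem' {a b} ha hb := ⟨ha.1.mul_left hb.1, by rw [F.pi_mul ha.1 hb.1, hb.2, ha.2]⟩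
  one_mem' := ⟨Commute.one_left z, F.pi_one u⟩
  inv_mem' {a} ha := ⟨ha.1.inv_left, by
    have := F.pi_inv_apply ha.1 u
    rwa [ha.2] at this⟩

theorem mem_stab {u : V} {h : G} : h ∈ F.stab u ↔ Commute h z ∧ F.pi h u = u := Iff.rfl

open Classical in
/-- The orbit of a vector. -/
noncomputable def orb (u : V) : Finset V := Finset.univ.filter fun w => F.Rel u w

theorem mem_orb {u w : V} : w ∈ F.orb u ↔ F.Rel u w := by simp [orb]

theorem card_orb_mul [Finite G] (u : V) :
    (F.orb u).card * Nat.card (F.stab u) = 2 ^ 13 * 19595520 := by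
  classical
  let C := Subgroup.centralizer ({z} : Set G)
  have hC : ∀ {h : G}, h ∈ C ↔ Commute h z := Subgroup.mem_centralizer_singleton_iff
  let _ : MulAction C V :=
    { smul := fun h v => F.pi (h : G) v
      one_smul := F.pi_one
      mul_smul := fun a b v => F.pi_mul (hC.1 a.2) (hC.1 b.2) v }
  have := Fintype.ofFinite C
  have := Fintype.ofFinite (MulAction.orbit C u)
  have := Fintype.ofFinite (MulAction.stabilizer C u)
  have h := MulAction.card_orbit_mul_card_stabilizer_eq_card_group C u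
  rw [← Nat.card_eq_fintype_card, ← Nat.card_eq_fintype_card, ← Nat.card_eq_fintype_card, F.card_cent] at h
  rw [← h]
  congr 1
  · rw [← Nat.card_eq_finsetCard]
    exact Nat.card_congr (Equiv.subtypeEquivRight fun w => by
      rw [mem_orb]
      exact ⟨fun ⟨k, hk, e⟩ => ⟨⟨k, hC.2 hk⟩, e⟩, fun ⟨k, e⟩ => ⟨k, hC.1 k.2, e⟩⟩)
  · exact Nat.card_congr
      { toFun := fun k => ⟨⟨k.1, hC.2 k.2.1⟩, k.2.2⟩
        invFun := fun k => ⟨k.1.1, hC.1 k.1.2, k.2⟩
        left_inv := fun _ => rfl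
        right_inv := fun _ => rfl }

theorem seven_dvd_orb [Finite G] {u : V} (hu0 : u ≠ 0) : 7 ∣ (F.orb u).card := by
  by_contra h7
  have : Fact (Nat.Prime 7) := ⟨by norm_num⟩
  have hd : 7 ∣ Nat.card (F.stab u) := by
    rcases ((Fact.out : Nat.Prime 7).dvd_mul).1 (⟨2 ^ 13 * 2799360, by rw [F.card_orb_mul u]; norm_num⟩ :
        7 ∣ (F.orb u).card * Nat.card (F.stab u)) with h | h
    · exact absurd h h7
    · exact h
  obtain ⟨⟨h, hhz, hfix⟩, ho⟩ := exists_prime_orderOf_dvd_card' 7 hd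
  have hh : h ^ 7 = 1 := by
    have := congrArg Subtype.val (ho ▸ pow_orderOf_eq_one (⟨h, hhz, hfix⟩ : F.stab u))
    simpa using this
  set k := h ^ 4 * h ^ 4 with hk
  have hkh : k = h := by rw [hk, ← pow_add]; rw [show 4 + 4 = 7 + 1 by rfl, pow_succ, hh, one_mul]
  have hlin : ∀ w, F.pi h (om w) = om (F.pi h w) := fun w => by
    have := F.sq_lin (hhz.pow_left 4) w
    rwa [← hk, hkh] at this
  refine hu0 (no_fixed_seven (F.pi_add hhz) ?_ ?_ (F.qf_pi hhz) hlin hfix)
  · funext w; rw [← F.pi_pow hhz, hh, F.pi_one]; rfl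
  · intro he
    have hQ : h ∈ Q := F.faithful h hhz fun w => congrFun he w
    have h2 : h ^ (2 ^ 13) = 1 := by
      have := pow_card_eq_one' (x := (⟨h, hQ⟩ : Q))
      rw [F.card_le] at this
      exact congrArg Subtype.val this
    have : h = 1 := by
      rw [← pow_one h, ← show Nat.gcd 7 (2 ^ 13) = 1 by decide, pow_gcd_eq_one.2 ⟨hh, h2⟩]
    subst this
    exact absurd (congrArg Subtype.val (orderOf_eq_one_iff.1 (show orderOf (1 : F.stab u) = 1 from orderOf_one)))
      (fun _ => by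
        have h1 : orderOf (⟨1, hhz, hfix⟩ : F.stab u) = 1 := orderOf_one
        omega)

/-- The orbits on singular vectors. -/
def Classes (γ : ZMod 3) : Prop :=
  ∀ u w : V, qf u = 0 → u ≠ 0 → qf w = 0 → w ≠ 0 → (F.Rel u w ↔ (big γ u ↔ big γ w))

theorem qf_of_rel {u w : V} (h : F.Rel u w) : qf w = qf u := by
  obtain ⟨h, hh, rfl⟩ := h; exact F.qf_pi hh u

theorem ne_zero_of_rel {u w : V} (h : F.Rel u w) (hu : u ≠ 0) : w ≠ 0 := by
  obtain ⟨h, hh, rfl⟩ := h
  intro h0
  exact hu (F.pi_injective hh (h0.trans (F.pi_zero hh).symm))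

/-- Representatives of the five classes. -/
def rep : Fin 5 → V :=
  ![![(1,0),(1,0),0,0,0,0], ![(1,0),(1,0),(1,0),(1,0),0,0], one6,
    ![(0,1),(1,0),(1,0),(1,0),(1,0),(1,0)], ![(1,1),(1,0),(1,0),(1,0),(1,0),(1,0)]]

theorem rep_spec : ∀ k : Fin 5, qf (rep k) = 0 ∧ rep k ≠ 0 ∧ atom (rep k) = k := by decide +kernel

theorem card_orb_eq (k : Fin 5) (f : Fin 5 → Bool)
    (hf : ∀ j, f j = true ↔ F.Rel (rep k) (rep j)) :
    (F.orb (rep k)).card = ∑ j, if f j then (![135, 1215, 243, 243, 243] : Fin 5 → ℕ) j else 0 := by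
  classical
  rw [Finset.card_eq_sum_card_fiberwise (f := atom) (t := Finset.univ) fun _ _ => Finset.mem_univ _]
  refine Finset.sum_congr rfl fun j _ => ?_
  split_ifs with hj
  · have hr := (hf j).1 hj
    have : (F.orb (rep k)).filter (fun w => atom w = j) =
        Finset.univ.filter fun w : V => (qf w = 0 ∧ w ≠ 0) ∧ atom w = j := by
      ext w
      simp only [Finset.mem_filter, mem_orb, Finset.mem_univ, true_and]
      refine ⟨fun ⟨h, e⟩ => ⟨⟨(F.qf_of_rel h).trans (rep_spec k).1, F.ne_zero_of_rel h (rep_spec k).2.1⟩, e⟩,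
        fun ⟨⟨hq, h0⟩, e⟩ => ⟨F.rel_trans hr (F.rel_of_class (rep_spec j).1 (rep_spec j).2.1 hq h0
          ((rep_spec j).2.2.trans e.symm)), e⟩⟩
    rw [this]
    fin_cases j
    exacts [card_atom0, card_atom1, card_atom2, card_atom3, card_atom4]
  · rw [Finset.card_eq_zero, Finset.filter_eq_empty_iff]
    intro w hw e
    rw [mem_orb] at hw
    refine hj ((hf j).2 (F.rel_trans hw (F.rel_of_class ((F.qf_of_rel hw).trans (rep_spec k).1)
      (F.ne_zero_of_rel hw (rep_spec k).2.1) (rep_spec j).1 (rep_spec j).2.1 (e.trans (rep_spec j).2.2.symm))))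

theorem union_cases : ∀ f : Fin 5 → Bool,
    7 ∣ (∑ j, if f j then (![135, 1215, 243, 243, 243] : Fin 5 → ℕ) j else 0) →
    (∑ j, if f j then (![135, 1215, 243, 243, 243] : Fin 5 → ℕ) j else 0) ∣ 2 ^ 13 * 19595520 →
    (f 0 = true → f = ![true, false, true, false, false] ∨ f = ![true, false, false, true, false] ∨
      f = ![true, false, false, false, true]) ∧
    (f 1 = true → f = ![false, true, true, true, false] ∨ f = ![false, true, true, false, true] ∨
      f = ![false, true, false, true, true]) := by decide +kernel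

theorem exists_classes [Finite G] : ∃ γ, F.Classes γ := by
  classical
  let fr : Fin 5 → Fin 5 → Bool := fun k j => decide (F.Rel (rep k) (rep j))
  have hfr : ∀ k j, fr k j = true ↔ F.Rel (rep k) (rep j) := fun k j => by simp [fr]
  have hc : ∀ k, _ := fun k => union_cases (fr k)
    (F.card_orb_eq k (fr k) (hfr k) ▸ F.seven_dvd_orb (rep_spec k).2.1)
    (F.card_orb_eq k (fr k) (hfr k) ▸ Dvd.intro _ (F.card_orb_mul _))
  have h0 := (hc 0).1 ((hfr 0 0).2 (F.rel_refl _))
  have h1 := (hc 1).2 ((hfr 1 1).2 (F.rel_refl _))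
  have disj : ∀ j, fr 0 j = true → fr 1 j = false := by
    intro j hj
    by_contra h
    rw [Bool.not_eq_false, hfr] at h
    have h01 : F.Rel (rep 0) (rep 1) := F.rel_trans ((hfr 0 j).1 hj) (F.rel_symm h)
    have := (hfr 0 1).2 h01
    rcases h0 with e | e | e <;> simp [e] at this
  obtain ⟨γ, hγ⟩ : ∃ γ : ZMod 3, ∀ j, (fr 1 j = true ↔ big γ (rep j)) ∧ (fr 0 j = true ↔ ¬ big γ (rep j)) := by
    have key : ∀ a b : Fin 5 → Bool,
        (a = ![true, false, true, false, false] ∨ a = ![true, false, false, true, false] ∨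
          a = ![true, false, false, false, true]) →
        (b = ![false, true, true, true, false] ∨ b = ![false, true, true, false, true] ∨
          b = ![false, true, false, true, true]) →
        (∀ j, a j = true → b j = false) →
        ∃ γ : ZMod 3, ∀ j, (b j = true ↔ big γ (rep j)) ∧ (a j = true ↔ ¬ big γ (rep j)) := by
      decide +kernel
    exact key _ _ h0 h1 disj
  refine ⟨γ, fun u w hu hu0 hw hw0 => ?_⟩
  have toRep : ∀ x : V, qf x = 0 → x ≠ 0 → F.Rel x (rep (atom x)) ∧ (big γ x ↔ big γ (rep (atom x))) := by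
    intro x hx hx0
    refine ⟨F.rel_of_class hx hx0 (rep_spec _).1 (rep_spec _).2.1 (rep_spec _).2.2.symm, ?_⟩
    have key : ∀ (c : ZMod 3) (n : Fin 3),
        ((![2, 4, 6] : Fin 3 → ℕ) n = 4 ∨ ((![2, 4, 6] : Fin 3 → ℕ) n = 6 ∧ c ≠ γ)) ↔
        big γ (rep (if (![2, 4, 6] : Fin 3 → ℕ) n = 2 then 0 else if (![2, 4, 6] : Fin 3 → ℕ) n = 4 then 1
          else if c = 0 then 2 else if c = 1 then 3 else 4)) := by
      intro c n; clear hγ; revert γ c n; decide +kernel
    rcases wt_singular x hx hx0 with e | e | e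
    · have := key (cl x) 0; simpa [big, atom, e] using this
    · have := key (cl x) 1; simpa [big, atom, e] using this
    · have := key (cl x) 2; simpa [big, atom, e] using this
  have step : ∀ i j, F.Rel (rep i) (rep j) ↔ (big γ (rep i) ↔ big γ (rep j)) := by
    intro i j
    by_cases hi : big γ (rep i)
    · have r1 : F.Rel (rep 1) (rep i) := (hfr 1 i).1 ((hγ i).1.2 hi)
      simp only [hi, true_iff]
      rw [← (hγ j).1, hfr]
      exact ⟨fun h => F.rel_trans r1 h, fun h => F.rel_trans (F.rel_symm r1) h⟩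
    · have r1 : F.Rel (rep 0) (rep i) := (hfr 0 i).1 ((hγ i).2.2 hi)
      simp only [hi, false_iff]
      rw [← (hγ j).2, hfr]
      exact ⟨fun h => F.rel_trans r1 h, fun h => F.rel_trans (F.rel_symm r1) h⟩
  obtain ⟨ru, bu⟩ := toRep u hu hu0
  obtain ⟨rw', bw⟩ := toRep w hw hw0
  rw [bu, bw, ← step]
  exact ⟨fun h => F.rel_trans (F.rel_symm ru) (F.rel_trans h rw'),
    fun h => F.rel_trans ru (F.rel_trans h (F.rel_symm rw'))⟩

theorem classes_tr {γ : ZMod 3} (h : F.Classes γ) (g : G) : (F.tr g).Classes γ := by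
  intro u w hu hu0 hw hw0
  rw [← h u w hu hu0 hw hw0]
  constructor
  · rintro ⟨k, hk, e⟩
    refine ⟨g⁻¹ * k * g, ?_, e⟩
    have := hk.map (MulAut.conj g⁻¹).toMonoidHom
    simpa [MulAut.conj_apply, mul_assoc] using this
  · rintro ⟨k, hk, e⟩
    refine ⟨g * k * g⁻¹, hk.map (MulAut.conj g).toMonoidHom, ?_⟩
    rw [tr_pi, show g⁻¹ * (g * k * g⁻¹) * g = k by group, e]

end Frame

end Cfsg.Agent.LFType23
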