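import Cfsg.Agent.LFType23.Std

/-!
The image of the intersection of the two extraspecial subgroups, and semilinearity.
-/
set_option autoImplicit false

namespace Cfsg.Agent.LFType23

/-- A pair vector. -/
def pr (i j : Fin 6) : V := Pi.single i (1, 0) + Pi.single j (1, 0)

theorem cases_f4 : ∀ c : F4, c = (0, 0) ∨ c = (1, 0) ∨ c = (0, 1) ∨ c = (1, 1) := by decide

theorem sc_add_left : ∀ (c d : F4) (u : V), sc (c + d) u = sc c u + sc d u := fun c d u => funext fun i => by
  have : ∀ c d x : F4, fm (c + d) x = fm c x + fm d x := by decide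
  exact this _ _ _

theorem sc_sc (c d : F4) (u : V) : sc c (sc d u) = sc (fm c d) u := funext fun i => by
  have : ∀ c d x : F4, fm c (fm d x) = fm (fm c d) x := by decide
  exact this _ _ _

theorem sc_one (u : V) : sc (1, 0) u = u := funext fun i => by
  have : ∀ x : F4, fm (1, 0) x = x := by decide
  exact this _

theorem perm_sc (σ : Equiv.Perm (Fin 6)) (c : F4) (u : V) : perm σ (sc c u) = sc c (perm σ u) := rfl

theorem perm_pr (σ : Equiv.Perm (Fin 6)) (i j : Fin 6) : perm σ (pr i j) = pr (σ.symm i) (σ.symm j) := by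
  funext x
  simp only [perm, pr, Pi.add_apply, Pi.single_apply, Equiv.eq_symm_apply]

theorem even_values : ∀ a b c : F4, a ≠ b → b ≠ c → a ≠ c →
    (a.1 * b.2 + a.2 * b.1) + (b.1 * c.2 + b.2 * c.1) + (c.1 * a.2 + c.2 * a.1) = 1 := by decide

theorem bf_cycle {u : V} {i j k : Fin 6} (hij : i ≠ j) (hjk : j ≠ k) (hik : i ≠ k)
    (h1 : u i ≠ u j) (h2 : u j ≠ u k) (h3 : u i ≠ u k) :
    bf u (perm (Equiv.swap i j * Equiv.swap j k) u) = 1 := by
  set σ := Equiv.swap i j * Equiv.swap j k
  have si : σ i = j := by simp [σ, Equiv.swap_apply_of_ne_of_ne hij hik]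
  have sj : σ j = k := by simp [σ, Equiv.swap_apply_of_ne_of_ne hik.symm hjk.symm]
  have sk : σ k = i := by simp [σ]
  have so : ∀ x, x ≠ i → x ≠ j → x ≠ k → σ x = x := fun x a b c => by
    simp [σ, Equiv.swap_apply_of_ne_of_ne b c, Equiv.swap_apply_of_ne_of_ne a b]
  rw [bf, ← Finset.sum_subset (Finset.subset_univ {i, j, k}) fun x _ hx => by
    simp only [Finset.mem_insert, Finset.mem_singleton, not_or] at hx
    simp only [perm, so x hx.1 hx.2.1 hx.2.2]
    have : ∀ a : F4, a.1 * a.2 + a.2 * a.1 = 0 := by decide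
    exact this _]
  rw [Finset.sum_insert (by simp [hij, hik]), Finset.sum_insert (by simp [hjk]), Finset.sum_singleton]
  simp only [perm, si, sj, sk]
  rw [← add_assoc]
  exact even_values _ _ _ h1 h2 h3

theorem pigeon : ∀ f : Fin 6 → Bool, (∃ i j, f i ≠ f j) →
    ∃ i j k l, f i ≠ f j ∧ f k = f l ∧ k ≠ l ∧ i ≠ k ∧ i ≠ l ∧ j ≠ k ∧ j ≠ l := by decide +kernel

theorem swap_add_self {u : V} {i j k l : Fin 6} (hij : i ≠ j) (hkl : u k = u l)
    (hik : i ≠ k) (hil : i ≠ l) (hjk : j ≠ k) (hjl : j ≠ l) :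
    perm (Equiv.swap i j * Equiv.swap k l) u + u = sc (u i + u j) (pr i j) := by
  funext x
  simp only [perm, Pi.add_apply, Equiv.Perm.mul_apply, sc, pr]
  have hz : ∀ c : F4, fm c 0 = 0 := by decide
  have h1 : ∀ c : F4, fm c (1, 0) = c := by decide
  have hs : ∀ c : F4, c + c = 0 := by decide
  rcases eq_or_ne x k with rfl | hxk
  · rw [Equiv.swap_apply_left, Equiv.swap_apply_of_ne_of_ne hil.symm hjl.symm]
    simp [hik.symm, hjk.symm, hkl, hz, hs]
  rcases eq_or_ne x l with rfl | hxl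
  · rw [Equiv.swap_apply_right, Equiv.swap_apply_of_ne_of_ne hik.symm hjk.symm]
    simp [hil.symm, hjl.symm, hkl, hz, hs]
  rw [Equiv.swap_apply_of_ne_of_ne hxk hxl]
  rcases eq_or_ne x i with rfl | hxi
  · simp [hij, h1, add_comm]
  rcases eq_or_ne x j with rfl | hxj
  · simp [hij.symm, h1]
  rw [Equiv.swap_apply_of_ne_of_ne hxi hxj]
  simp [hxi, hxj, hz, hs]

theorem pr_sum : pr 0 1 + pr 2 3 + pr 4 5 = one6 := by decide

theorem decompose (u : V) : u = (sc (u 1) (pr 1 0) + sc (u 2) (pr 2 0) + sc (u 3) (pr 3 0) + sc (u 4) (pr 4 0) +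
    sc (u 5) (pr 5 0)) + sc (tot u) (Pi.single 0 (1, 0)) := by
  funext x
  have h1 : ∀ c : F4, fm c (1, 0) = c := by decide
  have hz : ∀ c : F4, fm c 0 = 0 := by decide
  have hs : ∀ c : F4, c + c = 0 := by decide
  fin_cases x <;> simp [sc, pr, tot, Fin.sum_univ_succ, h1, hz]
  rw [show u 1 + u 2 + u 3 + u 4 + u 5 + (u 0 + (u 1 + (u 2 + (u 3 + (u 4 + u 5))))) =
    u 0 + ((u 1 + u 1) + (u 2 + u 2) + (u 3 + u 3) + (u 4 + u 4) + (u 5 + u 5)) by abel]
  simp [hs]

/-- The elements of `F4 v + c E5`. -/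
def dSet (c : F4) (a : F4) (b : Fin 4 → ZMod 2) : V :=
  sc a one6 + ((if b 0 = 0 then 0 else sc c (pr 1 0)) + (if b 1 = 0 then 0 else sc c (pr 2 0)) +
    (if b 2 = 0 then 0 else sc c (pr 3 0)) + (if b 3 = 0 then 0 else sc c (pr 4 0)))

theorem dSet_inj : ∀ c : F4, c ≠ 0 → (Finset.univ.image fun p : F4 × (Fin 4 → ZMod 2) => dSet c p.1 p.2).card = 64 := by
  decide +kernel

set_option synthInstance.maxSize 20000 in
theorem pr_test : ∀ (γ : ZMod 3) (c : F4) (i j : Fin 6), γ ≠ 0 → c ≠ 0 → i ≠ j →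
    ¬ big γ (pr i j + sc (rot (-lg c) (1, 0)) one6) → c = rot γ (1, 0) := by decide +kernel

theorem pr_small : ∀ (γ : ZMod 3) (i j : Fin 6), i ≠ j → ¬ big γ (pr i j) ∧ qf (pr i j) = 0 ∧ pr i j ≠ 0 ∧ tot (pr i j) = 0 := by
  decide +kernel

theorem transvection_test : ∀ γ : ZMod 3, γ ≠ 0 →
    let u : V := ![(1, 0), (0, 1), 0, 0, 0, 0]
    ¬ big γ u ∧ qf u = 0 ∧ u ≠ 0 ∧ tot u = (1, 1) ∧ big γ (u + sc (1, 1) one6) := by decide

theorem lam_test : ∀ c : F4, qf ((Pi.single 0 (1, 0) : V) + sc c one6) = 1 → c = 0 ∨ c = (1, 0) := by decide +kernel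

theorem inv_fm : ∀ e : F4, e ≠ 0 → fm (fm e e) e = (1, 0) := by decide

theorem inv_lg : ∀ c : F4, c ≠ 0 → fm (rot (-lg c) (1, 0)) c = (1, 0) := by decide

theorem sc_fixed_zero (u : V) : sc 0 u = 0 := funext fun i => by
  have : ∀ x : F4, fm 0 x = 0 := by decide
  exact this _

theorem sc_zero (c : F4) : sc c 0 = 0 := funext fun i => by
  have : ∀ c : F4, fm c 0 = 0 := by decide
  exact this _

theorem hsolve {x y : V} (h : x + y = 0) : x = y := by
  calc x = x + y + y := by rw [add_assoc, add_self, add_zero]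
    _ = y := by rw [h, zero_add]

variable {G : Type*} [Group G] {z s : G} {Q R : Subgroup G}
variable [Finite G] {F : Frame z Q} {Fs : Frame s R} {γ : ZMod 3}

namespace Std

variable (S : Std F Fs γ)
include S

theorem one_mem : one6 ∈ S.link.dbar := S.vec ▸ S.link.vec_mem

theorem two_valued {u : V} (hu : u ∈ S.link.dbar) (i j k : Fin 6) : u i = u j ∨ u j = u k ∨ u i = u k := by
  by_contra h
  push Not at h
  obtain ⟨h1, h2, h3⟩ := h
  have hij : i ≠ j := fun e => h1 (by rw [e])
  have hjk : j ≠ k := fun e => h2 (by rw [e])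
  have hik : i ≠ k := fun e => h3 (by rw [e])
  have hσ : Equiv.Perm.sign (Equiv.swap i j * Equiv.swap j k) = 1 := by
    rw [map_mul, Equiv.Perm.sign_swap hij, Equiv.Perm.sign_swap hjk]; rfl
  have h4 := S.link.dbar_iso u hu _ (S.dbar_perm hσ hu)
  rw [bf_cycle hij hjk hik h1 h2 h3] at h4
  exact one_ne_zero h4

theorem exists_pair : ∃ c : F4, c ≠ 0 ∧ ∀ i j, i ≠ j → sc c (pr i j) ∈ S.link.dbar := by
  classical
  obtain ⟨u, hu, hnc⟩ : ∃ u ∈ S.link.dbar, ∃ i j, u i ≠ u j := by
    by_contra hne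
    push Not at hne
    have : Nat.card S.link.dbar ≤ Nat.card F4 := Nat.card_le_card_of_injective (fun u : S.link.dbar => (u : V) 0)
      fun a b e => Subtype.ext (funext fun i => by rw [hne a a.2 i 0, hne b b.2 i 0]; exact e)
    rw [S.card_w_dbar.2, Nat.card_eq_fintype_card] at this
    norm_num [Fintype.card_prod] at this
  obtain ⟨i0, j0, hne⟩ := hnc
  let f : Fin 6 → Bool := fun x => decide (u x = u i0)
  have hf : ∀ x y, f x = f y → u x = u y := by
    intro x y e
    by_cases hx : u x = u i0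
    · simp [f, hx] at e; rw [hx, e]
    · simp [f, hx] at e
      rcases S.two_valued hu x y i0 with h | h | h
      exacts [h, absurd h e, absurd h hx]
  obtain ⟨i, j, k, l, hij, hkl, hkl', hik, hil, hjk, hjl⟩ := pigeon f ⟨i0, j0, by simp [f, Ne.symm hne]⟩
  have hij' : i ≠ j := fun e => hij (by rw [e])
  have huij : u i ≠ u j := fun e => hij (by simp [f, e])
  have hσ : Equiv.Perm.sign (Equiv.swap i j * Equiv.swap k l) = 1 := by
    rw [map_mul, Equiv.Perm.sign_swap hij', Equiv.Perm.sign_swap hkl']; rfl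
  have hp := add_mem (S.dbar_perm hσ hu) hu
  rw [swap_add_self hij' (hf _ _ hkl) hik hil hjk hjl] at hp
  refine ⟨u i + u j, fun e => huij ?_, fun a b hab => ?_⟩
  · have : ∀ x y : F4, x + y = 0 → x = y := by decide
    exact this _ _ e
  · obtain ⟨σ, hσ', ha, hb⟩ := even_pair i j a b hij' hab
    have h := S.dbar_perm hσ' hp
    rw [perm_sc, perm_pr] at h
    rw [show σ.symm i = a by rw [← ha, Equiv.symm_apply_apply],
      show σ.symm j = b by rw [← hb, Equiv.symm_apply_apply]] at h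
    exact h

theorem linear_four (h : ∀ a ∈ S.link.cen, F.Lin a → ∀ u, bf u (F.mu s) = 0 → bf (om u) (F.mu s) = 0 → F.pi a u = u)
    (T : Finset G) (hT : ∀ a ∈ T, a ∈ S.link.cenLin)
    (hinj : ∀ a ∈ T, ∀ b ∈ T, (∀ u, F.pi a u = F.pi b u) → a = b) : T.card ≤ 4 :=
  S.link.bound_four (fun a ha => ⟨(S.link.mem_cen.1 (hT a ha).1).2, (hT a ha).2, h a (hT a ha).1 (hT a ha).2⟩) hinj

theorem linear_many : ∃ T : Finset G, (∀ a ∈ T, a ∈ S.link.cenLin) ∧
    (∀ a ∈ T, ∀ b ∈ T, (∀ u, F.pi a u = F.pi b u) → a = b) ∧ 16 ≤ T.card := by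
  classical
  haveI := Fintype.ofFinite S.link.cen
  haveI := Fintype.ofFinite S.link.cenLin
  let Φ : S.link.cenLin → V → V := fun a => F.pi (a : G)
  choose rep hrep using fun f : {f // f ∈ Finset.univ.image Φ} => show ∃ a, Φ a = f.1 by
    obtain ⟨a, -, e⟩ := Finset.mem_image.1 f.2; exact ⟨a, e⟩
  refine ⟨Finset.univ.image fun f => (rep f : G), ?_, ?_, ?_⟩
  · intro a ha; obtain ⟨f, -, rfl⟩ := Finset.mem_image.1 ha; exact (rep f).2
  · intro a ha b hb e
    obtain ⟨f, -, rfl⟩ := Finset.mem_image.1 ha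
    obtain ⟨f', -, rfl⟩ := Finset.mem_image.1 hb
    have : f = f' := Subtype.ext (by rw [← hrep f, ← hrep f']; exact funext e)
    rw [this]
  · rw [Finset.card_image_of_injective _ (fun f f' e => Subtype.ext (by rw [← hrep f, ← hrep f', Subtype.ext e])),
      Finset.card_univ, Fintype.card_coe]
    have hfib : (Finset.univ : Finset S.link.cenLin).card ≤ 128 * (Finset.univ.image Φ).card := by
      refine Finset.card_le_mul_card_image _ 128 fun f hf => ?_
      obtain ⟨a0, -, ha0⟩ := Finset.mem_image.1 hf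
      have h128 : Nat.card (Q ⊓ R : Subgroup G) = 128 := by rw [S.link.card_inter, S.card_w_dbar.2]
      rw [← h128, ← Nat.card_eq_finsetCard]
      refine Nat.card_le_card_of_injective (fun a => ⟨(a.1 : G) * (a0 : G)⁻¹, ?_⟩) fun a b e => ?_
      · have hm : (a.1 : G) * (a0 : G)⁻¹ ∈ S.link.cen := mul_mem a.1.2.1 (inv_mem a0.2.1)
        obtain ⟨hR, hz⟩ := S.link.mem_cen.1 hm
        refine ⟨F.faithful _ hz fun u => ?_, hR⟩
        have ha' := (Finset.mem_filter.1 a.2).2
        have h0 := (S.link.mem_cen.1 a0.2.1).2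
        have e : F.pi (a.1 : G) (F.pi (a0 : G)⁻¹ u) = F.pi (a0 : G) (F.pi (a0 : G)⁻¹ u) :=
          congrFun (ha'.trans ha0.symm) _
        rw [F.pi_mul (S.link.mem_cen.1 a.1.2.1).2 h0.inv_left, e, ← F.pi_mul h0 h0.inv_left, mul_inv_cancel, F.pi_one]
      · exact Subtype.ext (Subtype.ext (mul_right_cancel (congrArg Subtype.val e)))
    rw [Finset.card_univ, ← Nat.card_eq_fintype_card] at hfib
    have := S.link.card_cenLin_ge
    have := S.link.card_cen
    omega

/-- Linear elements move isotropic vectors by multiples of the vector. -/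
theorem shift_one {a : G} (ha : a ∈ S.link.cenLin) {d : V} (hd : d ∈ S.link.dbar) :
    F.pi a d + d = 0 ∨ F.pi a d + d = one6 := by
  obtain ⟨haR, haz⟩ := S.link.mem_cen.1 ha.1
  obtain ⟨x, hxQ, hxR, rfl⟩ := hd
  rw [← F.pi_mu a haz x hxQ, ← F.mu_mul _ (F.normal a haz x hxQ) _ hxQ]
  have h1 := Fs.comm a haR x hxR
  rw [h1]
  split_ifs
  · left
    rw [F.mu_mul x hxQ x hxQ, add_self]
  · right
    rw [F.mu_mul _ (mul_mem hxQ S.link.mem) x hxQ, F.mu_mul x hxQ s S.link.mem, S.vec]
    rw [show F.mu x + one6 + F.mu x = one6 + (F.mu x + F.mu x) by abel, add_self, add_zero]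

theorem lin_pairs {a : G} (ha : a ∈ S.link.cenLin) {c : F4} (hc : c ≠ 0)
    (hp : ∀ i j, i ≠ j → sc c (pr i j) ∈ S.link.dbar) (d : F4) {i j : Fin 6} (hij : i ≠ j) :
    ∃ e : F4, F.pi a (sc d (pr i j)) = sc d (pr i j) + sc e one6 := by
  obtain ⟨-, haz⟩ := S.link.mem_cen.1 ha.1
  have hinv : ∀ c d : F4, c ≠ 0 → fm (fm d (fm c c)) c = d := by decide
  have hd : sc d (pr i j) = sc (fm d (fm c c)) (sc c (pr i j)) := by rw [sc_sc, hinv c d hc]
  rcases S.shift_one ha (hp i j hij) with e | e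
  · exact ⟨0, by rw [hd, F.lin_sc haz ha.2, hsolve e, sc_fixed_zero, add_zero]⟩
  · refine ⟨fm d (fm c c), ?_⟩
    rw [hd, F.lin_sc haz ha.2, ← sc_add]
    congr 1
    calc F.pi a (sc c (pr i j)) = F.pi a (sc c (pr i j)) + sc c (pr i j) + sc c (pr i j) := by
          rw [add_assoc, add_self, add_zero]
      _ = sc c (pr i j) + one6 := by rw [e, add_comm]

theorem dbar_tot {u : V} (hu : u ∈ S.link.dbar) : tot u = 0 := by
  classical
  by_contra ht
  obtain ⟨c, hc, hp⟩ := S.exists_pair
  have key : ∀ a ∈ S.link.cenLin, ∀ x, ∃ e : F4, F.pi a x = x + sc e one6 := by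
    intro a ha x
    obtain ⟨-, haz⟩ := S.link.mem_cen.1 ha.1
    let Fset : AddSubgroup V :=
      { carrier := {y | ∃ e : F4, F.pi a y = y + sc e one6}
        add_mem' := by
          rintro y y' ⟨e, he⟩ ⟨e', he'⟩
          exact ⟨e + e', by rw [F.pi_add haz, he, he', sc_add_left]; abel⟩
        zero_mem' := ⟨0, by rw [F.pi_zero haz, sc_fixed_zero, add_zero]⟩
        neg_mem' := fun {y} hy => by rwa [show -y = y from by rw [neg_eq_iff_add_eq_zero, add_self]] }
    have hsc : ∀ (d : F4) y, y ∈ Fset → sc d y ∈ Fset := by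
      rintro d y ⟨e, he⟩
      exact ⟨fm d e, by rw [F.lin_sc haz ha.2, he, sc_add, sc_sc]⟩
    have hpr : ∀ i j, i ≠ j → pr i j ∈ Fset := fun i j hij => by
      have := S.lin_pairs ha hc hp (1, 0) hij
      rwa [sc_one] at this
    have hu' : u ∈ Fset := by
      rcases S.shift_one ha hu with e | e
      · exact ⟨0, by rw [sc_fixed_zero, add_zero]; exact hsolve e⟩
      · exact ⟨(1, 0), by
          rw [sc_one]
          calc F.pi a u = F.pi a u + u + u := by rw [add_assoc, add_self, add_zero]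
            _ = u + one6 := by rw [e, add_comm]⟩
    have hpairs : ∀ y : V, sc (y 1) (pr 1 0) + sc (y 2) (pr 2 0) + sc (y 3) (pr 3 0) + sc (y 4) (pr 4 0) +
        sc (y 5) (pr 5 0) ∈ Fset := fun y =>
      add_mem (add_mem (add_mem (add_mem (hsc _ _ (hpr _ _ (by decide))) (hsc _ _ (hpr _ _ (by decide))))
        (hsc _ _ (hpr _ _ (by decide)))) (hsc _ _ (hpr _ _ (by decide)))) (hsc _ _ (hpr _ _ (by decide)))
    have he0 : sc (tot u) (Pi.single 0 (1, 0)) ∈ Fset := by
      have h := decompose u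
      have h2 := add_mem (hpairs u) hu'
      rw [show ∀ P : V, P + u = P + ((sc (u 1) (pr 1 0) + sc (u 2) (pr 2 0) + sc (u 3) (pr 3 0) + sc (u 4) (pr 4 0) +
        sc (u 5) (pr 5 0)) + sc (tot u) (Pi.single 0 (1, 0))) from fun P => by rw [← h], ← add_assoc, add_self,
        zero_add] at h2
      exact h2
    have hall : (Pi.single 0 (1, 0) : V) ∈ Fset := by
      have hinv : ∀ c : F4, c ≠ 0 → fm (fm c c) c = (1, 0) := by decide
      have := hsc (fm (tot u) (tot u)) _ he0
      rwa [sc_sc, hinv _ ht, sc_one] at this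
    show x ∈ Fset
    rw [decompose x]
    exact add_mem (hpairs x) (hsc _ _ hall)
  obtain ⟨T, hT, hinj, h16⟩ := S.linear_many
  have h4 := S.linear_four (fun a haC hal x h1 h2 => by
    obtain ⟨e, he⟩ := key a ⟨haC, hal⟩ x
    rw [S.vec] at h1 h2
    have haz := (S.link.mem_cen.1 haC).2
    have hfix : F.pi a one6 = one6 := by rw [← S.vec]; exact S.link.fix_vec (S.link.mem_cen.1 haC).1 haz
    -- the moved part is orthogonal to everything
    by_cases he0 : e = 0
    · rw [he, he0, sc_fixed_zero, add_zero]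
    exfalso
    have hperp : ∀ y, bf (sc e one6) y = 0 := by
      intro y
      obtain ⟨e', he'⟩ := key a ⟨haC, hal⟩ y
      have hb := F.bf_pi haz x y
      rw [he, he', bf_add_left, bf_add_right, bf_add_right] at hb
      have hxs : ∀ e : F4, bf x (sc e one6) = 0 := fun e => by
        rw [sc_eq, bf_add_right]
        have h2' : bf x (om one6) = 0 := by
          have e1 : tot x = 0 := by
            rw [tot_eq_zero_iff]
            refine ⟨h1, ?_⟩
            have h3 := h1; have h4 := h2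
            rw [bf_one6] at h3 h4
            rw [bf_om_one6]
            have ht' : tot (om x) = om1 (tot x) := by
              simp only [tot, om]
              exact (map_sum (AddMonoidHom.mk' om1 om1_add) _ _).symm
            rw [ht'] at h4
            revert h3 h4
            generalize tot x = t; revert t; decide
          exact ((tot_eq_zero_iff x).1 e1).2
        split_ifs <;> simp [h1, h2', bf_comm x (0 : V), bf_zero_left]
      have hss : bf (sc e one6) (sc e' one6) = 0 := by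
        have : ∀ e e' : F4, bf (sc e one6) (sc e' one6) = 0 := by decide +kernel
        exact this _ _
      rw [hxs, hss, add_zero, add_zero] at hb
      have := hb.trans (add_zero (bf x y)).symm
      exact add_left_cancel this
    have := bf_nondeg hperp
    have hinv : fm (fm e e) e = (1, 0) := inv_fm e he0
    have h5 := congrArg (sc (fm e e)) this
    rw [sc_sc, hinv, sc_one, sc_zero] at h5
    exact one6_spec.2 h5) T hT hinj
  omega

theorem om_one_mem : om one6 ∈ S.link.dbar := by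
  classical
  by_contra hne
  let T : AddSubgroup V := S.link.dbar ⊔ AddSubgroup.zmultiples (om one6)
  have hp : ∀ d ∈ S.link.dbar, bf d (om one6) = 0 := fun d hd => ((tot_eq_zero_iff d).1 (S.dbar_tot hd)).2
  have hiso : ∀ a ∈ T, ∀ b ∈ T, bf a b = 0 := by
    intro a ha b hb
    obtain ⟨a1, ha1, a2, ha2, rfl⟩ := AddSubgroup.mem_sup.1 ha
    obtain ⟨b1, hb1, b2, hb2, rfl⟩ := AddSubgroup.mem_sup.1 hb
    have h2 : ∀ x ∈ AddSubgroup.zmultiples (om one6), x = 0 ∨ x = om one6 := by
      rintro x ⟨n, rfl⟩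
      rcases Int.even_or_odd n with ⟨k, rfl⟩ | ⟨k, rfl⟩
      · left; simp only [add_zsmul]; exact add_self _
      · right; simp only [add_zsmul, two_mul, one_zsmul]; rw [add_self, zero_add]
    rw [bf_add_left, bf_add_right, bf_add_right, S.link.dbar_iso _ ha1 _ hb1]
    have z1 : ∀ x : V, bf x 0 = 0 := fun x => (bf_comm x 0).trans (bf_zero_left x)
    have e1 := hp a1 ha1
    have e2 : bf (om one6) b1 = 0 := (bf_comm _ _).trans (hp b1 hb1)
    rcases h2 a2 ha2 with rfl | rfl <;> rcases h2 b2 hb2 with rfl | rfl <;>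
      simp only [z1, bf_zero_left, e1, e2, bf_self, add_zero]
  have h1 := card_isotropic hiso
  have h2 : S.link.dbar < T :=
    lt_of_le_of_ne le_sup_left fun e => hne (e ▸ le_sup_right (α := AddSubgroup V) (AddSubgroup.mem_zmultiples _))
  have h3 : Nat.card S.link.dbar < Nat.card T := Set.Finite.card_lt_card (Set.toFinite _) h2
  rw [S.card_w_dbar.2] at h3
  omega

/-- A linear element acting nontrivially moves some pair. -/
theorem lin_moves {a : G} (ha : a ∈ S.link.cenLin) {c : F4} (hc : c ≠ 0)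
    (hp : ∀ i j, i ≠ j → sc c (pr i j) ∈ S.link.dbar)
    (hfix : ∀ k : Fin 6, k ≠ 0 → F.pi a (sc c (pr k 0)) = sc c (pr k 0)) : ∀ u, F.pi a u = u := by
  obtain ⟨haR, haz⟩ := S.link.mem_cen.1 ha.1
  have hinv : ∀ c d : F4, c ≠ 0 → fm (fm d (fm c c)) c = d := by decide
  have hk : ∀ (d : F4) (k : Fin 6), k ≠ 0 → F.pi a (sc d (pr k 0)) = sc d (pr k 0) := fun d k hk => by
    rw [← hinv c d hc, ← sc_sc, F.lin_sc haz ha.2, hfix k hk]
  set f0 : V := Pi.single 0 (1, 0)
  have hall : ∀ x, F.pi a x = x + sc (tot x) (F.pi a f0 + f0) := by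
    intro x
    conv_lhs => rw [decompose x]
    conv_rhs => arg 1; rw [decompose x]
    simp only [F.pi_add haz, hk _ _ (show (1 : Fin 6) ≠ 0 by decide), hk _ _ (show (2 : Fin 6) ≠ 0 by decide),
      hk _ _ (show (3 : Fin 6) ≠ 0 by decide), hk _ _ (show (4 : Fin 6) ≠ 0 by decide),
      hk _ _ (show (5 : Fin 6) ≠ 0 by decide), F.lin_sc haz ha.2, sc_add]
    have : ∀ P A B : V, P + A = P + B + (A + B) := fun P A B => by
      calc P + A = P + A + (B + B) := by rw [add_self, add_zero]
        _ = P + B + (A + B) := by abel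
    exact this _ _ _
  set w := F.pi a f0 + f0 with hw
  have hperp : ∀ x, tot x = 0 → bf w x = 0 := by
    intro x hx
    have hxfix : F.pi a x = x := by rw [hall x, hx, sc_fixed_zero, add_zero]
    rw [hw, bf_add_left]
    conv_lhs => arg 1; rw [← hxfix]
    rw [F.bf_pi haz, ← bf_add_left, add_self, bf_zero_left]
  obtain ⟨e, he⟩ : ∃ e : F4, w = sc e one6 := by
    refine ⟨w 0, funext fun i => ?_⟩
    have h1 : ∀ d : F4, bf w (sc d (pr i 0)) = 0 := fun d => by
      by_cases hi : i = 0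
      · subst hi
        have : sc d (pr 0 0) = 0 := by
          funext x
          have h0 : ∀ y : F4, fm d (y + y) = 0 := by revert d; decide
          exact h0 _
        rw [this, bf_comm, bf_zero_left]
      · refine hperp _ ?_
        have : ∀ (d : F4) (i : Fin 6), i ≠ 0 → tot (sc d (pr i 0)) = 0 := by decide +kernel
        exact this d i hi
    by_cases hi : i = 0
    · subst hi
      have : ∀ y : F4, y = fm y (1, 0) := by decide
      exact this _
    have key : ∀ d : F4, bf w (sc d (pr i 0)) = (w i).1 * d.2 + (w i).2 * d.1 + ((w 0).1 * d.2 + (w 0).2 * d.1) := by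
      intro d
      rw [bf, ← Finset.sum_subset (Finset.subset_univ {i, 0}) fun x _ hx => by
        simp only [Finset.mem_insert, Finset.mem_singleton, not_or] at hx
        simp only [sc, pr, Pi.add_apply, Pi.single_eq_of_ne hx.1, Pi.single_eq_of_ne hx.2, add_zero]
        rw [show fm d 0 = 0 by revert d; decide]; simp]
      rw [Finset.sum_insert (by simp [hi]), Finset.sum_singleton]
      have h10 : fm d (1, 0) = d := by revert d; decide
      simp [sc, pr, hi, Ne.symm hi, h10]
    have k1 := (key (1, 0)).symm.trans (h1 (1, 0))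
    have k2 := (key (0, 1)).symm.trans (h1 (0, 1))
    show w i = fm (w 0) (1, 0)
    revert k1 k2
    generalize w i = p; generalize w 0 = q
    revert p q; decide
  rcases lam_test e (by
    have := F.qf_pi haz f0
    rw [show F.pi a f0 = f0 + sc e one6 by rw [← he, hw, add_comm (F.pi a f0), ← add_assoc, add_self, zero_add],
      show qf f0 = 1 by decide] at this
    exact this) with h | h
  · intro u
    rw [hall, he, h, sc_fixed_zero, sc_zero, add_zero]
  · exfalso
    obtain ⟨t1, t2, t3, t4, t5⟩ := transvection_test γ S.gne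
    set u0 : V := ![(1, 0), (0, 1), 0, 0, 0, 0]
    have e1 : F.pi a u0 = u0 + sc (1, 1) one6 := by rw [hall, he, h, sc_one, t4]
    have hr : F.Rel u0 (u0 + sc (1, 1) one6) := ⟨a, haz, e1⟩
    exact t1 ((((S.classes u0 _ t2 t3 ((F.qf_of_rel hr).trans t2) (F.ne_zero_of_rel hr t3)).1 hr)).2 t5)

/-- The pairs scaled by the class parameter lie in the intersection. -/
theorem pair_mem : ∀ i j, i ≠ j → sc (rot γ (1, 0)) (pr i j) ∈ S.link.dbar := by
  classical
  obtain ⟨c, hc, hp⟩ := S.exists_pair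
  suffices c = rot γ (1, 0) by subst this; exact hp
  obtain ⟨T, hT, hinj, h16⟩ := S.linear_many
  obtain ⟨a, ha, hne⟩ : ∃ a ∈ T, ∃ k : Fin 6, k ≠ 0 ∧ F.pi a (sc c (pr k 0)) ≠ sc c (pr k 0) := by
    by_contra hall
    push Not at hall
    have : T.card ≤ 1 := Finset.card_le_one.2 fun a ha b hb => hinj a ha b hb fun u => by
      rw [S.lin_moves (hT a ha) hc hp (hall a ha), S.lin_moves (hT b hb) hc hp (hall b hb)]
    omega
  obtain ⟨k, hk, hmove⟩ := hne
  have haL := hT a ha
  obtain ⟨-, haz⟩ := S.link.mem_cen.1 haL.1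
  have e1 : F.pi a (sc c (pr k 0)) = sc c (pr k 0) + one6 := by
    rcases S.shift_one haL (hp k 0 hk) with e | e
    · exact absurd (hsolve e) hmove
    · calc F.pi a (sc c (pr k 0)) = F.pi a (sc c (pr k 0)) + sc c (pr k 0) + sc c (pr k 0) := by
            rw [add_assoc, add_self, add_zero]
        _ = _ := by rw [e, add_comm]
  have h1 : fm (rot (-lg c) (1, 0)) c = (1, 0) := inv_lg c hc
  have e2 : F.pi a (pr k 0) = pr k 0 + sc (rot (-lg c) (1, 0)) one6 := by
    have := congrArg (sc (rot (-lg c) (1, 0))) e1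
    rw [← F.lin_sc haz haL.2, sc_add, sc_sc, h1, sc_one] at this
    exact this
  obtain ⟨p1, p2, p3, -⟩ := pr_small γ k 0 hk
  have hr : F.Rel (pr k 0) (pr k 0 + sc (rot (-lg c) (1, 0)) one6) := ⟨a, haz, e2⟩
  refine pr_test γ c k 0 S.gne hc hk fun hb => p1 ?_
  exact ((S.classes _ _ p2 p3 ((F.qf_of_rel hr).trans p2) (F.ne_zero_of_rel hr p3)).1 hr).2 hb

theorem one_sc_mem (a : F4) : sc a one6 ∈ S.link.dbar := by
  rcases sc_mem_cases one6 a with h | h | h | h <;> rw [h]
  exacts [zero_mem _, S.one_mem, S.om_one_mem, add_mem S.one_mem S.om_one_mem]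

/-- The intersection in coordinates. -/
theorem mem_dbar_iff (u : V) :
    u ∈ S.link.dbar ↔ ∃ a b, dSet (rot γ (1, 0)) a b = u := by
  classical
  have hmem : ∀ a b, dSet (rot γ (1, 0)) a b ∈ S.link.dbar := by
    intro a b
    refine add_mem (S.one_sc_mem a) (add_mem (add_mem (add_mem ?_ ?_) ?_) ?_) <;> split_ifs <;>
      first | exact zero_mem _ | exact S.pair_mem _ _ (by decide)
  refine ⟨fun hu => ?_, fun ⟨a, b, e⟩ => e ▸ hmem a b⟩
  have hc0 : rot γ (1, 0) ≠ (0 : F4) := by
    have : ∀ g : ZMod 3, rot g (1, 0) ≠ (0 : F4) := by decide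
    exact this γ
  set img := Finset.univ.image fun p : F4 × (Fin 4 → ZMod 2) => dSet (rot γ (1, 0)) p.1 p.2
  haveI := Fintype.ofFinite S.link.dbar
  have hsub : img ⊆ (S.link.dbar : Set V).toFinset := fun x hx => by
    obtain ⟨p, -, rfl⟩ := Finset.mem_image.1 hx
    simpa using hmem _ _
  have heq : img = (S.link.dbar : Set V).toFinset := Finset.eq_of_subset_of_card_le hsub (by
    rw [dSet_inj _ hc0, Set.toFinset_card]
    have := S.card_w_dbar.2
    rw [Nat.card_eq_fintype_card] at this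
    exact le_of_eq (this ▸ rfl))
  have : u ∈ img := by rw [heq]; simpa using hu
  obtain ⟨p, -, e⟩ := Finset.mem_image.1 this
  exact ⟨p.1, p.2, e⟩

/-- The elementary subgroup is not linear. -/
theorem exists_nonlin : ∃ a ∈ S.link.cen, ¬ F.Lin a := by
  classical
  by_contra hall
  push Not at hall
  have hp := S.pair_mem
  have hc0 : rot γ (1, 0) ≠ (0 : F4) := by
    have : ∀ g : ZMod 3, rot g (1, 0) ≠ (0 : F4) := by decide
    exact this γ
  set c := rot γ (1, 0) with hc
  have h32 : Nat.card S.link.wgrp = 32 := S.card_w_dbar.1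
  haveI := Fintype.ofFinite S.link.wgrp
  choose a ha haz hae using fun w : S.link.wgrp => S.link.mem_wgrp.1 w.2
  have hlin : ∀ w, a w ∈ S.link.cenLin := fun w =>
    ⟨S.link.mem_cen.2 ⟨ha w, haz w⟩, hall _ (S.link.mem_cen.2 ⟨ha w, haz w⟩)⟩
  let φ : S.link.wgrp → (Fin 4 → Bool) := fun w k => decide (F.pi (a w) (sc c (pr k.succ.castSucc 0)) = sc c (pr k.succ.castSucc 0))
  have hφ : Function.Injective φ := by
    intro w w' e
    have he : ∀ k : Fin 6, k ≠ 0 → k ≠ 5 → F.pi (a w) (sc c (pr k 0)) = F.pi (a w') (sc c (pr k 0)) := by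
      intro k hk hk5
      obtain ⟨k', rfl⟩ : ∃ k' : Fin 4, k'.succ.castSucc = k :=
        (by decide : ∀ k : Fin 6, k ≠ 0 → k ≠ 5 → ∃ k' : Fin 4, k'.succ.castSucc = k) k hk hk5
      have hk' := congrFun e k'
      simp only [φ, decide_eq_decide] at hk'
      have hs1 := S.shift_one (hlin w) (hp _ 0 hk)
      have hs2 := S.shift_one (hlin w') (hp _ 0 hk)
      by_cases hf : F.pi (a w) (sc c (pr k'.succ.castSucc 0)) = sc c (pr k'.succ.castSucc 0)
      · rw [hf, hk'.1 hf]
      · have hf' := fun h => hf (hk'.2 h)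
        have e1 := hs1.resolve_left fun h => hf (hsolve h)
        have e2 := hs2.resolve_left fun h => hf' (hsolve h)
        exact add_right_cancel (e1.trans e2.symm)
    have hfix1 : ∀ w, F.pi (a w) (sc c one6) = sc c one6 := fun w => by
      have := S.link.fix_vec (ha w) (haz w)
      rw [S.vec] at this
      rw [F.lin_sc (haz w) (hlin w).2, this]
    have h5 : F.pi (a w) (sc c (pr 5 0)) = F.pi (a w') (sc c (pr 5 0)) := by
      have e5 : sc c (pr 5 0) = sc c one6 + sc c (pr 1 0) + sc c (pr 2 0) + sc c (pr 3 0) + sc c (pr 4 0) := by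
        rw [← sc_add, ← sc_add, ← sc_add, ← sc_add]
        congr 1
        decide
      rw [e5]
      simp only [F.pi_add (haz w), F.pi_add (haz w'), hfix1, he _ (by decide : (1 : Fin 6) ≠ 0) (by decide),
        he _ (by decide : (2 : Fin 6) ≠ 0) (by decide), he _ (by decide : (3 : Fin 6) ≠ 0) (by decide),
        he _ (by decide : (4 : Fin 6) ≠ 0) (by decide)]
    have hb := S.link.cenLin.mul_mem (S.link.cenLin.inv_mem (hlin w')) (hlin w)
    have hid := S.lin_moves hb hc0 hp fun k hk => by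
      have e1 : F.pi (a w) (sc c (pr k 0)) = F.pi (a w') (sc c (pr k 0)) := by
        by_cases hk5 : k = 5
        · subst hk5; exact h5
        · exact he k hk hk5
      rw [F.pi_mul (haz w').inv_left (haz w), e1, F.pi_inv_apply (haz w')]
    refine Subtype.ext (Equiv.ext fun u => ?_)
    have h := congrArg (F.pi (a w')) (hid u)
    rw [← F.pi_mul (haz w') ((haz w').inv_left.mul_left (haz w)), mul_inv_cancel_left] at h
    rw [hae, hae, h]
  have := Nat.card_le_card_of_injective φ hφ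
  rw [h32, Nat.card_eq_fintype_card] at this
  norm_num at this

/-- A linear element permuting coordinates induces an even permutation. -/
theorem even_of_lin {h : G} (hh : Commute h z) (hl : F.Lin h) {σ : Equiv.Perm (Fin 6)}
    (he : ∀ u, F.pi h u = perm σ u) : Equiv.Perm.sign σ = 1 := by
  classical
  have hx : F.permHom ⟨h, Subgroup.mem_centralizer_singleton_iff.2 hh⟩ ∈ S.link.xgrp :=
    S.link.mem_xgrp.2 ⟨h, hh, by rw [he, S.vec]; rfl, fun u => rfl⟩
  obtain ⟨w, hw, τ, e⟩ := S.exists_decomp hx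
  obtain ⟨a, haR, haz, hwa⟩ := S.link.mem_wgrp.1 hw
  obtain ⟨k, hk, hke⟩ := F.perm_mem (τ : Equiv.Perm (Fin 6))⁻¹ (by
    rw [map_inv, Equiv.Perm.mem_alternatingGroup.1 τ.2, inv_one])
  have hpi : ∀ u, F.pi h u = F.pi a (F.pi k u) := fun u => by
    have := congrArg (fun p : Equiv.Perm V => p u) e
    rw [Frame.permHom_apply, Equiv.Perm.mul_apply, hwa, altHom_apply, ← hke] at this
    exact this
  set ρ : Equiv.Perm (Fin 6) := (τ : Equiv.Perm (Fin 6)) * σ with hρ
  have hau : ∀ u, F.pi a u = perm ρ u := by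
    intro u
    have h1 := hpi (perm (τ : Equiv.Perm (Fin 6)) u)
    rw [he, hke] at h1
    have e2 : perm (τ : Equiv.Perm (Fin 6))⁻¹ (perm (τ : Equiv.Perm (Fin 6)) u) = u := by
      funext i; simp [perm]
    rw [e2] at h1
    rw [← h1]; rfl
  have hal : F.Lin a := fun u => by rw [hau, hau]; rfl
  have hsmall : ∀ (ρ : Equiv.Perm (Fin 6)) (c : F4), c ≠ 0 → ∀ i j : Fin 6, perm ρ (sc c (pr i j)) + sc c (pr i j) ≠ one6 := by
    intro ρ c hc i j e
    have key : ∀ (c : F4) (a b i j : Fin 6), c ≠ 0 → sc c (pr a b) + sc c (pr i j) ≠ one6 := by decide +kernel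
    rw [perm_sc, perm_pr] at e
    exact key c _ _ i j hc e
  have hc0 : rot γ (1, 0) ≠ (0 : F4) := by
    have : ∀ g : ZMod 3, rot g (1, 0) ≠ (0 : F4) := by decide
    exact this γ
  have hid := S.lin_moves (a := a) ⟨S.link.mem_cen.2 ⟨haR, haz⟩, hal⟩ hc0 S.pair_mem fun k hk => by
    rcases S.shift_one (a := a) ⟨S.link.mem_cen.2 ⟨haR, haz⟩, hal⟩ (S.pair_mem k 0 hk) with e | e
    · exact hsolve e
    · rw [hau] at e
      exact absurd e (hsmall ρ _ hc0 k 0)
  have hρ1 : ρ = 1 := by
    refine Equiv.ext fun i => ?_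
    rw [Equiv.Perm.one_apply]
    by_contra hne
    have h1 := congrFun ((hau (Pi.single i (1, 0))).symm.trans (hid _)) i
    simp only [perm, Pi.single_eq_same, Pi.single_eq_of_ne hne] at h1
    exact absurd h1 (by decide)
  rw [hρ, mul_eq_one_iff_inv_eq] at hρ1
  rw [← hρ1, map_inv, Equiv.Perm.mem_alternatingGroup.1 τ.2, inv_one]

end Std

end Cfsg.Agent.LFType23
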