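import Cfsg.Agent.LFType23.Split
import Mathlib

/-!
Data in a central extension of order three of a group with an elementary abelian subgroup of order 81.
-/
set_option autoImplicit false

namespace Cfsg.Agent.LFType23

open scoped commutatorElement

theorem zmod3_cases2 : ∀ y : ZMod 3, y = 0 ∨ y = 1 ∨ y = 1 + 1 := by decide

theorem perfect_of_simple {A : Type*} [Group A] [IsSimpleGroup A] (hA : ¬ (Nat.card A).Prime) [Finite A] :
    commutator A = ⊤ := by
  rcases IsSimpleGroup.eq_bot_or_eq_top_of_normal (commutator A) inferInstance with h | h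
  · exfalso
    have hc : ∀ x y : A, x * y = y * x := fun x y => by
      rw [← commutatorElement_eq_one_iff_mul_comm, ← Subgroup.mem_bot, ← h]
      exact Subgroup.commutator_mem_commutator (Subgroup.mem_top _) (Subgroup.mem_top _)
    letI : CommGroup A := { (inferInstance : Group A) with mul_comm := hc }
    exact hA IsSimpleGroup.prime_card
  · exact h

/-- Subgroup of order 243, perfect symmetry group and their properties. -/
theorem cover_data {M U : Type*} [Group M] [Finite M] [Group U] [Finite U]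
    (θ : M →* U) (hθ : Function.Surjective θ) (hker : Nat.card θ.ker = 3)
    (hcen : ∀ k ∈ θ.ker, ∀ m : M, Commute k m)
    (E L : Subgroup U) (hEc : Nat.card E = 81) (hEcomm : ∀ x ∈ E, ∀ y ∈ E, Commute x y)
    (hE3 : ∀ x ∈ E, x ^ 3 = 1) (hLs : IsSimpleGroup L) (hLc : Nat.card L = 360)
    (hconj : ∀ l ∈ L, ∀ x ∈ E, l * x * l⁻¹ ∈ E)
    (hfun : ∀ f : U → ZMod 3, (∀ x ∈ E, ∀ y ∈ E, f (x * y) = f x + f y) →
      (∀ l ∈ L, ∀ x ∈ E, f (l * x * l⁻¹) = f x) → ∀ x ∈ E, f x = 0)
    (halt : ∀ κ : U → U → ZMod 3,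
      (∀ x ∈ E, ∀ x' ∈ E, ∀ y ∈ E, κ (x * x') y = κ x y + κ x' y) →
      (∀ x ∈ E, ∀ y ∈ E, ∀ y' ∈ E, κ x (y * y') = κ x y + κ x y') →
      (∀ x ∈ E, κ x x = 0) →
      (∀ l ∈ L, ∀ x ∈ E, ∀ y ∈ E, κ (l * x * l⁻¹) (l * y * l⁻¹) = κ x y) →
      ∀ x ∈ E, ∀ y ∈ E, κ x y = 0) :
    ∃ (π : PV → M) (r0 : PV) (Λ : Subgroup M),
      (∀ p q, π (p + q) = π p * π q) ∧ Function.Injective π ∧ r0 ≠ 0 ∧ π r0 ∈ θ.ker ∧
      (∀ {A : Type} [CommGroup A] (g : Λ →* A) (x : Λ), g x = 1) ∧
      (∀ h ∈ Λ, ∀ p, ∃ q, π q = h * π p * h⁻¹) ∧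
      (∀ f : PV, (∀ h ∈ Λ, ∀ p q, π q = h * π p * h⁻¹ → dt f q = dt f p) → dt f r0 = 0 → f = 0) ∧
      (∀ n ≤ 6, ∀ φ : Λ →* Equiv.Perm (Fin n), (∀ x, φ x = 1) ∨
        (n = 6 ∧ ∀ σ : Equiv.Perm (Fin n), Equiv.Perm.sign σ = 1 → ∃ x, φ x = σ)) := by
  classical
  haveI : Fact (Nat.Prime 3) := ⟨Nat.prime_three⟩
  set Z := θ.ker with hZdef
  haveI : IsCyclic Z := isCyclic_of_prime_card hker
  let ζ : Multiplicative (ZMod (Nat.card Z)) ≃* Z := zmodCyclicMulEquiv inferInstance
  let ε : Multiplicative (ZMod 3) ≃* Z := (AddEquiv.toMultiplicative (ZMod.ringEquivCongr hker.symm).toAddEquiv).trans ζ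
  let lgz : M → ZMod 3 := fun k => if h : k ∈ Z then Multiplicative.toAdd (ε.symm ⟨k, h⟩) else 0
  have lgz_mul : ∀ a ∈ Z, ∀ b ∈ Z, lgz (a * b) = lgz a + lgz b := fun a ha b hb => by
    simp only [lgz, dif_pos ha, dif_pos hb, dif_pos (mul_mem ha hb), ← toAdd_mul, ← map_mul]
    rfl
  have lgz_eq : ∀ a ∈ Z, lgz a = 0 → a = 1 := fun a ha h => by
    simp only [lgz, dif_pos ha, toAdd_eq_zero, map_eq_one_iff ε.symm ε.symm.injective] at h
    exact congrArg Subtype.val h
  let σ : U → M := Function.surjInv hθ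
  have hσ : ∀ u, θ (σ u) = u := Function.surjInv_eq hθ
  have hdiff : ∀ x u, θ x = u → ∃ k ∈ Z, x = σ u * k := fun x u h => ⟨(σ u)⁻¹ * x, by
    rw [hZdef, MonoidHom.mem_ker, map_mul, map_inv, hσ, h, inv_mul_cancel], by group⟩
  have hcube : ∀ k ∈ Z, k ^ 3 = 1 := fun k hk => by
    have := pow_card_eq_one' (x := (⟨k, hk⟩ : Z))
    rw [hker] at this
    exact congrArg Subtype.val this
  set P := E.comap θ with hP
  set Lh := L.comap θ with hLh
  have hPcard : Nat.card P = 243 := by
    have h1 := P.card_mul_index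
    have h2 := E.card_mul_index
    have h3 : Nat.card M = Nat.card U * 3 := by
      rw [← hker, Subgroup.card_eq_card_quotient_mul_card_subgroup θ.ker,
        Nat.card_congr (QuotientGroup.quotientKerEquivOfSurjective θ hθ).toEquiv]
    rw [hP, Subgroup.index_comap_of_surjective _ hθ, h3, ← h2, hEc] at h1
    have hpos : 0 < E.index := Nat.pos_of_ne_zero Subgroup.index_ne_zero_of_finite
    rw [hP]
    nlinarith
  -- commutators
  have comm_mem : ∀ {x y : M}, x ∈ P → y ∈ P → ⁅x, y⁆ ∈ Z := fun hx hy => by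
    rw [hZdef, MonoidHom.mem_ker, map_commutatorElement, commutatorElement_eq_one_iff_commute]
    exact hEcomm _ hx _ hy
  have comm_congr : ∀ x y : M, ∀ k ∈ Z, ∀ k' ∈ Z, ⁅x * k, y * k'⁆ = ⁅x, y⁆ := by
    intro x y k hk k' hk'
    rw [commutatorElement_def, commutatorElement_def]
    calc x * k * (y * k') * (x * k)⁻¹ * (y * k')⁻¹
        = x * (k * (y * k') * k⁻¹) * x⁻¹ * (k'⁻¹ * y⁻¹) := by group
      _ = x * (y * k') * x⁻¹ * (k'⁻¹ * y⁻¹) := by rw [(hcen k hk (y * k')).eq, mul_inv_cancel_right]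
      _ = x * y * (k' * x⁻¹) * k'⁻¹ * y⁻¹ := by group
      _ = x * y * x⁻¹ * y⁻¹ := by rw [(hcen k' hk' x⁻¹).eq]; group
  have hPσ : ∀ u ∈ E, σ u ∈ P := fun u hu => by rw [hP, Subgroup.mem_comap, hσ]; exact hu
  let κ : U → U → ZMod 3 := fun u v => lgz ⁅σ u, σ v⁆
  have κ_of : ∀ x y : M, κ (θ x) (θ y) = lgz ⁅x, y⁆ := by
    intro x y
    obtain ⟨k, hk, e⟩ := hdiff x _ rfl
    obtain ⟨k', hk', e'⟩ := hdiff y _ rfl
    conv_rhs => rw [e, e', comm_congr _ _ k hk k' hk']
  have hκ : ∀ x ∈ E, ∀ y ∈ E, κ x y = 0 := by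
    refine halt κ (fun x hx x' hx' y hy => ?_) (fun x hx y hy y' hy' => ?_) (fun x _ => ?_) fun l hl x hx y hy => ?_
    · have h1 := κ_of (σ x * σ x') (σ y)
      rw [map_mul, hσ, hσ, hσ] at h1
      rw [h1, show ⁅σ x * σ x', σ y⁆ = σ x * ⁅σ x', σ y⁆ * (σ x)⁻¹ * ⁅σ x, σ y⁆ by
        simp only [commutatorElement_def]; group,
        ← (hcen _ (comm_mem (hPσ _ hx') (hPσ _ hy)) (σ x)).eq, mul_inv_cancel_right,
        lgz_mul _ (comm_mem (hPσ _ hx') (hPσ _ hy)) _ (comm_mem (hPσ _ hx) (hPσ _ hy)), add_comm]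
    · have h1 := κ_of (σ x) (σ y * σ y')
      rw [map_mul, hσ, hσ, hσ] at h1
      rw [h1, show ⁅σ x, σ y * σ y'⁆ = ⁅σ x, σ y⁆ * (σ y * ⁅σ x, σ y'⁆ * (σ y)⁻¹) by
        simp only [commutatorElement_def]; group,
        ← (hcen _ (comm_mem (hPσ _ hx) (hPσ _ hy')) (σ y)).eq, mul_inv_cancel_right,
        lgz_mul _ (comm_mem (hPσ _ hx) (hPσ _ hy)) _ (comm_mem (hPσ _ hx) (hPσ _ hy'))]
    · show lgz ⁅σ x, σ x⁆ = 0
      rw [commutatorElement_self]
      have := lgz_mul 1 (one_mem Z) 1 (one_mem Z); rw [one_mul] at this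
      linear_combination -this
    · have h1 := κ_of (σ l * σ x * (σ l)⁻¹) (σ l * σ y * (σ l)⁻¹)
      simp only [map_mul, map_inv, hσ] at h1
      rw [h1]
      show lgz _ = lgz _
      congr 1
      rw [show ⁅σ l * σ x * (σ l)⁻¹, σ l * σ y * (σ l)⁻¹⁆ = σ l * ⁅σ x, σ y⁆ * (σ l)⁻¹ by
        simp only [commutatorElement_def]; group,
        ← (hcen _ (comm_mem (hPσ _ hx) (hPσ _ hy)) (σ l)).eq, mul_inv_cancel_right]
  have hPcomm : ∀ x ∈ P, ∀ y ∈ P, Commute x y := fun x hx y hy => by
    have := hκ _ hx _ hy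
    rw [κ_of] at this
    exact commutatorElement_eq_one_iff_commute.1 (lgz_eq _ (comm_mem hx hy) this)
  -- exponent
  let cu : U → ZMod 3 := fun u => lgz (σ u ^ 3)
  have hP3mem : ∀ x ∈ P, x ^ 3 ∈ Z := fun x hx => by
    rw [hZdef, MonoidHom.mem_ker, map_pow]; exact hE3 _ hx
  have cu_of : ∀ x : M, cu (θ x) = lgz (x ^ 3) := by
    intro x
    obtain ⟨k, hk, e⟩ := hdiff x _ rfl
    conv_rhs => rw [e, (hcen k hk _).symm.mul_pow, hcube k hk, mul_one]
  have hcu : ∀ x ∈ E, cu x = 0 := by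
    refine hfun cu (fun x hx y hy => ?_) fun l hl x hx => ?_
    · have h1 := cu_of (σ x * σ y)
      rw [map_mul, hσ, hσ] at h1
      rw [h1, (hPcomm _ (hPσ _ hx) _ (hPσ _ hy)).mul_pow, lgz_mul _ (hP3mem _ (hPσ _ hx)) _ (hP3mem _ (hPσ _ hy))]
    · have h1 := cu_of (σ l * σ x * (σ l)⁻¹)
      simp only [map_mul, map_inv, hσ] at h1
      rw [h1, conj_pow, ← (hcen _ (hP3mem _ (hPσ _ hx)) (σ l)).eq, mul_inv_cancel_right]
  have hP3 : ∀ x ∈ P, x ^ 3 = 1 := fun x hx => by
    have := hcu _ hx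
    rw [cu_of] at this
    exact lgz_eq _ (hP3mem x hx) this
  -- coordinates
  letI : CommGroup P := { (inferInstance : Group P) with mul_comm := fun a b => Subtype.ext (hPcomm a a.2 b b.2).eq }
  letI : Module (ZMod 3) (Additive P) := AddCommGroup.zmodModule fun v => by
    apply Additive.toMul.injective
    show (Additive.toMul v : P) ^ 3 = 1
    exact Subtype.ext (hP3 _ (Additive.toMul v).2)
  haveI : Module.Finite (ZMod 3) (Additive P) := Module.Finite.of_finite
  have hrank : Module.finrank (ZMod 3) (Additive P) = 5 := by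
    have h := Module.natCard_eq_pow_finrank (K := ZMod 3) (V := Additive P)
    rw [Nat.card_congr Additive.toMul, hPcard, Nat.card_zmod, show 243 = 3 ^ 5 from rfl] at h
    exact (Nat.pow_right_injective (by norm_num) h).symm
  let B : Additive P ≃ₗ[ZMod 3] PV := (Module.finBasisOfFinrankEq (ZMod 3) (Additive P) hrank).equivFun
  let π : PV → M := fun p => ((Additive.toMul (B.symm p) : P) : M)
  have hπmem : ∀ p, π p ∈ P := fun p => (Additive.toMul (B.symm p) : P).2
  have hπadd : ∀ p q, π (p + q) = π p * π q := fun p q => by simp only [π, map_add]; rfl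
  have hπinj : Function.Injective π := fun p q h =>
    B.symm.injective (Additive.toMul.injective (Subtype.ext h))
  have hπsurj : ∀ x ∈ P, ∃ p, π p = x := fun x hx =>
    ⟨B (Additive.ofMul ⟨x, hx⟩), by simp only [π, LinearEquiv.symm_apply_apply]; rfl⟩
  let k0 : Z := ε (Multiplicative.ofAdd 1)
  have hk0P : (k0 : M) ∈ P := by
    rw [hP, Subgroup.mem_comap, MonoidHom.mem_ker.1 k0.2]; exact one_mem E
  obtain ⟨r0, hr0⟩ := hπsurj _ hk0P
  have hπ0 : π 0 = 1 := by
    have := hπadd 0 0; rw [add_zero] at this; simpa using this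
  have hr0ne : r0 ≠ 0 := fun h => by
    rw [h, hπ0] at hr0
    have : ε (Multiplicative.ofAdd 1) = 1 := Subtype.ext hr0.symm
    rw [map_eq_one_iff ε ε.injective] at this
    exact one_ne_zero (congrArg Multiplicative.toAdd this : (1 : ZMod 3) = 0)
  -- the perfect group
  set Λ : Subgroup M := ⁅Lh, Lh⁆ with hΛ
  have hΛle : Λ ≤ Lh := Subgroup.commutator_le_self Lh
  have hLperf : ⁅L, L⁆ = L := by
    have h := congrArg (Subgroup.map L.subtype) (perfect_of_simple (A := L) (by rw [hLc]; norm_num))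
    rwa [commutator, Subgroup.map_commutator, ← MonoidHom.range_eq_map, Subgroup.range_subtype] at h
  have hΛmap : Λ.map θ = L := by
    rw [hΛ, Subgroup.map_commutator, hLh, Subgroup.map_comap_eq_self_of_surjective hθ, hLperf]
  have hsplit : ∀ x ∈ Lh, ∃ l ∈ Λ, ∃ k ∈ Z, x = l * k := by
    intro x hx
    obtain ⟨l, hl, e⟩ := Subgroup.mem_map.1 (show θ x ∈ Λ.map θ by rw [hΛmap]; exact hx)
    exact ⟨l, hl, l⁻¹ * x, by rw [hZdef, MonoidHom.mem_ker, map_mul, map_inv, e, inv_mul_cancel], by group⟩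
  have hΛperf : ⁅Λ, Λ⁆ = Λ := by
    refine le_antisymm (Subgroup.commutator_le_self Λ) (Subgroup.commutator_le.2 fun a ha b hb => ?_)
    obtain ⟨l, hl, k, hk, rfl⟩ := hsplit a ha
    obtain ⟨l', hl', k', hk', rfl⟩ := hsplit b hb
    rw [comm_congr _ _ k hk k' hk']
    exact Subgroup.commutator_mem_commutator hl hl'
  have hperfhom : ∀ {A : Type} [CommGroup A] (g : Λ →* A) (x : Λ), g x = 1 := by
    intro A _ g x
    have h := congrArg (Subgroup.comap Λ.subtype) hΛperf
    have h2 : commutator Λ = ⊤ := by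
      apply Subgroup.map_injective Λ.subtype_injective
      rw [commutator, Subgroup.map_commutator, ← MonoidHom.range_eq_map, Subgroup.range_subtype, hΛperf]
    exact Abelianization.commutator_subset_ker g (h2 ▸ Subgroup.mem_top x)
  refine ⟨π, r0, Λ, hπadd, hπinj, hr0ne, hr0 ▸ k0.2, hperfhom, fun h hh p => ?_, fun f hf hfr => ?_, fun n hn φ => ?_⟩
  · refine hπsurj _ ?_
    show θ (h * π p * h⁻¹) ∈ E
    rw [map_mul, map_mul, map_inv]
    exact hconj _ (hΛle hh) _ (hπmem p)
  · -- invariant functionals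
    have hdz : ∀ p, π p ∈ Z → dt f p = 0 := by
      intro p hp
      have hp' : ∃ c : ZMod 3, π p = π (c • r0) := by
        obtain ⟨m, hm⟩ := ε.surjective ⟨π p, hp⟩
        refine ⟨Multiplicative.toAdd m, ?_⟩
        have h1 : π p = (ε m : M) := (congrArg Subtype.val hm).symm
        rw [h1]
        obtain ⟨c, rfl⟩ := Multiplicative.ofAdd.surjective m
        rcases zmod3_cases2 c with rfl | rfl | rfl
        · simp [hπ0]
        · simp only [toAdd_ofAdd, one_smul, hr0]; rfl
        · simp only [ofAdd_add, map_mul, toAdd_mul, toAdd_ofAdd, add_smul, one_smul, hπadd, hr0]; rfl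
      obtain ⟨c, hc⟩ := hp'
      rw [hπinj hc, dt_smul, hfr, mul_zero]
    choose pr hpr using hπsurj
    let F : U → ZMod 3 := fun u => if h : σ u ∈ P then dt f (pr _ h) else 0
    have F_of : ∀ p, F (θ (π p)) = dt f p := by
      intro p
      have hm : σ (θ (π p)) ∈ P := by rw [hP, Subgroup.mem_comap, hσ]; exact hπmem p
      simp only [F, dif_pos hm]
      obtain ⟨k, hk, e⟩ := hdiff (π p) _ rfl
      have hkP : k ∈ P := by
        rw [hP, Subgroup.mem_comap, MonoidHom.mem_ker.1 hk]; exact one_mem E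
      have hq : dt f (pr _ hkP) = 0 := hdz _ (by rw [hpr]; exact hk)
      have : p = pr _ hm + pr _ hkP := hπinj (by rw [hπadd, hpr, hpr, ← e])
      conv_rhs => rw [this, dt_add, hq, add_zero]
    have hF : ∀ x ∈ E, F x = 0 := by
      refine hfun F (fun x hx y hy => ?_) fun l hl x hx => ?_
      · have ex := hpr _ (hPσ x hx)
        have ey := hpr _ (hPσ y hy)
        have e : θ (π (pr _ (hPσ x hx) + pr _ (hPσ y hy))) = x * y := by
          rw [hπadd, ex, ey, map_mul, hσ, hσ]
        rw [← e, F_of, dt_add]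
        simp only [F, dif_pos (hPσ x hx), dif_pos (hPσ y hy)]
      · obtain ⟨g, hg, rfl⟩ := Subgroup.mem_map.1 (hΛmap.symm ▸ hl)
        have ex := hpr _ (hPσ x hx)
        have hq : g * π (pr _ (hPσ x hx)) * g⁻¹ ∈ P := by
          rw [hP, Subgroup.mem_comap, map_mul, map_mul, map_inv, ex, hσ]; exact hconj _ (hΛle hg) _ hx
        have e : θ (π (pr _ hq)) = θ g * x * (θ g)⁻¹ := by
          rw [hpr _ hq, map_mul, map_mul, map_inv, ex, hσ]
        rw [← e, F_of, hf g hg _ _ (hpr _ hq)]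
        simp only [F, dif_pos (hPσ x hx)]
    funext i
    have := hF _ (hπmem (Pi.single i 1))
    rwa [F_of, dt_single] at this
  · -- small actions
    by_cases htriv : ∀ x, φ x = 1
    · exact Or.inl htriv
    right
    let θL : Λ →* L := (θ.comp Λ.subtype).codRestrict L fun x => hΛle x.2
    have hθL : Function.Surjective θL := fun l => by
      obtain ⟨g, hg, e⟩ := Subgroup.mem_map.1 (show (l : U) ∈ Λ.map θ by rw [hΛmap]; exact l.2)
      exact ⟨⟨g, hg⟩, Subtype.ext e⟩
    have hK : φ.ker ≤ θL.ker := by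
      rcases hLs.eq_bot_or_eq_top_of_normal (φ.ker.map θL) (Subgroup.Normal.map inferInstance _ hθL) with h | h
      · exact (Subgroup.map_eq_bot_iff _).1 h
      · refine absurd (fun x => ?_) htriv
        have hc : ∀ a b : φ.range, a * b = b * a := by
          rintro ⟨_, a, rfl⟩ ⟨_, b, rfl⟩
          apply Subtype.ext
          show φ a * φ b = φ b * φ a
          obtain ⟨a', ha', ea⟩ := Subgroup.mem_map.1 (show θL a ∈ φ.ker.map θL by rw [h]; exact Subgroup.mem_top _)
          have hk : ((a'⁻¹ * a : Λ) : M) ∈ Z := by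
            rw [hZdef, MonoidHom.mem_ker]
            have := congrArg Subtype.val (show θL (a'⁻¹ * a) = 1 by rw [map_mul, map_inv, ea, inv_mul_cancel])
            exact this
          have e1 : φ a = φ (a'⁻¹ * a) := by
            rw [map_mul, map_inv, MonoidHom.mem_ker.1 ha', inv_one, one_mul]
          rw [e1, ← map_mul, ← map_mul]
          congr 1
          exact Subtype.ext (hcen _ hk _).eq
        letI : CommGroup φ.range := { (inferInstance : Group φ.range) with mul_comm := hc }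
        exact congrArg Subtype.val (hperfhom φ.rangeRestrict x)
    have hcardI : 360 ∣ Nat.card φ.range := by
      rw [← hLc, ← Subgroup.index_ker φ]
      have : θL.ker.index = Nat.card L := by
        rw [Subgroup.index_ker, MonoidHom.range_eq_top.2 hθL, Subgroup.card_top]
      exact this ▸ Subgroup.index_dvd_of_le hK
    have hdvdfac : Nat.card φ.range ∣ n.factorial := by
      have := Subgroup.card_subgroup_dvd_card φ.range
      rwa [Nat.card_perm, Nat.card_fin] at this
    have hn6 : n = 6 := by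
      by_contra h
      have h5 : n.factorial ∣ (5 : ℕ).factorial := Nat.factorial_dvd_factorial (by omega)
      have := Nat.le_of_dvd (by decide) ((hcardI.trans hdvdfac).trans h5)
      norm_num [Nat.factorial] at this
    subst hn6
    refine ⟨rfl, fun σ' hσ' => ?_⟩
    have h1080 : Nat.card φ.range ∣ 1080 := by
      refine (Subgroup.card_dvd_of_surjective φ.rangeRestrict φ.rangeRestrict_surjective).trans ?_
      refine (Subgroup.card_dvd_of_le hΛle).trans ?_
      have h1 := Lh.card_mul_index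
      have h2 := L.card_mul_index
      have h3 : Nat.card M = Nat.card U * 3 := by
        rw [← hker, Subgroup.card_eq_card_quotient_mul_card_subgroup θ.ker,
          Nat.card_congr (QuotientGroup.quotientKerEquivOfSurjective θ hθ).toEquiv]
      rw [hLh, Subgroup.index_comap_of_surjective _ hθ, h3, ← h2, hLc] at h1
      have hpos : 0 < L.index := Nat.pos_of_ne_zero Subgroup.index_ne_zero_of_finite
      exact dvd_of_eq (Nat.eq_of_mul_eq_mul_right hpos (by rw [hLh]; linarith))
    have h360 : Nat.card φ.range = 360 := by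
      refine Nat.dvd_antisymm ?_ hcardI
      have := Nat.dvd_gcd hdvdfac h1080
      rwa [show Nat.gcd (Nat.factorial 6) 1080 = 360 by decide] at this
    have hidx : φ.range.index = 2 := by
      have := φ.range.card_mul_index
      rw [h360, Nat.card_perm, Nat.card_fin] at this
      norm_num [Nat.factorial] at this
      omega
    have := Equiv.Perm.eq_alternatingGroup_of_index_eq_two hidx
    exact MonoidHom.mem_range.1 (this ▸ (Equiv.Perm.mem_alternatingGroup.2 hσ'))

end Cfsg.Agent.LFType23
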