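import Cfsg.Agent.LFType23.Seven

/-!
A coordinate frame for an extraspecial subgroup of order 2^13 in the centraliser of an involution.
-/
set_option autoImplicit false

namespace Cfsg.Agent.LFType23

variable {G : Type*} [Group G]

/-- Coordinates `mu` on `Q` modulo `⟨z⟩` and the action `pi` of the centraliser of `z`, containing
the even monomial maps with product one. -/
structure Frame (z : G) (Q : Subgroup G) where
  mu : G → V
  pi : G → V → V
  z_order : orderOf z = 2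
  z_mem : z ∈ Q
  le_cent : ∀ a ∈ Q, Commute a z
  normal : ∀ h, Commute h z → ∀ a ∈ Q, h * a * h⁻¹ ∈ Q
  mu_mul : ∀ a ∈ Q, ∀ b ∈ Q, mu (a * b) = mu a + mu b
  mu_eq_zero : ∀ a ∈ Q, mu a = 0 ↔ a = 1 ∨ a = z
  mu_surj : ∀ u : V, ∃ a ∈ Q, mu a = u
  sq : ∀ a ∈ Q, a * a = if qf (mu a) = 0 then 1 else z
  comm : ∀ a ∈ Q, ∀ b ∈ Q, a * b * a⁻¹ = if bf (mu a) (mu b) = 0 then b else b * z
  pi_mu : ∀ h, Commute h z → ∀ a ∈ Q, mu (h * a * h⁻¹) = pi h (mu a)
  faithful : ∀ h, Commute h z → (∀ u, pi h u = u) → h ∈ Q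
  card_cent : Nat.card (Subgroup.centralizer ({z} : Set G)) = 2 ^ 13 * 19595520
  card_le : Nat.card Q = 2 ^ 13
  perm_mem : ∀ σ : Equiv.Perm (Fin 6), Equiv.Perm.sign σ = 1 →
    ∃ h, Commute h z ∧ ∀ u, pi h u = perm σ u
  diag_mem : ∀ a : Fin 6 → ZMod 3, ∑ i, a i = 0 → ∃ h, Commute h z ∧ ∀ u, pi h u = diag a u
  lin_or : ∀ h, Commute h z →
    (∀ u, pi h (om u) = om (pi h u)) ∨ (∀ u, pi h (om u) = om (om (pi h u)))

namespace Frame

variable {z : G} {Q : Subgroup G} (F : Frame z Q)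
include F

theorem z_sq : z * z = 1 := by rw [← pow_two, ← F.z_order, pow_orderOf_eq_one]

theorem z_ne : z ≠ 1 := fun h => by
  have := F.z_order; rw [h, orderOf_one] at this; norm_num at this

theorem z_inv : z⁻¹ = z := inv_eq_of_mul_eq_one_left F.z_sq

theorem mu_one : F.mu 1 = 0 := (F.mu_eq_zero 1 Q.one_mem).2 (Or.inl rfl)

theorem mu_z : F.mu z = 0 := (F.mu_eq_zero z F.z_mem).2 (Or.inr rfl)

theorem mu_inv {a : G} (ha : a ∈ Q) : F.mu a⁻¹ = F.mu a := by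
  have h := F.mu_mul a ha a⁻¹ (inv_mem ha)
  rw [mul_inv_cancel, F.mu_one] at h
  calc F.mu a⁻¹ = (F.mu a + F.mu a) + F.mu a⁻¹ := by rw [add_self, zero_add]
    _ = F.mu a := by rw [add_assoc, ← h, add_zero]

theorem mu_eq_iff {a b : G} (ha : a ∈ Q) (hb : b ∈ Q) : F.mu a = F.mu b ↔ a = b ∨ a = b * z := by
  have hab := F.mu_eq_zero (b⁻¹ * a) (mul_mem (inv_mem hb) ha)
  rw [F.mu_mul _ (inv_mem hb) _ ha, F.mu_inv hb, inv_mul_eq_one, inv_mul_eq_iff_eq_mul] at hab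
  constructor
  · intro h
    rcases hab.1 (by rw [h, add_self]) with e | e
    · exact Or.inl e.symm
    · exact Or.inr e
  · rintro (rfl | rfl)
    · rfl
    · rw [F.mu_mul _ hb _ F.z_mem, F.mu_z, add_zero]

theorem mu_mul_z {a : G} (ha : a ∈ Q) : F.mu (a * z) = F.mu a := by
  rw [F.mu_mul _ ha _ F.z_mem, F.mu_z, add_zero]

theorem pi_add {h : G} (hh : Commute h z) (u w : V) : F.pi h (u + w) = F.pi h u + F.pi h w := by
  obtain ⟨a, ha, rfl⟩ := F.mu_surj u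
  obtain ⟨b, hb, rfl⟩ := F.mu_surj w
  rw [← F.mu_mul a ha b hb, ← F.pi_mu h hh _ (mul_mem ha hb), ← F.pi_mu h hh a ha, ← F.pi_mu h hh b hb,
    ← F.mu_mul _ (F.normal h hh a ha) _ (F.normal h hh b hb)]
  group

theorem pi_zero {h : G} (hh : Commute h z) : F.pi h 0 = 0 := by
  rw [← F.mu_one, ← F.pi_mu h hh 1 Q.one_mem]; simp

theorem pi_mul {h k : G} (hh : Commute h z) (hk : Commute k z) (u : V) :
    F.pi (h * k) u = F.pi h (F.pi k u) := by
  obtain ⟨a, ha, rfl⟩ := F.mu_surj u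
  rw [← F.pi_mu _ (hh.mul_left hk) a ha, ← F.pi_mu k hk a ha, ← F.pi_mu h hh _ (F.normal k hk a ha)]
  group

theorem pi_one (u : V) : F.pi 1 u = u := by
  obtain ⟨a, ha, rfl⟩ := F.mu_surj u
  rw [← F.pi_mu 1 (Commute.one_left z) a ha]; simp

theorem pi_inv_apply {h : G} (hh : Commute h z) (u : V) : F.pi h⁻¹ (F.pi h u) = u := by
  rw [← F.pi_mul hh.inv_left hh, inv_mul_cancel, F.pi_one]

theorem pi_injective {h : G} (hh : Commute h z) : Function.Injective (F.pi h) :=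
  Function.LeftInverse.injective (F.pi_inv_apply hh)

theorem pi_eq_self_of_mem {a : G} (ha : a ∈ Q) (u : V) : F.pi a u = u := by
  obtain ⟨b, hb, rfl⟩ := F.mu_surj u
  rw [← F.pi_mu a (F.le_cent a ha) b hb, F.comm a ha b hb]
  split_ifs
  · rfl
  · exact F.mu_mul_z hb

theorem sq_eq_one_iff {a : G} (ha : a ∈ Q) : a * a = 1 ↔ qf (F.mu a) = 0 := by
  rw [F.sq a ha]
  split_ifs with h
  · simp [h]
  · simp [h, F.z_ne]

theorem commute_iff {a b : G} (ha : a ∈ Q) (hb : b ∈ Q) : Commute a b ↔ bf (F.mu a) (F.mu b) = 0 := by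
  rw [commute_iff_eq, ← mul_inv_eq_iff_eq_mul, F.comm a ha b hb]
  split_ifs with h
  · simp [h]
  · simp [h, F.z_ne]

theorem qf_pi {h : G} (hh : Commute h z) (u : V) : qf (F.pi h u) = qf u := by
  obtain ⟨a, ha, rfl⟩ := F.mu_surj u
  rw [← F.pi_mu h hh a ha]
  have h1 := F.sq_eq_one_iff ha
  have h2 := F.sq_eq_one_iff (F.normal h hh a ha)
  have e : h * a * h⁻¹ * (h * a * h⁻¹) = 1 ↔ a * a = 1 := by
    rw [show h * a * h⁻¹ * (h * a * h⁻¹) = h * (a * a) * h⁻¹ by group, conj_eq_one_iff]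
  rw [e, h1] at h2
  revert h2
  generalize qf (F.mu (h * a * h⁻¹)) = x
  generalize qf (F.mu a) = y
  revert x y; decide

theorem bf_pi {h : G} (hh : Commute h z) (u w : V) : bf (F.pi h u) (F.pi h w) = bf u w := by
  have h1 := qf_add (F.pi h u) (F.pi h w)
  rw [← F.pi_add hh, F.qf_pi hh, F.qf_pi hh, F.qf_pi hh, qf_add] at h1
  exact (add_left_cancel h1).symm

/-- Transporting a frame by a conjugation. -/
def tr (g : G) : Frame (g * z * g⁻¹) (Q.map (MulAut.conj g).toMonoidHom) where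
  mu a := F.mu (g⁻¹ * a * g)
  pi h := F.pi (g⁻¹ * h * g)
  z_order := (MulEquiv.orderOf_eq (MulAut.conj g) z).trans F.z_order
  z_mem := ⟨z, F.z_mem, rfl⟩
  le_cent := by
    rintro _ ⟨a, ha, rfl⟩
    exact (F.le_cent a ha).map (MulAut.conj g).toMonoidHom
  normal := by
    rintro h hh _ ⟨a, ha, rfl⟩
    refine ⟨(g⁻¹ * h * g) * a * (g⁻¹ * h * g)⁻¹, F.normal _ ?_ a ha, ?_⟩
    · have := hh.map (MulAut.conj g⁻¹).toMonoidHom
      simpa [MulAut.conj_apply, mul_assoc] using this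
    · simp [MulAut.conj_apply, mul_assoc]
  mu_mul := by
    rintro _ ⟨a, ha, rfl⟩ _ ⟨b, hb, rfl⟩
    simp only [MulEquiv.coe_toMonoidHom, MulAut.conj_apply]
    rw [show g⁻¹ * (g * a * g⁻¹ * (g * b * g⁻¹)) * g = a * b by group,
      show g⁻¹ * (g * a * g⁻¹) * g = a by group, show g⁻¹ * (g * b * g⁻¹) * g = b by group]
    exact F.mu_mul a ha b hb
  mu_eq_zero := by
    rintro _ ⟨a, ha, rfl⟩
    simp only [MulEquiv.coe_toMonoidHom, MulAut.conj_apply]
    rw [show g⁻¹ * (g * a * g⁻¹) * g = a by group, F.mu_eq_zero a ha, conj_eq_one_iff]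
    simp
  mu_surj := fun u => by
    obtain ⟨a, ha, rfl⟩ := F.mu_surj u
    exact ⟨g * a * g⁻¹, ⟨a, ha, rfl⟩, congrArg F.mu (by group)⟩
  sq := by
    rintro _ ⟨a, ha, rfl⟩
    show g * a * g⁻¹ * (g * a * g⁻¹) = _
    simp only [show g⁻¹ * (MulAut.conj g).toMonoidHom a * g = a by simp [MulAut.conj_apply, mul_assoc]]
    rw [show g * a * g⁻¹ * (g * a * g⁻¹) = g * (a * a) * g⁻¹ by group, F.sq a ha]
    split_ifs <;> simp
  comm := by
    rintro _ ⟨a, ha, rfl⟩ _ ⟨b, hb, rfl⟩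
    have e : ∀ y, g⁻¹ * (MulAut.conj g).toMonoidHom y * g = y := fun y => by
      simp [MulAut.conj_apply, mul_assoc]
    simp only [e]
    show g * a * g⁻¹ * (g * b * g⁻¹) * (g * a * g⁻¹)⁻¹ = if _ then g * b * g⁻¹ else g * b * g⁻¹ * _
    rw [show g * a * g⁻¹ * (g * b * g⁻¹) * (g * a * g⁻¹)⁻¹ = g * (a * b * a⁻¹) * g⁻¹ by group,
      F.comm a ha b hb]
    split_ifs
    · rfl
    · group
  pi_mu := by
    rintro h hh _ ⟨a, ha, rfl⟩
    simp only [MulEquiv.coe_toMonoidHom, MulAut.conj_apply]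
    have h1 : Commute (g⁻¹ * h * g) z := by
      have := hh.map (MulAut.conj g⁻¹).toMonoidHom
      simpa [MulAut.conj_apply, mul_assoc] using this
    rw [show g⁻¹ * (g * a * g⁻¹) * g = a by group, ← F.pi_mu _ h1 a ha]
    group
  faithful := fun h hh hfix => by
    have h1 : Commute (g⁻¹ * h * g) z := by
      have := hh.map (MulAut.conj g⁻¹).toMonoidHom
      simpa [MulAut.conj_apply, mul_assoc] using this
    exact ⟨_, F.faithful _ h1 hfix, by simp [MulAut.conj_apply, mul_assoc]⟩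
  card_cent := by
    rw [← F.card_cent]
    refine (Nat.card_congr ((MulAut.conj g).toEquiv.subtypeEquiv fun a => ?_)).symm
    simp only [Subgroup.mem_centralizer_singleton_iff]
    show _ ↔ g * a * g⁻¹ * (g * z * g⁻¹) = g * z * g⁻¹ * (g * a * g⁻¹)
    rw [show g * a * g⁻¹ * (g * z * g⁻¹) = g * (a * z) * g⁻¹ by group,
      show g * z * g⁻¹ * (g * a * g⁻¹) = g * (z * a) * g⁻¹ by group, mul_left_inj, mul_right_inj]
  card_le := (Nat.card_congr (Q.equivMapOfInjective _ (MulAut.conj g).injective).toEquiv).symm.trans F.card_le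
  perm_mem := fun σ hσ => by
    obtain ⟨h, hh, e⟩ := F.perm_mem σ hσ
    exact ⟨g * h * g⁻¹, hh.map (MulAut.conj g).toMonoidHom, fun u => by
      rw [show g⁻¹ * (g * h * g⁻¹) * g = h by group, e]⟩
  diag_mem := fun a ha => by
    obtain ⟨h, hh, e⟩ := F.diag_mem a ha
    exact ⟨g * h * g⁻¹, hh.map (MulAut.conj g).toMonoidHom, fun u => by
      rw [show g⁻¹ * (g * h * g⁻¹) * g = h by group, e]⟩
  lin_or := fun h hh => by
    apply F.lin_or
    have := hh.map (MulAut.conj g⁻¹).toMonoidHom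
    simpa [MulAut.conj_apply, mul_assoc] using this

@[simp] theorem tr_mu (g a : G) : (F.tr g).mu a = F.mu (g⁻¹ * a * g) := rfl

@[simp] theorem tr_pi (g h : G) : (F.tr g).pi h = F.pi (g⁻¹ * h * g) := rfl

end Frame

end Cfsg.Agent.LFType23
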