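import Cfsg.Agent.LFType23.Split

/-!
Monomial coordinates from an elementary abelian group of order 243 and a perfect group normalising it.
-/
set_option autoImplicit false

namespace Cfsg.Agent.LFType23

/-- A unit vector with entry `a` at `i`. -/
def unit6 (i : Fin 6) (a : F4) : V := Pi.single i a

/-- Differences of two unit index vectors. -/
def dlt (i j : Fin 6) : Fin 6 → ZMod 3 := Pi.single i 1 - Pi.single j 1

theorem sum_zero_eq : ∀ a : Fin 6 → ZMod 3, ∑ i, a i = 0 →
    a = a 1 • dlt 1 0 + a 2 • dlt 2 0 + a 3 • dlt 3 0 + a 4 • dlt 4 0 + a 5 • dlt 5 0 := by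
  decide +kernel

theorem card_sum_zero : (Finset.univ.filter fun a : Fin 6 → ZMod 3 => ∑ i, a i = 0).card = 243 := by
  decide +kernel

theorem card_const : (Finset.univ.filter fun a : Fin 6 → ZMod 3 => ∀ i, a i = a 0).card = 3 := by
  decide +kernel

theorem exists_two : ∀ a : Fin 6 → ZMod 3, (∃ i, a i ≠ a 0) →
    ∃ i j k l, a i ≠ a j ∧ a k = a l ∧ k ≠ l ∧ i ≠ k ∧ i ≠ l ∧ j ≠ k ∧ j ≠ l := by decide +kernel

theorem swap_sub {a : Fin 6 → ZMod 3} {i j k l : Fin 6} (hij : i ≠ j) (hkl : a k = a l)
    (hik : i ≠ k) (hil : i ≠ l) (hjk : j ≠ k) (hjl : j ≠ l) :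
    a ∘ (Equiv.swap i j * Equiv.swap k l) - a = (a j - a i) • dlt i j := by
  funext x
  simp only [Pi.sub_apply, Function.comp, Equiv.Perm.mul_apply, Pi.smul_apply, smul_eq_mul, dlt]
  rcases eq_or_ne x k with rfl | hxk
  · rw [Equiv.swap_apply_left, Equiv.swap_apply_of_ne_of_ne hil.symm hjl.symm]
    simp [hik.symm, hjk.symm, hkl]
  rcases eq_or_ne x l with rfl | hxl
  · rw [Equiv.swap_apply_right, Equiv.swap_apply_of_ne_of_ne hik.symm hjk.symm]
    simp [hil.symm, hjl.symm, hkl]
  rw [Equiv.swap_apply_of_ne_of_ne hxk hxl]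
  rcases eq_or_ne x i with rfl | hxi
  · simp [hij]
  rcases eq_or_ne x j with rfl | hxj
  · simp [hij.symm]
  rw [Equiv.swap_apply_of_ne_of_ne hxi hxj]
  simp [hxi, hxj]


theorem even_pair : ∀ a b i j : Fin 6, a ≠ b → i ≠ j →
    ∃ σ : Equiv.Perm (Fin 6), Equiv.Perm.sign σ = 1 ∧ σ i = a ∧ σ j = b := by decide +kernel

theorem zmod3_cases : ∀ y : ZMod 3, y = 0 ∨ y = 1 ∨ y = 1 + 1 := by decide

theorem zmod3_cases' : ∀ y : ZMod 3, y = 0 ∨ y = 1 ∨ y = -1 := by decide

theorem nz_eq : ∀ a : F4, nz a = if a = 0 then 0 else 1 := by decide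

variable {W : Type*} [AddCommGroup W] (h2 : ∀ w : W, w + w = 0)

include h2 in
theorem nsmul_parity (n : ℕ) (u : W) : n • u = if (n : ZMod 2) = 0 then 0 else u := by
  induction n with
  | zero => simp
  | succ n ih =>
    rw [succ_nsmul, ih, Nat.cast_succ]
    rcases (by decide : ∀ x : ZMod 2, x = 0 ∨ x = 1) (n : ZMod 2) with e | e <;> simp [e, h2, show (1 : ZMod 2) + 1 = 0 from rfl]

section

variable [Finite W] {H : Type*} [Group H] [DistribMulAction H W] (π : PV → H)
  (hπadd : ∀ p q, π (p + q) = π p * π q)

/-- The sum of the translates under the kernel of an index vector. -/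
def kerSum (f : PV) (u : W) : W := ∑ p ∈ Finset.univ.filter (fun p => dt f p = 0), π p • u

/-- The sum of all translates. -/
def allSum (u : W) : W := ∑ p, π p • u

/-- The projection attached to an index vector. -/
def proj (f : PV) (u : W) : W := kerSum π f u + allSum π u

include hπadd in
theorem kerSum_shift {f q : PV} (hq : dt f q = 0) (u : W) : π q • kerSum π f u = kerSum π f u := by
  rw [kerSum, Finset.smul_sum]
  refine Finset.sum_equiv (Equiv.addLeft q) (fun p => ?_) fun p _ => by
    rw [← mul_smul, ← hπadd]; rfl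
  simp [dt_add, hq]

include hπadd in
theorem allSum_shift (q : PV) (u : W) : π q • allSum π u = allSum π u := by
  rw [allSum, Finset.smul_sum]
  exact Fintype.sum_equiv (Equiv.addLeft q) _ _ fun p => by rw [← mul_smul, ← hπadd]; rfl

include hπadd in
theorem allSum_perm (q : PV) (u : W) : allSum π (π q • u) = allSum π u :=
  Fintype.sum_equiv (Equiv.addRight q) _ _ fun p => by rw [← mul_smul, ← hπadd]; rfl

include hπadd in
theorem pi_comm (p q : PV) : π p * π q = π q * π p := by rw [← hπadd, ← hπadd, add_comm]

include h2 in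
theorem allSum_const {w : W} (hw : ∀ p, π p • w = w) : allSum π w = w := by
  rw [allSum, Finset.sum_congr rfl fun p _ => hw p, Finset.sum_const, nsmul_parity h2, if_neg]
  rw [Finset.card_univ, Fintype.card_pi]; simp; decide

include h2 in
theorem kerSum_const {f : PV} {w : W} (hw : ∀ p, dt f p = 0 → π p • w = w) : kerSum π f w = w := by
  rw [kerSum, Finset.sum_congr rfl fun p hp => hw p (Finset.mem_filter.1 hp).2, Finset.sum_const,
    nsmul_parity h2, if_neg (by rw [card_ker]; decide)]

theorem allSum_add (u v : W) : allSum π (u + v) = allSum π u + allSum π v := by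
  simp [allSum, smul_add, Finset.sum_add_distrib]

theorem kerSum_add (f : PV) (u v : W) : kerSum π f (u + v) = kerSum π f u + kerSum π f v := by
  simp [kerSum, smul_add, Finset.sum_add_distrib]

theorem allSum_zero : allSum π (0 : W) = 0 := by simp [allSum]

theorem proj_add (f : PV) (u v : W) : proj π f (u + v) = proj π f u + proj π f v := by
  rw [proj, proj, proj, kerSum_add, allSum_add]; abel

theorem proj_zero (f : PV) : proj π f (0 : W) = 0 := by simp [proj, kerSum, allSum]

/-- Membership of the eigenspace of an index vector. -/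
def Eig (f : PV) (w : W) : Prop := (∀ p, dt f p = 0 → π p • w = w) ∧ allSum π w = 0

include hπadd h2 in
theorem eig_proj (f : PV) (u : W) : Eig π f (proj π f u) := by
  refine ⟨fun p hp => by rw [proj, smul_add, kerSum_shift π hπadd hp, allSum_shift π hπadd], ?_⟩
  have e : allSum π (kerSum π f u) = allSum π u := by
    rw [kerSum]
    have : ∀ s : Finset PV, allSum π (∑ p ∈ s, π p • u) = ∑ p ∈ s, allSum π (π p • u) := fun s => by
      induction s using Finset.induction with
      | empty => simp [allSum_zero]
      | insert a s ha ih => rw [Finset.sum_insert ha, Finset.sum_insert ha, allSum_add, ih]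
    rw [this, Finset.sum_congr rfl fun p _ => allSum_perm π hπadd p u, Finset.sum_const, nsmul_parity h2,
      if_neg (by rw [card_ker]; decide)]
  rw [proj, allSum_add, e, allSum_const h2 π (fun p => allSum_shift π hπadd p u), h2]

include h2 in
theorem proj_self {f : PV} {w : W} (hw : Eig π f w) : proj π f w = w := by
  rw [proj, kerSum_const h2 π hw.1, hw.2, add_zero]

include hπadd h2 in
theorem proj_other {f g : PV} (hf : f ∈ normd) (hg : g ∈ normd) (hne : g ≠ f) {w : W} (hw : Eig π f w) :
    proj π g w = 0 := by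
  rw [proj, hw.2, add_zero]
  obtain ⟨p0, hp0, hfp⟩ := normd_ker hg hf hne
  have hfix : ∀ p, π p • kerSum π g w = kerSum π g w := by
    intro p
    have hcomm : ∀ q, dt f q = 0 → π q • kerSum π g w = kerSum π g w := fun q hq => by
      rw [kerSum, Finset.smul_sum]
      refine Finset.sum_congr rfl fun r _ => ?_
      rw [← mul_smul, pi_comm π hπadd, mul_smul, hw.1 q hq]
    have hsplit : p = (p - (dt f p * (dt f p0)⁻¹) • p0) + (dt f p * (dt f p0)⁻¹) • p0 := by abel
    have h1 : dt f (p - (dt f p * (dt f p0)⁻¹) • p0) = 0 := by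
      have := dt_add f (p - (dt f p * (dt f p0)⁻¹) • p0) ((dt f p * (dt f p0)⁻¹) • p0)
      rw [← hsplit, dt_smul, mul_assoc] at this
      haveI fact3 : Fact (Nat.Prime 3) := ⟨Nat.prime_three⟩
      rw [inv_mul_cancel₀ hfp, mul_one] at this
      linear_combination -this
    rw [hsplit, hπadd, mul_smul, kerSum_shift π hπadd (by rw [dt_smul, hp0, mul_zero]), hcomm _ h1]
  rw [← allSum_const h2 π hfix, kerSum]
  have : ∀ s : Finset PV, allSum π (∑ p ∈ s, π p • w) = ∑ p ∈ s, allSum π (π p • w) := fun s => by
    induction s using Finset.induction with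
    | empty => simp [allSum_zero]
    | insert a s ha ih => rw [Finset.sum_insert ha, Finset.sum_insert ha, allSum_add, ih]
  rw [this, Finset.sum_congr rfl fun p _ => allSum_perm π hπadd p w, hw.2]
  simp

include h2 hπadd in
theorem decomp (u : W) : u = allSum π u + ∑ f ∈ normd, proj π f u := by
  have h1 : ∑ f ∈ normd, kerSum π f u = u := by
    simp only [kerSum, Finset.sum_filter]
    rw [Finset.sum_comm]
    have hstep : ∀ p, (∑ f ∈ normd, if dt f p = 0 then π p • u else 0) = if p = 0 then π p • u else 0 := by
      intro p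
      rw [← Finset.sum_filter, Finset.sum_const, nsmul_parity h2, normd_count]
      split_ifs <;> simp_all
    rw [Finset.sum_congr rfl fun p _ => hstep p, Finset.sum_ite_eq' Finset.univ (0 : PV), if_pos (Finset.mem_univ _)]
    have h0 : π 0 = 1 := by
      have := hπadd 0 0; rw [add_zero] at this; simpa using this
    rw [h0, one_smul]
  have h3 : ∑ _f ∈ normd, allSum π u = allSum π u := by
    rw [Finset.sum_const, nsmul_parity h2, if_neg]
    have : (normd.card : ZMod 2) = ((normd.filter fun f => dt f 0 = 0).card : ZMod 2) := by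
      rw [Finset.filter_true_of_mem fun f _ => by simp [dt]]
    rw [this, normd_count, if_pos rfl]; decide
  simp only [proj, Finset.sum_add_distrib, h1, h3]
  rw [add_comm u, ← add_assoc, h2, zero_add]

include h2 hπadd in
theorem eig_cyc {f : PV} {w : W} (hw : Eig π f w) {p : PV} (hp : dt f p ≠ 0) :
    w + π p • w + π p • π p • w = 0 := by
  set x := w + π p • w + π p • π p • w with hx
  have h3 : π p • π p • π p • w = w := by
    rw [← mul_smul, ← mul_smul, ← hπadd, ← hπadd]
    have : p + p + p = 0 := funext fun i => by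
      have : ∀ a : ZMod 3, a + a + a = 0 := by decide
      exact this _
    rw [this]
    exact hw.1 0 (by simp [dt])
  have hker : ∀ q, dt f q = 0 → π q • x = x := fun q hq => by
    have c : ∀ v : W, π q • π p • v = π p • π q • v := fun v => by
      rw [← mul_smul, ← mul_smul, pi_comm π hπadd]
    rw [hx, smul_add, smul_add, c, c, c, hw.1 q hq]
  have hp' : π p • x = x := by
    rw [hx, smul_add, smul_add, h3]; abel
  have hall : ∀ q, π q • x = x := by
    intro q
    have hn : ∀ a b : ZMod 3, b ≠ 0 → a = 0 ∨ a = b ∨ a = b + b := by decide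
    rcases hn (dt f q) (dt f p) hp with e | e | e
    · exact hker q e
    · rw [show q = (q - p) + p by abel, hπadd, mul_smul, hp', hker]
      have := dt_add f (q - p) p; rw [sub_add_cancel] at this; linear_combination e - this
    · rw [show q = (q - p - p) + p + p by abel, hπadd, hπadd, mul_smul, mul_smul, hp', hp', hker]
      have := dt_add f (q - p - p) (p + p)
      rw [show q - p - p + (p + p) = q by abel, dt_add] at this
      linear_combination e - this
  rw [← allSum_const h2 π hall, hx, allSum_add, allSum_add, allSum_perm π hπadd, allSum_perm π hπadd]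
  simp [allSum_perm π hπadd, hw.2]

variable [Finite H]

open Classical in
include h2 hπadd in
/-- Monomial coordinates. -/
theorem exists_monomial (hW : Nat.card W = 4096)
    (hfaith : ∀ h : H, (∀ w : W, h • w = w) → h = 1)
    (qW : W → ZMod 2) (bW : W → W → ZMod 2) (hq : ∀ a b, qW (a + b) = qW a + qW b + bW a b)
    (hbl : ∀ a a' b, bW (a + a') b = bW a b + bW a' b) (hbc : ∀ a b, bW a b = bW b a)
    (hba : ∀ a, bW a a = 0)
    (hnd : ∀ a, (∀ b, bW a b = 0) → a = 0) (hinv : ∀ (h : H) a, qW (h • a) = qW a)
    (hπinj : Function.Injective π) (r0 : PV) (hr0 : r0 ≠ 0)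
    (Λ : Subgroup H) (hperf : ∀ {A : Type} [CommGroup A] (g : Λ →* A) (x : Λ), g x = 1)
    (α : H → PV → PV) (hα : ∀ h ∈ Λ, ∀ p, π (α h p) = h * π p * h⁻¹) (hαr : ∀ h ∈ Λ, α h r0 = r0)
    (hfun : ∀ f : PV, (∀ h ∈ Λ, ∀ p, dt f (α h p) = dt f p) → dt f r0 = 0 → f = 0)
    (hsmall : ∀ n ≤ 6, ∀ φ : Λ →* Equiv.Perm (Fin n), (∀ x, φ x = 1) ∨
      (n = 6 ∧ ∀ σ : Equiv.Perm (Fin n), Equiv.Perm.sign σ = 1 → ∃ x, φ x = σ)) :
    ∃ e : V → W, Function.Bijective e ∧ (∀ u w, e (u + w) = e u + e w) ∧ (∀ u, qW (e u) = qf u) ∧
      (∀ u, π r0 • e u = e (om u)) ∧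
      (∀ a : Fin 6 → ZMod 3, ∑ i, a i = 0 → ∃ p, ∀ u, π p • e u = e (diag a u)) ∧
      (∀ σ : Equiv.Perm (Fin 6), Equiv.Perm.sign σ = 1 → ∃ h : H, ∀ u, h • e u = e (perm σ u)) := by
  haveI : Fact (Nat.Prime 3) := ⟨Nat.prime_three⟩
  haveI := Fintype.ofFinite W
  have hπ0 : π 0 = 1 := by
    have := hπadd 0 0; rw [add_zero] at this; simpa using this
  have hdt0 : ∀ f, dt f 0 = 0 := fun f => by simp [dt]
  have bz : ∀ a, bW 0 a = 0 := fun a => by
    have := hbl 0 0 a; rw [add_zero] at this; linear_combination -this
  have bzr : ∀ a, bW a 0 = 0 := fun a => by rw [hbc]; exact bz a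
  have hbr : ∀ a b b', bW a (b + b') = bW a b + bW a b' := fun a b b' => by
    rw [hbc, hbl, hbc b, hbc b']
  have hbinv : ∀ (h : H) a b, bW (h • a) (h • b) = bW a b := fun h a b => by
    have h1 := hq (h • a) (h • b)
    rw [← smul_add, hinv, hinv, hinv, hq] at h1
    exact (add_left_cancel h1).symm
  have qz : qW 0 = 0 := by
    have := hq 0 0; rw [add_zero, bz] at this; linear_combination -this
  -- the active index vectors
  set S : Finset PV := normd.filter fun f => ∃ w : W, Eig π f w ∧ w ≠ 0 with hS
  have hSn : ∀ f ∈ S, f ∈ normd := fun f hf => (Finset.mem_filter.1 hf).1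
  have hSw : ∀ f : S, ∃ w : W, Eig π (f : PV) w ∧ w ≠ 0 := fun f => (Finset.mem_filter.1 f.2).2
  choose us hus husne using hSw
  have hdecS : ∀ u : W, u = allSum π u + ∑ f : S, proj π (f : PV) u := by
    intro u
    conv_lhs => rw [decomp h2 π hπadd u]
    congr 1
    rw [Finset.sum_coe_sort S fun f => proj π f u]
    refine (Finset.sum_subset (fun f hf => hSn f hf) fun f hf hfS => ?_).symm
    by_contra hne
    exact hfS (Finset.mem_filter.2 ⟨hf, _, eig_proj h2 π hπadd f u, hne⟩)
  have huniq : ∀ {f g : PV}, f ∈ normd → g ∈ normd → ∀ {w : W}, Eig π f w → Eig π g w → w ≠ 0 → f = g := by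
    intro f g hf hg w h h' hw
    by_contra hne
    exact hw ((proj_self h2 π h').symm.trans (proj_other h2 π hπadd hf hg (Ne.symm hne) h))
  have hcomm : ∀ p q : PV, ∀ v : W, π p • π q • v = π q • π p • v := fun p q v => by
    rw [← mul_smul, ← mul_smul, pi_comm π hπadd]
  have heig_add : ∀ {f : PV} {a b : W}, Eig π f a → Eig π f b → Eig π f (a + b) := fun ha hb =>
    ⟨fun p hp => by rw [smul_add, ha.1 p hp, hb.1 p hp], by rw [allSum_add, ha.2, hb.2, add_zero]⟩
  have heig_smul : ∀ {f : PV} {a : W} (q : PV), Eig π f a → Eig π f (π q • a) := fun q ha =>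
    ⟨fun p hp => by rw [hcomm, ha.1 p hp], by rw [allSum_perm π hπadd, ha.2]⟩
  have heig_zero : ∀ f : PV, Eig π f (0 : W) := fun f => ⟨fun p _ => smul_zero _, allSum_zero π⟩
  have proj_sum : ∀ (g : PV) {ι : Type} (s : Finset ι) (x : ι → W),
      proj π g (∑ i ∈ s, x i) = ∑ i ∈ s, proj π g (x i) := fun g ι s x => by
    induction s using Finset.induction with
    | empty => simp [proj_zero]
    | insert a s ha ih => rw [Finset.sum_insert ha, Finset.sum_insert ha, proj_add, ih]
  have proj_fix : ∀ (g : PV) {w : W}, (∀ p, π p • w = w) → proj π g w = 0 := fun g w hw => by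
    rw [proj, kerSum_const h2 π (fun p _ => hw p), allSum_const h2 π hw, h2]
  -- four vectors in each line
  have hpf : ∀ f : S, ∃ p, dt (f : PV) p = 1 := fun f => exists_dt_ne (hSn f f.2)
  choose pf hpf using hpf
  have hone : (1 : ZMod 3) ≠ 0 := one_ne_zero
  let line : S → F4 → W := fun f c =>
    (if c.1 = 0 then 0 else us f) + (if c.2 = 0 then 0 else π (pf f) • us f)
  have line_eig : ∀ (f : S) c, Eig π (f : PV) (line f c) := fun f c => by
    refine heig_add ?_ ?_ <;> split_ifs
    exacts [heig_zero _, hus f, heig_zero _, heig_smul _ (hus f)]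
  have line_inj : ∀ (f : S) c, line f c = 0 → c = 0 := by
    intro f c
    have hc : ∀ c : F4, c = (0, 0) ∨ c = (1, 0) ∨ c = (0, 1) ∨ c = (1, 1) := by decide
    have hcy := eig_cyc h2 π hπadd (hus f) (p := pf f) (by rw [hpf f]; exact hone)
    rcases hc c with rfl | rfl | rfl | rfl
    · exact fun _ => rfl
    · intro h; simp [line] at h; exact absurd h (husne f)
    · intro h; simp [line] at h
      exact absurd ((smul_eq_zero_iff_eq _).1 h) (husne f)
    · intro h; simp [line] at h
      rw [h, zero_add] at hcy
      rw [smul_eq_zero_iff_eq, smul_eq_zero_iff_eq] at hcy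
      exact absurd hcy (husne f)
  have line_add : ∀ (f : S) c d, line f (c + d) = line f c + line f d := by
    intro f c d
    have : ∀ (a b : ZMod 2) (x : W), (if a + b = 0 then 0 else x) = (if a = 0 then 0 else x) + (if b = 0 then 0 else x) := by
      intro a b x
      rcases (by decide : ∀ y : ZMod 2, y = 0 ∨ y = 1) a with rfl | rfl <;>
        rcases (by decide : ∀ y : ZMod 2, y = 0 ∨ y = 1) b with rfl | rfl <;>
        simp [h2, show (1 : ZMod 2) + 1 = 0 from rfl]
    simp only [line, Prod.fst_add, Prod.snd_add, this]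
    abel
  have proj_line : ∀ (g f : S) c, proj π (g : PV) (line f c) = if f = g then line f c else 0 := by
    intro g f c
    split_ifs with h
    · subst h; exact proj_self h2 π (line_eig f c)
    · exact proj_other h2 π hπadd (hSn f f.2) (hSn g g.2) (fun e => h (Subtype.ext e.symm)) (line_eig f c)
  let big : {w : W // ∀ p, π p • w = w} × (S → F4) → W := fun x => x.1.1 + ∑ f, line f (x.2 f)
  have big_inj : Function.Injective big := by
    rintro ⟨⟨a, ha⟩, c⟩ ⟨⟨b, hb⟩, d⟩ e
    have hcd : c = d := funext fun g => by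
      have := congrArg (proj π (g : PV)) e
      simp only [big, proj_add, proj_fix _ ha, proj_fix _ hb, proj_sum, proj_line, zero_add,
        Finset.sum_ite_eq', Finset.mem_univ, if_true] at this
      have e2 : line g (c g + d g) = 0 := by rw [line_add, this, h2]
      have := line_inj g _ e2
      calc c g = c g + d g + d g := by
            rw [add_assoc, show d g + d g = 0 from by
              have : ∀ x : F4, x + x = 0 := by decide
              exact this _, add_zero]
        _ = d g := by rw [this, zero_add]
    subst hcd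
    simp only [big, add_left_inj] at e
    subst e; rfl
  haveI := Fintype.ofFinite {w : W // ∀ p, π p • w = w}
  have hbound := Fintype.card_le_of_injective big big_inj
  rw [Fintype.card_prod, Fintype.card_fun, Fintype.card_coe,
    show Fintype.card F4 = 4 by rfl, show Fintype.card W = 4096 by rw [← Nat.card_eq_fintype_card, hW]] at hbound
  have hpos : 1 ≤ Fintype.card {w : W // ∀ p, π p • w = w} :=
    Fintype.card_pos_iff.2 ⟨⟨0, fun p => smul_zero _⟩⟩
  have hS6 : S.card ≤ 6 := by
    by_contra h
    have : 4 ^ 7 ≤ 4 ^ S.card := Nat.pow_le_pow_right (by norm_num) (by omega)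
    nlinarith
  -- the action on the index vectors
  have hαadd : ∀ h ∈ Λ, ∀ p q, α h (p + q) = α h p + α h q := fun h hh p q =>
    hπinj (by rw [hπadd, hα h hh, hα h hh, hα h hh, hπadd]; group)
  have hαinv : ∀ h ∈ Λ, ∀ p, α h (α h⁻¹ p) = p := fun h hh p =>
    hπinj (by rw [hα h hh, hα _ (inv_mem hh)]; group)
  have hαnat : ∀ h ∈ Λ, ∀ (c : ZMod 3) p, α h (c • p) = c • α h p := fun h hh c p => by
    let g : PV →+ PV := AddMonoidHom.mk' (α h) (hαadd h hh)
    exact (g.toZModLinearMap 3).map_smul c p
  have hmove : ∀ h ∈ Λ, ∀ {f g : PV} {w : W}, Eig π f w → (∀ p, dt g p = 0 → dt f (α h⁻¹ p) = 0) →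
      Eig π g (h • w) := by
    intro h hh f g w hw hfg
    have hcj : ∀ p, π p • h • w = h • π (α h⁻¹ p) • w := fun p => by
      rw [← mul_smul, ← mul_smul, hα _ (inv_mem hh)]; group
    refine ⟨fun p hp => by rw [hcj, hw.1 _ (hfg p hp)], ?_⟩
    rw [allSum, Finset.sum_congr rfl fun p _ => hcj p, ← Finset.smul_sum]
    let eqv : PV ≃ PV :=
      { toFun := α h⁻¹
        invFun := α h
        left_inv := hαinv h hh
        right_inv := fun p => by
          have := hαinv h⁻¹ (inv_mem hh) p; rwa [inv_inv] at this }
    rw [Fintype.sum_equiv eqv (fun p => π (α h⁻¹ p) • w) (fun p => π p • w) fun p => rfl]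
    show h • allSum π w = 0
    rw [hw.2, smul_zero]
  have hbasis : ∀ h ∈ Λ, ∀ f p, dt (fun i => dt f (α h (Pi.single i 1))) p = dt f (α h p) := by
    intro h hh f p
    conv_rhs => rw [← Finset.univ_sum_single p]
    rw [show α h (∑ i, Pi.single i (p i)) = ∑ i, α h (Pi.single i (p i)) from
      map_sum (AddMonoidHom.mk' (α h) (hαadd h hh)) _ _]
    have hsum : ∀ x : Fin 5 → PV, dt f (∑ i, x i) = ∑ i, dt f (x i) := fun x =>
      map_sum (AddMonoidHom.mk' (dt f) (dt_add f)) _ _
    rw [hsum]
    refine Finset.sum_congr rfl fun i _ => ?_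
    rw [show Pi.single i (p i) = p i • (Pi.single i 1 : PV) by rw [← Pi.single_smul, smul_eq_mul, mul_one],
      hαnat h hh, dt_smul, mul_comm]
  have htarget : ∀ (h : Λ) (f : S), ∃ g : S, Eig π (g : PV) ((h : H) • us f) := by
    intro h f
    set F' : PV := fun i => dt (f : PV) (α (h : H)⁻¹ (Pi.single i 1)) with hF'
    have hF : ∀ p, dt F' p = dt (f : PV) (α (h : H)⁻¹ p) := fun p => hbasis _ (inv_mem h.2) _ p
    have hne : F' ≠ 0 := fun e => by
      have := hF (α (h : H) (pf f))
      rw [e] at this
      have e2 : α (h : H)⁻¹ (α (h : H) (pf f)) = pf f := by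
        have := hαinv (h : H)⁻¹ (inv_mem h.2) (pf f); rwa [inv_inv] at this
      rw [e2, hpf] at this
      simp [dt] at this
    have hu : (h : H) • us f ≠ 0 := fun e => husne f ((smul_eq_zero_iff_eq _).1 e)
    rcases normd_sign F' hne with hn | hn
    · have := hmove h h.2 (hus f) (g := F') fun p hp => (hF p).symm.trans hp
      exact ⟨⟨F', Finset.mem_filter.2 ⟨hn, _, this, hu⟩⟩, this⟩
    · have := hmove h h.2 (hus f) (g := -F') fun p hp => by
        rw [← hF]
        have e : dt (-F') p = -dt F' p := by simp [dt]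
        rw [e, neg_eq_zero] at hp; exact hp
      exact ⟨⟨-F', Finset.mem_filter.2 ⟨hn, _, this, hu⟩⟩, this⟩
  choose tg htg using htarget
  have hline : ∀ (f : S) (w : W), Eig π (f : PV) w → 4 ^ S.card = 4096 → ∃ c, line f c = w := by
    intro f w hw h4096
    have hbij : Function.Bijective (fun c : S → F4 => ∑ f, line f (c f)) := by
      rw [Fintype.bijective_iff_injective_and_card]
      refine ⟨fun c d e => ?_, ?_⟩
      · have := @big_inj (⟨0, fun p => smul_zero _⟩, c) (⟨0, fun p => smul_zero _⟩, d) (by simp only [big]; exact congrArg (fun y => 0 + y) e)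
        exact (Prod.mk.injEq _ _ _ _).mp this |>.2
      · rw [Fintype.card_fun, Fintype.card_coe, show Fintype.card F4 = 4 by rfl, h4096,
          ← hW, Nat.card_eq_fintype_card]
    obtain ⟨c, hc⟩ := hbij.2 w
    have := congrArg (proj π (f : PV)) hc
    simp only [proj_sum, proj_line, Finset.sum_ite_eq', Finset.mem_univ, if_true, proj_self h2 π hw] at this
    exact ⟨c f, this⟩
  have hph : ∀ (h : Λ) (f g : S), tg h f = g → ∀ c, Eig π (g : PV) ((h : H) • line f c) := by
    intro h f g hg c
    subst hg
    simp only [line, smul_add]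
    refine heig_add ?_ ?_ <;> split_ifs
    · rw [smul_zero]; exact heig_zero _
    · exact htg h f
    · rw [smul_zero]; exact heig_zero _
    · rw [← mul_smul, show (h : H) * π (pf f) = π (α (h : H) (pf f)) * (h : H) by rw [hα _ h.2]; group, mul_smul]
      exact heig_smul _ (htg h f)
  let φ0 : Λ → S → S := fun h f => tg h f
  have φone : ∀ f, φ0 1 f = f := fun f => Subtype.ext (huniq (hSn _ (tg 1 f).2) (hSn f f.2)
    (by simpa using htg 1 f) (hus f) (husne f))
  have φmul : ∀ a b f, φ0 (a * b) f = φ0 a (φ0 b f) := by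
    intro a b f
    set g := φ0 b f
    have h1 : Eig π (g : PV) ((b : H) • us f) := htg b f
    have key : ∀ (A : Λ) (k : S) (w : W), Eig π (k : PV) w → Eig π (φ0 A k : PV) ((A : H) • w) := by
      intro A k w hw
      refine ⟨fun p hp => ?_, ?_⟩
      · have hcj : π p • (A : H) • w = (A : H) • π (α (A : H)⁻¹ p) • w := by
          rw [← mul_smul, ← mul_smul, hα _ (inv_mem A.2)]; group
        have h0 : dt (k : PV) (α (A : H)⁻¹ p) = 0 := by
          by_contra h0
          have hcj' : π p • (A : H) • us k = (A : H) • π (α (A : H)⁻¹ p) • us k := by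
            rw [← mul_smul, ← mul_smul, hα _ (inv_mem A.2)]; group
          rw [(htg A k).1 p hp] at hcj'
          have hfix : π (α (A : H)⁻¹ p) • us k = us k := (MulAction.injective (A : H) hcj').symm
          have := eig_cyc h2 π hπadd (hus k) h0
          rw [hfix, hfix, add_assoc, h2, add_zero] at this
          exact husne k this
        rw [hcj, hw.1 _ h0]
      · rw [allSum, Finset.sum_congr rfl fun p _ => show π p • (A : H) • w = (A : H) • π (α (A : H)⁻¹ p) • w by
          rw [← mul_smul, ← mul_smul, hα _ (inv_mem A.2)]; group, ← Finset.smul_sum]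
        let eqv : PV ≃ PV :=
          { toFun := α (A : H)⁻¹
            invFun := α (A : H)
            left_inv := hαinv _ A.2
            right_inv := fun p => by
              have := hαinv (A : H)⁻¹ (inv_mem A.2) p; rwa [inv_inv] at this }
        rw [Fintype.sum_equiv eqv (fun p => π (α (A : H)⁻¹ p) • w) (fun p => π p • w) fun p => rfl]
        show (A : H) • allSum π w = 0
        rw [hw.2, smul_zero]
    have h3 : Eig π (φ0 a g : PV) (((a * b : Λ) : H) • us f) := by
      rw [Subgroup.coe_mul, mul_smul]; exact key a g _ h1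
    exact Subtype.ext (huniq (hSn _ (tg (a * b) f).2) (hSn _ (tg a g).2) (htg _ f) h3
      fun e => husne f ((smul_eq_zero_iff_eq _).1 e))
  letI : MulAction Λ S := { smul := φ0, one_smul := φone, mul_smul := φmul }
  let es : S ≃ Fin S.card := S.equivFin
  let φ : Λ →* Equiv.Perm (Fin S.card) := (es.permCongrHom.toMonoidHom).comp (MulAction.toPermHom Λ S)
  rcases hsmall _ hS6 φ with htriv | ⟨h6, hA6⟩
  · exfalso
    have hfix : ∀ (h : Λ) (f : S), φ0 h f = f := fun h f => by
      have := congrArg (fun e => e (es f)) (htriv h)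
      simp [φ] at this
      exact this
    -- each active index vector is invariant
    have hinvf : ∀ f : S, ∀ h ∈ Λ, ∀ p, dt (f : PV) (α h p) = dt (f : PV) p := by
      intro f
      have hker : ∀ h ∈ Λ, ∀ p, dt (f : PV) p = 0 → dt (f : PV) (α h p) = 0 := by
        intro h hh p hp
        by_contra h0
        have e : Eig π (f : PV) ((⟨h, hh⟩ : Λ) • us f : W) := by
          have := htg ⟨h, hh⟩ f
          rw [show tg ⟨h, hh⟩ f = f from hfix _ f] at this
          exact this
        have hcj : π (α h p) • h • us f = h • us f := by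
          rw [← mul_smul, hα h hh, show h * π p * h⁻¹ * h = h * π p by group, mul_smul, (hus f).1 p hp]
        have := eig_cyc h2 π hπadd e h0
        rw [show ((⟨h, hh⟩ : Λ) • us f : W) = h • us f from rfl, hcj, hcj, add_assoc, h2, add_zero] at this
        exact husne f ((smul_eq_zero_iff_eq _).1 this)
      have hsc : ∀ h ∈ Λ, ∀ p, dt (f : PV) (α h p) = dt (f : PV) p * dt (f : PV) (α h (pf f)) := by
        intro h hh p
        have h1 : dt (f : PV) (p - dt (f : PV) p • pf f) = 0 := by
          have := dt_add (f : PV) (p - dt (f : PV) p • pf f) (dt (f : PV) p • pf f)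
          rw [sub_add_cancel, dt_smul, hpf, mul_one] at this; linear_combination -this
        have := hker h hh _ h1
        have e : α h p = α h (p - dt (f : PV) p • pf f) + dt (f : PV) p • α h (pf f) := by
          rw [← hαnat h hh, ← hαadd h hh, sub_add_cancel]
        rw [e, dt_add, dt_smul, this, zero_add]
      have hunit : ∀ h ∈ Λ, dt (f : PV) (α h (pf f)) * dt (f : PV) (α h⁻¹ (pf f)) = 1 := fun h hh => by
        have := hsc h hh (α h⁻¹ (pf f))
        rw [hαinv h hh, hpf] at this
        rw [mul_comm]; exact this.symm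
      let χ : Λ →* (ZMod 3)ˣ :=
        { toFun := fun h => ⟨_, _, hunit h h.2, by rw [mul_comm]; exact hunit h h.2⟩
          map_one' := Units.ext (by
            show dt (f : PV) (α (1 : H) (pf f)) = 1
            rw [show α (1 : H) (pf f) = pf f from hπinj (by rw [hα 1 (one_mem _)]; group), hpf])
          map_mul' := fun a b => Units.ext (by
            show dt (f : PV) (α ((a : H) * b) (pf f)) = dt (f : PV) (α (a : H) (pf f)) * dt (f : PV) (α (b : H) (pf f))
            rw [show α ((a : H) * b) (pf f) = α (a : H) (α (b : H) (pf f)) from hπinj (by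
              rw [hα _ (mul_mem a.2 b.2), hα _ a.2, hα _ b.2]; group), hsc _ a.2, mul_comm]) }
      intro h hh p
      rw [hsc h hh p, show dt (f : PV) (α h (pf f)) = 1 from congrArg Units.val (hperf χ ⟨h, hh⟩), mul_one]
    have hfne : ∀ f : S, dt (f : PV) r0 ≠ 0 := fun f h0 => by
      have := hfun f (hinvf f) h0
      have h1 := hpf f
      rw [this] at h1; simp [dt] at h1
    have hsub : ∀ f g : S, f = g := by
      intro f g
      set k : PV := dt (g : PV) r0 • (f : PV) - dt (f : PV) r0 • (g : PV) with hk
      have hkd : ∀ p, dt k p = dt (g : PV) r0 * dt (f : PV) p - dt (f : PV) r0 * dt (g : PV) p := fun p => by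
        simp [hk, dt, sub_mul, Finset.sum_sub_distrib, Finset.mul_sum, mul_assoc]
      have hk0 : k = 0 := hfun k (fun h hh p => by rw [hkd, hkd, hinvf f h hh, hinvf g h hh])
        (by rw [hkd]; ring)
      refine Subtype.ext (normd_prop _ (hSn f f.2) _ (hSn g g.2) fun i j => ?_)
      have ei := congrFun hk0 i
      have ej := congrFun hk0 j
      simp [hk, Pi.sub_apply, Pi.smul_apply] at ei ej
      have : dt (g : PV) r0 * ((f : PV) i * (g : PV) j - (f : PV) j * (g : PV) i) = 0 := by
        linear_combination (g : PV) j * ei - (g : PV) i * ej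
      rcases mul_eq_zero.1 this with e | e
      · exact absurd e (hfne g)
      · linear_combination e
    obtain ⟨q, hq0, hqf⟩ : ∃ q : PV, q ≠ 0 ∧ ∀ f : S, dt (f : PV) q = 0 := by
      by_cases hne : Nonempty S
      · obtain ⟨f⟩ := hne
        have hz : ∀ f : PV, ∃ q : PV, q ≠ 0 ∧ dt f q = 0 := by
          intro f
          by_cases h0 : f 0 = 0
          · exact ⟨Pi.single 0 1, by simp, by rw [dt_single, h0]⟩
          · refine ⟨f 1 • Pi.single 0 1 + (-f 0) • Pi.single 1 1, fun e => h0 ?_, by
              rw [dt_add, dt_smul, dt_smul, dt_single, dt_single]; ring⟩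
            have := congrFun e 1
            simpa using this
        obtain ⟨q, h1, h2'⟩ := hz f
        exact ⟨q, h1, fun g => by rw [hsub g f]; exact h2'⟩
      · exact ⟨Pi.single 0 1, by simp, fun f => absurd ⟨f⟩ hne⟩
    have : π q = 1 := hfaith _ fun w => by
      conv_lhs => rw [hdecS w]
      conv_rhs => rw [hdecS w]
      rw [smul_add, allSum_shift π hπadd, Finset.smul_sum]
      congr 1
      exact Finset.sum_congr rfl fun f _ => (eig_proj h2 π hπadd (f : PV) w).1 q (hqf f)
    exact hq0 (hπinj (this.trans hπ0.symm))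
  · have h4096 : 4 ^ S.card = 4096 := by rw [h6]; norm_num
    have hev : ∀ a b : S, a ≠ b → ∀ i j : S, i ≠ j → ∃ h : Λ, φ0 h i = a ∧ φ0 h j = b := by
      intro a b hab i j hij
      have hp := even_pair (Fin.cast h6 (es a)) (Fin.cast h6 (es b)) (Fin.cast h6 (es i)) (Fin.cast h6 (es j))
        (by simpa using hab) (by simpa using hij)
      obtain ⟨σ, hσ, hi, hj⟩ := hp
      let c : Fin S.card ≃ Fin 6 := finCongr h6
      obtain ⟨x, hx⟩ := hA6 (c.symm.permCongr σ) (by rw [Equiv.Perm.sign_permCongr, hσ])
      refine ⟨x, es.injective ?_, es.injective ?_⟩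
      · have := congrArg (fun e => e (es i)) hx
        simp [φ, c, Equiv.permCongr_apply] at this
        rw [show (x • i : S) = φ0 x i from rfl] at this
        rw [this]; exact Fin.ext (by simpa using congrArg Fin.val hi)
      · have := congrArg (fun e => e (es j)) hx
        simp [φ, c, Equiv.permCongr_apply] at this
        rw [show (x • j : S) = φ0 x j from rfl] at this
        rw [this]; exact Fin.ext (by simpa using congrArg Fin.val hj)
    have hzero : ∀ {w : W}, (∀ p, π p • w = w) → w = 0 := by
      intro w hw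
      have h1 : Fintype.card {w : W // ∀ p, π p • w = w} ≤ 1 := by rw [h4096] at hbound; omega
      exact congrArg Subtype.val ((Fintype.card_le_one_iff.1 h1) ⟨w, hw⟩ ⟨0, fun p => smul_zero _⟩)
    have hall : ∀ f : S, dt (f : PV) r0 ≠ 0 := by
      by_contra h
      push Not at h
      obtain ⟨f0, hf0⟩ := h
      have hall0 : ∀ g : S, dt (g : PV) r0 = 0 := by
        intro g
        by_contra hg
        have hne : f0 ≠ g := fun e => hg (e ▸ hf0)
        obtain ⟨h, hh, -⟩ := hev g f0 hne.symm f0 g hne
        have h1 : π r0 • (h : H) • us f0 = (h : H) • us f0 := by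
          conv_lhs => rw [← hαr _ h.2]
          rw [← mul_smul, hα _ h.2, show (h : H) * π r0 * (h : H)⁻¹ * h = (h : H) * π r0 by group, mul_smul,
            (hus f0).1 r0 hf0]
        have e := htg h f0
        rw [show tg h f0 = g from hh] at e
        have := eig_cyc h2 π hπadd e hg
        rw [h1, h1, add_assoc, h2, add_zero] at this
        exact husne f0 ((smul_eq_zero_iff_eq _).1 this)
      have : π r0 = 1 := hfaith _ fun w => by
        conv_lhs => rw [hdecS w]
        conv_rhs => rw [hdecS w]
        rw [smul_add, allSum_shift π hπadd, Finset.smul_sum]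
        congr 1
        exact Finset.sum_congr rfl fun f _ => (eig_proj h2 π hπadd (f : PV) w).1 r0 (hall0 f)
      exact hr0 (hπinj (this.trans hπ0.symm))
    let idx : Fin 6 ≃ S := (finCongr h6.symm).trans es.symm
    let u : Fin 6 → W := fun i => us (idx i)
    let r : H := π r0
    have hru : ∀ i, u i + r • u i + r • r • u i = 0 := fun i => eig_cyc h2 π hπadd (hus _) (hall _)
    have hr3 : ∀ i, r • r • r • u i = u i := fun i => by
      have h := congrArg (fun x => r • x) (hru i)
      simp only [smul_add, smul_zero] at h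
      have := hru i
      calc r • r • r • u i = r • r • r • u i + (u i + r • u i + r • r • u i) := by rw [this, add_zero]
        _ = (r • u i + r • r • u i + r • r • r • u i) + u i := by abel
        _ = u i := by rw [h, zero_add]
    let rl : Fin 6 → F4 → W := fun i c => (if c.1 = 0 then 0 else u i) + (if c.2 = 0 then 0 else r • u i)
    have rl_eig : ∀ i c, Eig π (idx i : PV) (rl i c) := fun i c => by
      refine heig_add ?_ ?_ <;> split_ifs
      exacts [heig_zero _, hus _, heig_zero _, heig_smul _ (hus _)]
    have hc4 : ∀ c : F4, c = (0, 0) ∨ c = (1, 0) ∨ c = (0, 1) ∨ c = (1, 1) := by decide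
    have rl_add : ∀ i c d, rl i (c + d) = rl i c + rl i d := by
      intro i c d
      have : ∀ (a b : ZMod 2) (x : W), (if a + b = 0 then 0 else x) = (if a = 0 then 0 else x) + (if b = 0 then 0 else x) := by
        intro a b x
        rcases (by decide : ∀ y : ZMod 2, y = 0 ∨ y = 1) a with rfl | rfl <;>
          rcases (by decide : ∀ y : ZMod 2, y = 0 ∨ y = 1) b with rfl | rfl <;>
          simp [h2, show (1 : ZMod 2) + 1 = 0 from rfl]
      simp only [rl, Prod.fst_add, Prod.snd_add, this]
      abel
    have rl_inj : ∀ i c, rl i c = 0 → c = 0 := by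
      intro i c
      rcases hc4 c with rfl | rfl | rfl | rfl
      · exact fun _ => rfl
      · intro h; simp [rl] at h; exact absurd h (husne _)
      · intro h; simp [rl] at h; exact absurd ((smul_eq_zero_iff_eq _).1 h) (husne _)
      · intro h; simp [rl] at h
        have := hru i
        rw [h, zero_add, smul_eq_zero_iff_eq, smul_eq_zero_iff_eq] at this
        exact absurd this (husne _)
    have rl_r : ∀ i c, r • rl i c = rl i (om1 c) := by
      intro i c
      have hrr : r • r • u i = u i + r • u i := by
        calc r • r • u i = (u i + r • u i) + (u i + r • u i + r • r • u i) := by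
              rw [show (u i + r • u i) + (u i + r • u i + r • r • u i) =
                ((u i + r • u i) + (u i + r • u i)) + r • r • u i by abel, h2, zero_add]
          _ = u i + r • u i := by rw [hru i, add_zero]
      rcases hc4 c with rfl | rfl | rfl | rfl <;> simp [rl, om1, smul_add, hrr, show (1 : ZMod 2) + 1 = 0 from rfl] <;>
        rw [add_left_comm, h2, add_zero]
    let e : V → W := fun v => ∑ i, rl i (v i)
    have he_add : ∀ a b, e (a + b) = e a + e b := fun a b => by
      simp only [e, Pi.add_apply, rl_add, Finset.sum_add_distrib]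
    have proj_rl : ∀ (j i : Fin 6) c, proj π (idx j : PV) (rl i c) = if i = j then rl i c else 0 := by
      intro j i c
      split_ifs with h
      · subst h; exact proj_self h2 π (rl_eig i c)
      · exact proj_other h2 π hπadd (hSn _ (idx i).2) (hSn _ (idx j).2)
          (fun e => h (idx.injective (Subtype.ext e.symm))) (rl_eig i c)
    have he_proj : ∀ v j, proj π (idx j : PV) (e v) = rl j (v j) := fun v j => by
      simp only [e, proj_sum, proj_rl, Finset.sum_ite_eq', Finset.mem_univ, if_true]
    have he_inj : Function.Injective e := fun a b hab => funext fun j => by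
      have h0 : rl j (a j + b j) = 0 := by rw [rl_add, ← he_proj, ← he_proj, hab, h2]
      have := rl_inj j _ h0
      calc a j = a j + b j + b j := by
            rw [add_assoc, show b j + b j = 0 from by
              have : ∀ x : F4, x + x = 0 := by decide
              exact this _, add_zero]
        _ = b j := by rw [this, zero_add]
    have he_bij : Function.Bijective e := (Fintype.bijective_iff_injective_and_card e).2 ⟨he_inj, by
      rw [← Nat.card_eq_fintype_card, ← Nat.card_eq_fintype_card, card_V, hW]⟩
    have he_unit : ∀ i c, e (Pi.single i c) = rl i c := fun i c => by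
      simp only [e]
      rw [Finset.sum_eq_single i (fun j _ hj => by simp [Pi.single_eq_of_ne hj, rl]) (by simp), Pi.single_eq_same]
    have hrl_cases : ∀ i w, Eig π (idx i : PV) w → ∃ c, rl i c = w := fun i w hw => by
      obtain ⟨v, rfl⟩ := he_bij.2 w
      exact ⟨v i, by rw [← he_proj v i, proj_self h2 π hw]⟩
    -- the form
    have hne_orth : ∀ i j, i ≠ j → ∀ c d, bW (rl i c) (rl j d) = 0 := by
      intro i j hij c d
      obtain ⟨p, hp, hp'⟩ := normd_ker (hSn _ (idx i).2) (hSn _ (idx j).2)
        (fun e => hij (idx.injective (Subtype.ext e)))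
      have h1 : π p • rl i c = rl i c := (rl_eig i c).1 p hp
      have e1 : bW (rl i c) (π p • rl j d) = bW (rl i c) (rl j d) := by
        conv_lhs => rw [← h1]
        rw [hbinv]
      have e2 : bW (rl i c) (π p • π p • rl j d) = bW (rl i c) (rl j d) := by
        conv_lhs => rw [← h1]
        rw [hbinv, e1]
      have h0 : bW (rl i c) (rl j d + π p • rl j d + π p • π p • rl j d) = 0 := by
        rw [eig_cyc h2 π hπadd (rl_eig j d) hp', bzr]
      rw [hbr, hbr, e1, e2] at h0
      generalize bW (rl i c) (rl j d) = x at h0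
      revert x; decide
    have hq1 : ∀ i c, qW (rl i c) = nz c := by
      intro i
      have hqu : qW (u i) = 1 := by
        rcases (by decide : ∀ y : ZMod 2, y = 0 ∨ y = 1) (qW (u i)) with h0 | h0
        · exfalso
          have hb : bW (u i) (r • u i) = 0 := by
            have h1 := hq (u i) (r • u i)
            have h2' : qW (u i + r • u i) = qW (r • r • u i) := by
              congr 1
              rw [← add_zero (u i + r • u i), ← hru i]
              rw [show (u i + r • u i) + (u i + r • u i + r • r • u i) =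
                ((u i + r • u i) + (u i + r • u i)) + r • r • u i by abel, h2, zero_add]
            rw [h2', hinv, hinv, h0] at h1
            linear_combination -h1
          refine husne (idx i) (hnd (u i) fun w => ?_)
          obtain ⟨v, rfl⟩ := he_bij.2 w
          have hu' : u i = rl i (1, 0) := by simp [rl]
          have hsum : ∀ x : Fin 6 → W, bW (u i) (∑ j, x j) = ∑ j, bW (u i) (x j) := fun x =>
            map_sum (AddMonoidHom.mk' (fun y => bW (u i) y) (hbr (u i))) _ _
          show bW (u i) (∑ j, rl j (v j)) = 0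
          rw [hsum]
          refine Finset.sum_eq_zero fun j _ => ?_
          by_cases hj : i = j
          · subst hj
            rcases hc4 (v i) with e | e | e | e <;> rw [e] <;> simp [rl, bzr, hba, hbr, hb]
          · rw [hu']; exact hne_orth i j hj _ _
        · exact h0
      intro c
      rcases hc4 c with rfl | rfl | rfl | rfl
      · simp [rl, qz, nz]
      · simp [rl, hqu, nz]
      · simp [rl, hinv, hqu, nz]
      · have h2' : u i + r • u i = r • r • u i := by
          rw [← add_zero (u i + r • u i), ← hru i]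
          rw [show (u i + r • u i) + (u i + r • u i + r • r • u i) =
            ((u i + r • u i) + (u i + r • u i)) + r • r • u i by abel, h2, zero_add]
        simp [rl, h2', hinv, hqu, nz]; decide
    have hqe : ∀ v, qW (e v) = qf v := by
      intro v
      have key : ∀ s : Finset (Fin 6), qW (∑ i ∈ s, rl i (v i)) = ∑ i ∈ s, nz (v i) := by
        intro s
        induction s using Finset.induction with
        | empty => simp [qz]
        | insert a s ha ih =>
          rw [Finset.sum_insert ha, Finset.sum_insert ha, hq, ih, hq1]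
          have hsum : bW (rl a (v a)) (∑ i ∈ s, rl i (v i)) = ∑ i ∈ s, bW (rl a (v a)) (rl i (v i)) :=
            map_sum (AddMonoidHom.mk' (fun y => bW (rl a (v a)) y) (hbr _)) _ _
          rw [hsum, Finset.sum_eq_zero fun i hi => hne_orth a i (fun e => ha (e ▸ hi)) _ _, add_zero]
      exact key Finset.univ
    have hre : ∀ v, r • e v = e (om v) := fun v => by
      simp only [e, Finset.smul_sum, rl_r]; rfl
    have hrot : ∀ (k : ZMod 3) i c, rl i (rot k c) = π (k • r0) • rl i c := by
      intro k i c
      rcases zmod3_cases k with rfl | rfl | rfl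
      · rw [zero_smul, hπ0, one_smul, rot_zero]
      · rw [one_smul, rl_r]; congr 1
      · rw [add_smul, one_smul, hπadd, mul_smul, rl_r, rl_r]; congr 1
    -- the diagonal part
    let kf : PV → Fin 6 → ZMod 3 := fun p i => dt (idx i : PV) p * (dt (idx i : PV) r0)⁻¹
    have hkf : ∀ p v, π p • e v = e (diag (kf p) v) := by
      intro p v
      simp only [e, Finset.smul_sum]
      refine Finset.sum_congr rfl fun i _ => ?_
      rw [show diag (kf p) v i = rot (kf p i) (v i) from rfl, hrot]
      have hd : dt (idx i : PV) (p - kf p i • r0) = 0 := by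
        have := dt_add (idx i : PV) (p - kf p i • r0) (kf p i • r0)
        rw [sub_add_cancel, dt_smul, mul_assoc, inv_mul_cancel₀ (hall _), mul_one] at this
        linear_combination -this
      conv_lhs => rw [← sub_add_cancel p (kf p i • r0), hπadd, mul_smul]
      exact ((heig_smul _ (rl_eig i (v i))).1 _ hd)
    have kf_add : ∀ p q, kf (p + q) = kf p + kf q := fun p q => funext fun i => by
      simp only [kf, Pi.add_apply, dt_add, add_mul]
    have kf_inj : Function.Injective kf := fun p q hpq => hπinj (inv_mul_eq_one.1 (hfaith _ fun w => by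
      obtain ⟨v, rfl⟩ := he_bij.2 w
      rw [mul_smul, hkf q, ← hpq, ← hkf p, ← mul_smul, inv_mul_cancel, one_smul]))
    -- monomial form of the symmetries
    have hmon : ∀ h : Λ, ∃ (τ : Equiv.Perm (Fin 6)) (a : Fin 6 → ZMod 3),
        (∀ v, (h : H) • e v = e (diag a (perm τ v))) ∧ ∀ i, φ0 h (idx (τ i)) = idx i := by
      intro h
      let τ : Equiv.Perm (Fin 6) := idx.permCongr.symm (MulAction.toPerm h)⁻¹
      have hτ : ∀ i, φ0 h (idx (τ i)) = idx i := fun i => by
        show h • idx (τ i) = idx i
        simp [τ, Equiv.permCongr_def]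
      have hline : ∀ i, ∃ k : ZMod 3, (h : H) • u (τ i) = rl i (rot k (1, 0)) := by
        intro i
        have hE := htg h (idx (τ i))
        rw [show tg h (idx (τ i)) = idx i from hτ i] at hE
        obtain ⟨c, hc⟩ := hrl_cases i _ hE
        have hc0 : c ≠ 0 := fun e0 => by
          rw [e0, show rl i 0 = 0 by simp [rl]] at hc
          exact husne _ ((smul_eq_zero_iff_eq _).1 hc.symm)
        have : ∀ c : F4, c ≠ 0 → c = rot (lg c) (1, 0) := by decide
        exact ⟨lg c, by rw [← this c hc0, hc]⟩
      choose a ha using hline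
      refine ⟨τ, a, fun v => ?_, hτ⟩
      have hcom : ∀ x : W, (h : H) • r • x = r • (h : H) • x := fun x => by
        rw [← mul_smul, ← mul_smul]
        congr 1
        have := hα _ h.2 r0
        rw [hαr _ h.2] at this
        calc (h : H) * r = ((h : H) * π r0 * (h : H)⁻¹) * h := by show (h : H) * π r0 = _; group
          _ = r * h := by rw [← this]
      simp only [e, Finset.smul_sum]
      rw [← Equiv.sum_comp τ]
      refine Finset.sum_congr rfl fun i _ => ?_
      have hr' : (h : H) • r • u (τ i) = rl i (om1 (rot (a i) (1, 0))) := by rw [hcom, ha, rl_r]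
      have : ∀ (c : F4) (k : ZMod 3), rot k c =
          (if c.1 = 0 then 0 else rot k (1, 0)) + (if c.2 = 0 then 0 else om1 (rot k (1, 0))) := by decide
      show (h : H) • rl (τ i) (v (τ i)) = rl i (rot (a i) (v (τ i)))
      rw [this (v (τ i)) (a i), rl_add]
      simp only [rl, smul_add, apply_ite ((h : H) • ·), smul_zero]
      rcases hc4 (v (τ i)) with e | e | e | e <;> rw [e] <;> simp [ha, hr', rl]
    choose τ af hmf hτf using hmon
    have hprobe : ∀ (b c : Fin 6 → ZMod 3) (σ ρ : Equiv.Perm (Fin 6)),
        e (diag b (perm σ one6)) = e (diag c (perm ρ one6)) → b = c := fun b c σ ρ h => funext fun i => by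
      have h1 := congrFun (he_inj h) i
      simp only [diag, perm, one6] at h1
      have : ∀ x y : ZMod 3, rot x (1, 0) = rot y (1, 0) → x = y := by decide
      exact this _ _ h1
    have hcomp : ∀ (a b : Fin 6 → ZMod 3) (σ ρ : Equiv.Perm (Fin 6)) v,
        diag a (perm σ (diag b (perm ρ v))) = diag (fun i => a i + b (σ i)) (perm (ρ * σ) v) := fun a b σ ρ v =>
      funext fun i => rot_rot _ _ _
    let χ : Λ →* Multiplicative (ZMod 3) := MonoidHom.mk' (fun h => Multiplicative.ofAdd (∑ i, af h i)) fun g h => by
      have e1 : ((g * h : Λ) : H) • e one6 = e (diag (fun i => af g i + af h (τ g i)) (perm (τ h * τ g) one6)) := by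
        rw [Subgroup.coe_mul, mul_smul, hmf, hmf, hcomp]
      rw [hmf] at e1
      rw [hprobe _ _ _ _ e1, Finset.sum_add_distrib, Equiv.sum_comp (τ g) (af h), ofAdd_add]
    have hsum0 : ∀ h, ∑ i, af h i = 0 := fun h =>
      Multiplicative.ofAdd.injective ((hperf χ h).trans ofAdd_zero.symm)
    have hτall : ∀ σ : Equiv.Perm (Fin 6), Equiv.Perm.sign σ = 1 → ∃ h : Λ, τ h = σ := by
      intro σ hσ
      let c : Fin S.card ≃ Fin 6 := finCongr h6
      obtain ⟨x, hx⟩ := hA6 (c.symm.permCongr σ⁻¹) (by rw [Equiv.Perm.sign_permCongr, map_inv, hσ, inv_one])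
      refine ⟨x, Equiv.ext fun i => ?_⟩
      have h1 : φ0 x (idx (τ x i)) = idx i := hτf x i
      have h2' : ∀ j, φ0 x (idx j) = idx (σ⁻¹ j) := fun j => es.injective (by
        have := congrArg (fun e => e (es (idx j))) hx
        simp [φ, c, idx, Equiv.permCongr_apply] at this ⊢
        exact this)
      rw [h2'] at h1
      exact (Equiv.Perm.inv_eq_iff_eq.1 (idx.injective h1))
    have hrange_perm : ∀ p σ, Equiv.Perm.sign σ = 1 → ∃ p', kf p' = kf p ∘ σ := by
      intro p σ hσ
      obtain ⟨h, rfl⟩ := hτall σ hσ
      refine ⟨α (h : H) p, ?_⟩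
      have e1 : π (α (h : H) p) • (h : H) • e one6 = (h : H) • π p • e one6 := by
        rw [← mul_smul, ← mul_smul, hα _ h.2]; group
      rw [hmf, hkf, hkf, hmf, diag_diag] at e1
      have e2 : diag (af h) (perm (τ h) (diag (kf p) one6)) = diag (fun i => af h i + kf p (τ h i)) (perm (τ h) one6) :=
        funext fun i => rot_rot _ _ _
      rw [e2] at e1
      have := hprobe _ _ _ _ e1
      funext i
      have := congrFun this i
      simp only [Pi.add_apply] at this
      simp only [Function.comp]
      linear_combination this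
    let Rg : AddSubgroup (Fin 6 → ZMod 3) := (AddMonoidHom.mk' kf kf_add).range
    obtain ⟨p0, hp0⟩ : ∃ p, ∃ i, kf p i ≠ kf p 0 := by
      by_contra hall'
      push Not at hall'
      have : (Finset.univ.image kf).card ≤ 3 := by
        refine le_trans (Finset.card_le_card (t := Finset.univ.filter fun a => ∀ i, a i = a 0) fun x hx => ?_)
          card_const.le
        obtain ⟨p, -, rfl⟩ := Finset.mem_image.1 hx
        exact Finset.mem_filter.2 ⟨Finset.mem_univ _, hall' p⟩
      rw [Finset.card_image_of_injective _ kf_inj] at this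
      simp at this
    obtain ⟨i, j, k, l, hij, hkl, hkl', hik, hil, hjk, hjl⟩ := exists_two _ hp0
    have hij' : i ≠ j := fun e => hij (e ▸ rfl)
    have hsign : Equiv.Perm.sign (Equiv.swap i j * Equiv.swap k l) = 1 := by
      rw [map_mul, Equiv.Perm.sign_swap hij', Equiv.Perm.sign_swap hkl']; rfl
    have hd : dlt i j ∈ Rg := by
      obtain ⟨p', hp'⟩ := hrange_perm p0 _ hsign
      have hm : kf p0 ∘ (Equiv.swap i j * Equiv.swap k l) - kf p0 ∈ Rg :=
        sub_mem ⟨p', hp'⟩ ⟨p0, rfl⟩
      rw [swap_sub hij' hkl hik hil hjk hjl] at hm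
      rcases zmod3_cases' (kf p0 j - kf p0 i) with e | e | e <;> rw [e] at hm
      · exact absurd (sub_eq_zero.1 e).symm hij
      · rwa [one_smul] at hm
      · rw [neg_one_smul] at hm; simpa using neg_mem hm
    have hdall : ∀ a b, a ≠ b → dlt a b ∈ Rg := by
      intro a b hab
      obtain ⟨σ, hσ, ha, hb⟩ := even_pair i j a b hij' hab
      obtain ⟨p, hp⟩ := hd
      obtain ⟨p', hp'⟩ := hrange_perm p σ hσ
      refine ⟨p', ?_⟩
      show kf p' = _
      rw [hp', show kf p = dlt i j from hp]
      funext x
      simp only [Function.comp, dlt, Pi.sub_apply, Pi.single_apply]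
      rw [← ha, ← hb]
      simp
    have hZ : ∀ a : Fin 6 → ZMod 3, ∑ i, a i = 0 → ∃ p, kf p = a := by
      intro a ha
      have hmem : a ∈ Rg := by
        rw [sum_zero_eq a ha]
        have hs : ∀ (c : ZMod 3) {x}, x ∈ Rg → c • x ∈ Rg := fun c x hx => by
          rcases zmod3_cases' c with rfl | rfl | rfl
          · rw [zero_smul]; exact zero_mem _
          · rwa [one_smul]
          · rw [neg_one_smul]; exact neg_mem hx
        refine add_mem (add_mem (add_mem (add_mem ?_ ?_) ?_) ?_) ?_ <;> exact hs _ (hdall _ _ (by decide))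
      exact hmem
    refine ⟨e, he_bij, he_add, hqe, hre, fun a ha => ?_, fun σ hσ => ?_⟩
    · obtain ⟨p, rfl⟩ := hZ a ha
      exact ⟨p, hkf p⟩
    · obtain ⟨h, rfl⟩ := hτall σ hσ
      obtain ⟨p, hp⟩ := hZ (-af h) (by simp [hsum0])
      refine ⟨π p * h, fun v => ?_⟩
      rw [mul_smul, hmf, hkf, hp, diag_diag, neg_add_cancel, diag_zero]

end

end Cfsg.Agent.LFType23
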