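import Cfsg.Prelude.Def_Classical
import Cfsg.Agent.U43Seven.Normalizer
import Cfsg.Agent.LocalEven61.PSLSylow

/-!
An elementary abelian subgroup of order 81 of PSU₄(3) normalised by a simple subgroup of order 360.
-/
set_option autoImplicit false

namespace Cfsg.Agent.LFType23

open Cfsg
open scoped Matrix MatrixGroups

variable {K : Type} [Field K] [Fintype K]

section
variable (hK : Fintype.card K = 9)
include hK

theorem pow_nine (x : K) : x ^ 9 = x := by rw [← hK]; exact FiniteField.pow_card x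

theorem exists_norm_neg_one : ∃ a : K, a ^ 4 = -1 := by
  classical
  have := U43Seven.charP_three hK
  have hc : Nat.card Kˣ = 8 := by
    rw [Nat.card_units, Nat.card_eq_fintype_card, hK]
  obtain ⟨g, hg⟩ := IsCyclic.exists_generator (α := Kˣ)
  have ho : orderOf g = 8 := by rw [orderOf_eq_card_of_forall_mem_zpowers hg, hc]
  refine ⟨(g : K), ?_⟩
  have h8 : ((g : K) ^ 4) * ((g : K) ^ 4) = 1 := by
    rw [← pow_add, ← Units.val_pow_eq_pow_val, show 4 + 4 = orderOf g by rw [ho], pow_orderOf_eq_one, Units.val_one]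
  rcases mul_self_eq_one_iff.1 h8 with h | h
  · exfalso
    have : g ^ 4 = 1 := Units.ext (by simpa using h)
    have := Nat.le_of_dvd (by norm_num) (orderOf_dvd_of_pow_eq_one this)
    omega
  · exact h

end

/-- Conjugate transpose. -/
def sta {m n : Type} (M : Matrix m n K) : Matrix n m K := (M.map fun x => x ^ 3)ᵀ

theorem sta_mul [CharP K 3] {l m n : Type} [Fintype m] (A : Matrix l m K) (B : Matrix m n K) :
    sta (A * B) = sta B * sta A := by
  have : Fact (Nat.Prime 3) := ⟨Nat.prime_three⟩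
  have h := Matrix.map_mul (f := frobenius K 3) (L := A) (M := B)
  have e : ∀ {p q : Type} (M : Matrix p q K), M.map (frobenius K 3) = M.map (fun x => x ^ 3) := fun M => rfl
  rw [e, e, e] at h
  rw [sta, h, Matrix.transpose_mul]
  rfl

theorem sta_add [CharP K 3] {m n : Type} (A B : Matrix m n K) : sta (A + B) = sta A + sta B := by
  have : Fact (Nat.Prime 3) := ⟨Nat.prime_three⟩
  ext i j
  exact map_add (frobenius K 3) _ _

theorem sta_one {n : Type} [DecidableEq n] : sta (1 : Matrix n n K) = 1 := by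
  ext i j
  by_cases h : i = j
  · subst h; simp [sta]
  · simp [sta, Matrix.one_apply_ne' h, Matrix.one_apply_ne h]

theorem sta_sta (hK : Fintype.card K = 9) {m n : Type} (M : Matrix m n K) : sta (sta M) = M := by
  ext i j; simp [sta, ← pow_mul, pow_nine hK]

/-- Data for the two totally isotropic planes. -/
structure Planes (K : Type) [Field K] where
  P : Matrix (Fin 4) (Fin 2) K
  R : Matrix (Fin 4) (Fin 2) K
  pp : sta P * P = 0
  rr : sta R * R = 0
  pr : sta P * R = 1
  rp : sta R * P = 1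
  full : P * sta R + R * sta P = 1

variable (hK : Fintype.card K = 9)
include hK

theorem exists_planes : Nonempty (Planes K) := by
  classical
  have := U43Seven.charP_three hK
  obtain ⟨a, ha⟩ := exists_norm_neg_one hK
  have h3 : (3 : K) = 0 := by exact_mod_cast CharP.cast_eq_zero K 3
  have h2 : a * a ^ 3 = -1 := by rw [← pow_succ']; exact ha
  have h2' : a ^ 3 * a = -1 := by rw [← pow_succ]; exact ha
  refine ⟨⟨!![1, 0; a, 0; 0, 1; 0, a], !![-1, 0; a, 0; 0, -1; 0, a], ?_, ?_, ?_, ?_, ?_⟩⟩ <;>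
    ext i j <;> fin_cases i <;> fin_cases j <;>
    simp [sta, Matrix.mul_apply, Matrix.vecMul, dotProduct, Fin.sum_univ_four, Fin.sum_univ_two,
      Odd.neg_pow (show Odd 3 by decide)] <;>
    first
      | linear_combination (-1 : K) * h3
      | linear_combination ha
      | linear_combination ha - h3
      | linear_combination (2 : K) * ha - h3
      | linear_combination (-1 : K) * ha
      | linear_combination (-1 : K) * ha - h3
      | ring

theorem isometry_of_sta {M : Matrix (Fin 4) (Fin 4) K} (h : sta M * M = 1) (u v : Fin 4 → K) :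
    hermForm 4 K 3 (M *ᵥ u) (M *ᵥ v) = hermForm 4 K 3 u v := by
  classical
  have := U43Seven.charP_three hK
  have : Fact (Nat.Prime 3) := ⟨Nat.prime_three⟩
  have hF : ∀ (M : Matrix (Fin 4) (Fin 4) K) (v : Fin 4 → K) (i : Fin 4),
      (M *ᵥ v) i ^ 3 = ((M.map fun x => x ^ 3) *ᵥ fun j => v j ^ 3) i := fun M v i => by
    show frobenius K 3 (∑ j, M i j * v j) = _
    rw [map_sum]
    exact Finset.sum_congr rfl fun j _ => map_mul (frobenius K 3) _ _
  have hform : ∀ a b : Fin 4 → K, hermForm 4 K 3 a b = a ⬝ᵥ fun i => b i ^ 3 := fun _ _ => rfl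
  have hMM : Mᵀ * M.map (fun x => x ^ 3) = 1 := by
    have := congrArg Matrix.transpose h
    rw [Matrix.transpose_mul, sta, Matrix.transpose_transpose, Matrix.transpose_one] at this
    exact this
  rw [hform, hform, show (fun i => (M *ᵥ v) i ^ 3) = (M.map fun x => x ^ 3) *ᵥ fun j => v j ^ 3 from
    funext (hF M v), ← Matrix.vecMul_transpose, ← Matrix.dotProduct_mulVec, Matrix.mulVec_mulVec, hMM,
    Matrix.one_mulVec]

omit hK in
/-- Antihermitian matrices. -/
def AH [CharP K 3] : AddSubgroup (Matrix (Fin 2) (Fin 2) K) where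
  carrier := {X | sta X = -X}
  add_mem' {a b} ha hb := by
    show sta (a + b) = -(a + b)
    rw [sta_add, ha, hb]; abel
  zero_mem' := by ext i j; simp [sta]
  neg_mem' {a} ha := by
    show sta (-a) = - -a
    rw [neg_neg]
    ext i j
    have h := congrFun (congrFun ha i) j
    simp only [sta, Matrix.transpose_apply, Matrix.map_apply, Matrix.neg_apply] at h ⊢
    rw [Odd.neg_pow (by decide), h, neg_neg]

omit hK in
/-- Elements `s` with `s ^ 3 = -s`. -/
abbrev S3 (K : Type) [Field K] := {s : K // s ^ 3 = -s}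

set_option maxHeartbeats 4000000 in
/-- The elementary abelian subgroup and its normalising simple group. -/
theorem u43_data : ∃ (E L : Subgroup (PSU 4 K 3)),
    Nat.card E = 81 ∧ (∀ x ∈ E, ∀ y ∈ E, Commute x y) ∧ (∀ x ∈ E, x ^ 3 = 1) ∧
    IsSimpleGroup L ∧ Nat.card L = 360 ∧ (∀ l ∈ L, ∀ x ∈ E, l * x * l⁻¹ ∈ E) ∧
    (∀ f : PSU 4 K 3 → ZMod 3, (∀ x ∈ E, ∀ y ∈ E, f (x * y) = f x + f y) →
      (∀ l ∈ L, ∀ x ∈ E, f (l * x * l⁻¹) = f x) → ∀ x ∈ E, f x = 0) ∧
    (∀ κ : PSU 4 K 3 → PSU 4 K 3 → ZMod 3,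
      (∀ x ∈ E, ∀ x' ∈ E, ∀ y ∈ E, κ (x * x') y = κ x y + κ x' y) →
      (∀ x ∈ E, ∀ y ∈ E, ∀ y' ∈ E, κ x (y * y') = κ x y + κ x y') →
      (∀ x ∈ E, κ x x = 0) →
      (∀ l ∈ L, ∀ x ∈ E, ∀ y ∈ E, κ (l * x * l⁻¹) (l * y * l⁻¹) = κ x y) →
      ∀ x ∈ E, ∀ y ∈ E, κ x y = 0) := by
  classical
  have hCh := U43Seven.charP_three hK
  obtain ⟨B⟩ := exists_planes hK
  obtain ⟨a, ha⟩ := exists_norm_neg_one hK
  have h3 : (3 : K) = 0 := by exact_mod_cast CharP.cast_eq_zero K 3
  let ρ0 : SL(2, K) →* Matrix (Fin 4) (Fin 4) K :=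
    { toFun := fun A => B.P * A.1 * sta B.R + B.R * sta (A⁻¹).1 * sta B.P
      map_one' := by simp [sta_one, B.full]
      map_mul' := fun A C => by
        simp only [mul_inv_rev, Matrix.SpecialLinearGroup.coe_mul, sta_mul, Matrix.add_mul, Matrix.mul_add,
          Matrix.mul_assoc]
        simp only [← Matrix.mul_assoc (sta B.R), ← Matrix.mul_assoc (sta B.P), B.pp, B.rr, B.pr, B.rp,
          Matrix.one_mul, Matrix.zero_mul, Matrix.mul_zero, add_zero, zero_add] }
  have hρ : ∀ A, sta (ρ0 A) * ρ0 A = 1 := fun A => by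
    show sta (B.P * A.1 * sta B.R + B.R * sta (A⁻¹).1 * sta B.P) * (B.P * A.1 * sta B.R + B.R * sta (A⁻¹).1 * sta B.P) = 1
    simp only [sta_add, sta_mul, sta_sta hK, Matrix.add_mul, Matrix.mul_add, Matrix.mul_assoc]
    simp only [← Matrix.mul_assoc (sta B.R), ← Matrix.mul_assoc (sta B.P), B.pp, B.rr, B.pr, B.rp,
      Matrix.one_mul, Matrix.zero_mul, Matrix.mul_zero, add_zero, zero_add]
    have e1 : sta A.1 * sta (A⁻¹).1 = 1 := by
      rw [← sta_mul, ← Matrix.SpecialLinearGroup.coe_mul, inv_mul_cancel, Matrix.SpecialLinearGroup.coe_one, sta_one]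
    have e2 : (A⁻¹).1 * A.1 = 1 := by
      rw [← Matrix.SpecialLinearGroup.coe_mul, inv_mul_cancel, Matrix.SpecialLinearGroup.coe_one]
    rw [← Matrix.mul_assoc (sta A.1), e1, ← Matrix.mul_assoc (A⁻¹).1, e2]
    simp only [Matrix.one_mul]
    first | exact B.full | (rw [add_comm]; exact B.full)
  have hpsl : IsSimpleGroup (Matrix.ProjectiveSpecialLinearGroup (Fin 2) K) :=
    LocalEven61.psl_simple (by omega)
  have hZcard : Nat.card (Subgroup.center SL(2, K)) = 2 ∧
      Nat.card (Matrix.ProjectiveSpecialLinearGroup (Fin 2) K) = 360 := by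
    have hn : Nat.card K = 9 := by rw [Nat.card_eq_fintype_card, hK]
    have h1 := LinearGroup.card_SL_two (F := K)
    have h2 := LinearGroup.gcd_mul_card_PSL_two (F := K)
    have h3' := LinearGroup.card_SL_eq_center_mul_PSL (n := Fin 2) (R := K)
    rw [hn] at h1 h2
    norm_num [-Nat.card_eq_fintype_card] at h1 h2
    constructor <;> nlinarith
  have hperf : ∀ {A : Type} [CommGroup A] (f : SL(2, K) →* A) (g : SL(2, K)), f g = 1 := by
    intro A _ f g
    have hC : commutator SL(2, K) = ⊤ := LinearGroup.commutator_SL_eq_top' fun _ => ⟨a, fun h => by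
      rw [h] at ha; norm_num at ha, fun h => by
        rw [show a ^ 4 = (a ^ 2) ^ 2 by ring, h, one_pow] at ha
        exact one_ne_zero (show (1 : K) = 0 by linear_combination h3 - ha)⟩
    exact (Abelianization.commutator_subset_ker f) (hC ▸ Subgroup.mem_top g)
  have hdet : ∀ A, (ρ0 A).det = 1 := fun A => by
    have := hperf ((Units.map (Matrix.detMonoidHom (n := Fin 4) (R := K))).comp ρ0.toHomUnits) A
    exact congrArg Units.val this
  have hSU : ∀ M : Matrix.SpecialLinearGroup (Fin 4) K, sta M.1 * M.1 = 1 → M ∈ SU 4 K 3 :=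
    fun M hM u v => isometry_of_sta hK hM u v
  let φ : SL(2, K) →* SU 4 K 3 :=
    { toFun := fun A => ⟨⟨ρ0 A, hdet A⟩, hSU _ (hρ A)⟩
      map_one' := Subtype.ext (Subtype.ext ρ0.map_one)
      map_mul' := fun A C => Subtype.ext (Subtype.ext (ρ0.map_mul A C)) }
  let ψ : SL(2, K) →* PSU 4 K 3 := (QuotientGroup.mk' _).comp φ
  have hq : Fintype.card K = 3 ^ 2 := by rw [hK]; norm_num
  -- central elements of the unitary group are scalar
  have hscal : ∀ g : SU 4 K 3, g ∈ Subgroup.center (SU 4 K 3) → ∃ c : K, g.1.1 = c • 1 := by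
    intro g hg
    obtain ⟨c, hc⟩ := (Unitary.mem_center_iff hq (by norm_num)).1 hg
    refine ⟨c, Matrix.toLin'.injective (LinearMap.ext fun x => ?_)⟩
    rw [map_smul, Matrix.toLin'_one]
    exact hc x
  have hψker : Subgroup.center SL(2, K) ≤ ψ.ker := by
    intro A hA
    rw [MonoidHom.mem_ker]
    show QuotientGroup.mk (φ A) = 1
    rw [QuotientGroup.eq_one_iff]
    obtain ⟨r, hr⟩ := Matrix.SpecialLinearGroup.mem_center_iff.1 hA
    have hA1 : A.1 = r • 1 := by rw [← hr.2]; exact (Matrix.smul_one_eq_diagonal r).symm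
    have hr2 : r ^ 2 = 1 := by simpa using hr.1
    have hinv : (A⁻¹).1 = r • 1 := by
      rw [Matrix.SpecialLinearGroup.coe_inv, hA1, Matrix.adjugate_smul, Matrix.adjugate_one]; simp
    refine (Unitary.mem_center_iff hq (by norm_num)).2 ⟨r, fun x => ?_⟩
    have hs : sta (r • (1 : Matrix (Fin 2) (Fin 2) K)) = r • 1 := by
      have hr3 : r ^ 3 = r := by rw [pow_succ, hr2, one_mul]
      ext i j; fin_cases i <;> fin_cases j <;> simp [sta, hr3]
    show (B.P * A.1 * sta B.R + B.R * sta (A⁻¹).1 * sta B.P) *ᵥ x = r • x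
    rw [hA1, hinv, hs]
    simp only [Matrix.mul_smul, Matrix.mul_one, Matrix.smul_mul]
    rw [← smul_add, B.full, Matrix.smul_mulVec, Matrix.one_mulVec]
  let ψ' : Matrix.ProjectiveSpecialLinearGroup (Fin 2) K →* PSU 4 K 3 := QuotientGroup.lift _ ψ hψker
  let T : SL(2, K) := ⟨!![1, 1; 0, 1], by simp [Matrix.det_fin_two]⟩
  have hψinj : Function.Injective ψ' := by
    rw [← MonoidHom.ker_eq_bot_iff]
    refine (hpsl.eq_bot_or_eq_top_of_normal ψ'.ker inferInstance).resolve_right fun h => ?_
    have : ψ T = 1 := (QuotientGroup.lift_mk' _ hψker T).symm.trans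
      (MonoidHom.mem_ker.1 (h ▸ Subgroup.mem_top _))
    obtain ⟨c, hc⟩ := hscal _ ((QuotientGroup.eq_one_iff _).1 this)
    have e : sta B.P * (φ T).1.1 * B.R = sta (T⁻¹).1 := by
      show sta B.P * (B.P * T.1 * sta B.R + B.R * sta (T⁻¹).1 * sta B.P) * B.R = _
      simp only [Matrix.add_mul, Matrix.mul_add, Matrix.mul_assoc, B.pr, B.rr]
      simp only [← Matrix.mul_assoc (sta B.P), B.pp, B.pr, Matrix.one_mul, Matrix.zero_mul, Matrix.mul_one,
        zero_add]
    rw [hc, Matrix.mul_smul, Matrix.mul_one, Matrix.smul_mul, B.pr] at e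
    have := congrFun (congrFun e 1) 0
    have hTi : (T⁻¹).1 = !![1, -1; 0, 1] := by
      rw [Matrix.SpecialLinearGroup.coe_inv]
      exact (Matrix.adjugate_fin_two_of (1 : K) 1 0 1).trans (by ext i j; fin_cases i <;> fin_cases j <;> simp)
    rw [hTi] at this
    simp [sta, Odd.neg_pow (show Odd 3 by decide)] at this
  let L : Subgroup (PSU 4 K 3) := ψ'.range
  have hmemL : ∀ {l}, l ∈ L ↔ ∃ A, ψ A = l := by
    intro l
    constructor
    · rintro ⟨x, rfl⟩
      obtain ⟨A, rfl⟩ := QuotientGroup.mk_surjective x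
      exact ⟨A, rfl⟩
    · rintro ⟨A, rfl⟩
      exact ⟨QuotientGroup.mk A, rfl⟩
  let Le := MonoidHom.ofInjective hψinj
  have hLs : IsSimpleGroup L := Le.isSimpleGroup_congr.1 hpsl
  have hLc : Nat.card L = 360 := (Nat.card_congr Le.toEquiv).symm.trans hZcard.2
  -- the unipotent subgroup
  let em0 : Multiplicative (AH (K := K)) →* Matrix (Fin 4) (Fin 4) K :=
    { toFun := fun X => 1 + B.P * (Multiplicative.toAdd X).1 * sta B.P
      map_one' := by simp
      map_mul' := fun X Y => by
        simp only [toAdd_mul, AddSubgroup.coe_add, Matrix.mul_add, Matrix.add_mul, Matrix.one_mul, Matrix.mul_one,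
          Matrix.mul_assoc]
        simp only [← Matrix.mul_assoc (sta B.P), B.pp, Matrix.zero_mul, Matrix.mul_zero, add_zero]
        abel }
  have heρ : ∀ X, sta (em0 X) * em0 X = 1 := fun X => by
    show sta (1 + B.P * (Multiplicative.toAdd X).1 * sta B.P) * (1 + B.P * (Multiplicative.toAdd X).1 * sta B.P) = 1
    have hX : sta (Multiplicative.toAdd X).1 = -(Multiplicative.toAdd X).1 := (Multiplicative.toAdd X).2
    simp only [sta_add, sta_one, sta_mul, sta_sta hK, hX, Matrix.add_mul, Matrix.mul_add, Matrix.one_mul,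
      Matrix.mul_one, Matrix.mul_assoc, Matrix.neg_mul, Matrix.mul_neg]
    simp only [← Matrix.mul_assoc (sta B.P), B.pp, Matrix.zero_mul, Matrix.mul_zero, neg_zero, add_zero]
    abel
  have hthree : ∀ X : Multiplicative (AH (K := K)), X ^ 3 = 1 := fun X => by
    apply Multiplicative.toAdd.injective
    rw [toAdd_pow, toAdd_one]
    apply Subtype.ext
    rw [AddSubgroup.coe_nsmul, AddSubgroup.coe_zero]
    ext i j
    simp [h3]
  have hdetE : ∀ X, (em0 X).det = 1 := fun X => by
    have : Fact (Nat.Prime 3) := ⟨Nat.prime_three⟩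
    have h1 : (em0 X).det ^ 3 = 1 := by rw [← Matrix.det_pow, ← map_pow, hthree, map_one, Matrix.det_one]
    exact (frobenius_inj K 3) (show frobenius K 3 (em0 X).det = frobenius K 3 1 by
      rw [frobenius_def, h1, map_one])
  let em : Multiplicative (AH (K := K)) →* PSU 4 K 3 := (QuotientGroup.mk' _).comp
    { toFun := fun X => ⟨⟨em0 X, hdetE X⟩, hSU _ (heρ X)⟩
      map_one' := Subtype.ext (Subtype.ext em0.map_one)
      map_mul' := fun X Y => Subtype.ext (Subtype.ext (em0.map_mul X Y)) }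
  have hem : Function.Injective em := by
    rw [injective_iff_map_eq_one]
    intro X hX
    obtain ⟨c, hc⟩ := hscal _ ((QuotientGroup.eq_one_iff _).1 hX)
    change 1 + B.P * (Multiplicative.toAdd X).1 * sta B.P = c • 1 at hc
    have e := congrArg (fun M => sta B.R * M * B.R) hc
    simp only [Matrix.mul_add, Matrix.add_mul, Matrix.mul_one, Matrix.mul_assoc, B.pr, Matrix.mul_smul,
      Matrix.smul_mul, Matrix.one_mul, B.rr, smul_zero, zero_add] at e
    rw [← Matrix.mul_assoc, B.rp, Matrix.one_mul] at e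
    exact Multiplicative.toAdd.injective (Subtype.ext e)
  have hact : ∀ (A : SL(2, K)) (X Y : AH (K := K)), A.1 * X.1 * sta A.1 = Y.1 →
      ψ A * em (Multiplicative.ofAdd X) * (ψ A)⁻¹ = em (Multiplicative.ofAdd Y) := by
    intro A X Y hY
    rw [mul_inv_eq_iff_eq_mul]
    refine congrArg (QuotientGroup.mk' _) (Subtype.ext (Subtype.ext ?_) :
      φ A * (⟨⟨em0 (Multiplicative.ofAdd X), hdetE _⟩, hSU _ (heρ _)⟩ : SU 4 K 3) =
        (⟨⟨em0 (Multiplicative.ofAdd Y), hdetE _⟩, hSU _ (heρ _)⟩ : SU 4 K 3) * φ A)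
    show (B.P * A.1 * sta B.R + B.R * sta (A⁻¹).1 * sta B.P) * (1 + B.P * X.1 * sta B.P) =
      (1 + B.P * Y.1 * sta B.P) * (B.P * A.1 * sta B.R + B.R * sta (A⁻¹).1 * sta B.P)
    simp only [Matrix.mul_add, Matrix.add_mul, Matrix.mul_one, Matrix.one_mul, Matrix.mul_assoc]
    simp only [← Matrix.mul_assoc (sta B.R), ← Matrix.mul_assoc (sta B.P), B.rp, B.pp, B.pr,
      Matrix.one_mul, Matrix.zero_mul, Matrix.mul_zero, add_zero, zero_add]
    rw [← hY]
    simp only [Matrix.mul_assoc]
    have e1 : sta A.1 * sta (A⁻¹).1 = 1 := by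
      rw [← sta_mul, ← Matrix.SpecialLinearGroup.coe_mul, inv_mul_cancel, Matrix.SpecialLinearGroup.coe_one, sta_one]
    simp only [← Matrix.mul_assoc (sta A.1), e1, Matrix.one_mul]
    abel
  let E : Subgroup (PSU 4 K 3) := em.range
  have hj : (a ^ 2) ^ 3 = -a ^ 2 := by rw [show (a ^ 2) ^ 3 = a ^ 4 * a ^ 2 by ring, ha, neg_one_mul]
  have hj0 : a ^ 2 ≠ 0 := fun h => by
    rw [show a ^ 4 = a ^ 2 * a ^ 2 by ring, h] at ha; norm_num at ha
  have hEc : Nat.card E = 81 := by
    rw [← Nat.card_congr (MonoidHom.ofInjective hem).toEquiv, Nat.card_congr Multiplicative.toAdd]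
    let S := {s : K // s ^ 3 = -s}
    have hS : Nat.card S = 3 := by
      have hset : {s : K | s ^ 3 = -s} = {0, a ^ 2, -a ^ 2} := by
        ext s
        refine ⟨fun h => ?_, fun h => ?_⟩
        · have hsplit : s * ((s - a ^ 2) * (s + a ^ 2)) = 0 := by
            have h' : s ^ 3 = -s := h
            linear_combination h' - s * ha
          rcases mul_eq_zero.1 hsplit with e | e
          · exact Or.inl e
          rcases mul_eq_zero.1 e with e | e
          · exact Or.inr (Or.inl (sub_eq_zero.1 e))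
          · exact Or.inr (Or.inr (eq_neg_of_add_eq_zero_left e))
        · rcases h with rfl | rfl | rfl
          · simp
          · exact hj
          · show (-a ^ 2) ^ 3 = - -a ^ 2
            rw [Odd.neg_pow (by decide), hj]
      have hne : a ^ 2 ≠ -a ^ 2 := fun e => hj0 (by linear_combination (a ^ 2) * h3 - e)
      show Nat.card ({s : K | s ^ 3 = -s} : Set K) = 3
      rw [hset, Nat.card_coe_set_eq, Set.ncard_insert_of_notMem (by simp [Ne.symm hj0, hj0]),
        Set.ncard_pair hne]
    let e : AH (K := K) ≃ S × K × S :=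
      { toFun := fun X => (⟨X.1 0 0, congrFun (congrFun X.2 0) 0⟩, X.1 0 1, ⟨X.1 1 1, congrFun (congrFun X.2 1) 1⟩)
        invFun := fun p => ⟨!![p.1.1, p.2.1; -p.2.1 ^ 3, p.2.2.1], by
          show sta _ = -_
          ext i j
          fin_cases i <;> fin_cases j
          · simpa [sta] using p.1.2
          · simp [sta, Odd.neg_pow (show Odd 3 by decide), ← pow_mul, pow_nine hK]
          · simp [sta]
          · simpa [sta] using p.2.2.2⟩
        left_inv := fun X => by
          apply Subtype.ext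
          have h01 : -X.1 0 1 ^ 3 = X.1 1 0 := by
            have := congrFun (congrFun X.2 1) 0
            simp only [sta, Matrix.transpose_apply, Matrix.map_apply, Matrix.neg_apply] at this
            rw [this, neg_neg]
          ext i j
          fin_cases i <;> fin_cases j <;> simp [h01]
        right_inv := fun p => by simp }
    rw [Nat.card_congr e, Nat.card_prod, Nat.card_prod, hS, Nat.card_eq_fintype_card (α := K), hK]
  have hEconj : ∀ l ∈ L, ∀ x ∈ E, l * x * l⁻¹ ∈ E := by
    rintro l hl _ ⟨X, rfl⟩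
    obtain ⟨A, rfl⟩ := hmemL.1 hl
    have hX : sta (Multiplicative.toAdd X).1 = -(Multiplicative.toAdd X).1 := (Multiplicative.toAdd X).2
    refine ⟨Multiplicative.ofAdd ⟨A.1 * (Multiplicative.toAdd X).1 * sta A.1, ?_⟩, (hact A _ _ rfl).symm⟩
    show sta _ = -_
    simp only [sta_mul, sta_sta hK, hX, Matrix.neg_mul, Matrix.mul_neg, Matrix.mul_assoc]
  refine ⟨E, L, hEc, ?_, ?_, hLs, hLc, hEconj, ?_, ?_⟩
  · rintro _ ⟨X, rfl⟩ _ ⟨Y, rfl⟩
    exact (Commute.all X Y).map em
  · rintro _ ⟨X, rfl⟩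
    rw [← map_pow, hthree, map_one]
  all_goals
    let D : S3 K → AH (K := K) := fun s => ⟨!![s.1, 0; 0, 0], by
      show sta _ = -_
      ext i j; fin_cases i <;> fin_cases j <;> simp [sta, s.2]⟩
    let D' : S3 K → AH (K := K) := fun s => ⟨!![0, 0; 0, s.1], by
      show sta _ = -_
      ext i j; fin_cases i <;> fin_cases j <;> simp [sta, s.2]⟩
    let O : K → AH (K := K) := fun b => ⟨!![0, b; -b ^ 3, 0], by
      show sta _ = -_
      ext i j; fin_cases i <;> fin_cases j <;>
        simp [sta, Odd.neg_pow (show Odd 3 by decide), ← pow_mul, pow_nine hK]⟩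
    have hdec : ∀ X : AH (K := K),
        X = D ⟨X.1 0 0, congrFun (congrFun X.2 0) 0⟩ + O (X.1 0 1) + D' ⟨X.1 1 1, congrFun (congrFun X.2 1) 1⟩ := by
      intro X
      apply Subtype.ext
      have h01 : -X.1 0 1 ^ 3 = X.1 1 0 := by
        have := congrFun (congrFun X.2 1) 0
        simp only [sta, Matrix.transpose_apply, Matrix.map_apply, Matrix.neg_apply] at this
        rw [this, neg_neg]
      ext i j
      fin_cases i <;> fin_cases j <;> simp [D, D', O, h01]
    let em' : AH (K := K) → PSU 4 K 3 := fun X => em (Multiplicative.ofAdd X)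
    have emem : ∀ X, em' X ∈ E := fun X => ⟨_, rfl⟩
    have eadd : ∀ X Y, em' (X + Y) = em' X * em' Y := fun X Y => em.map_mul _ _
    have ha0 : a ≠ 0 := fun h => by rw [h] at ha; norm_num at ha
    let Aa : SL(2, K) := ⟨!![a, 0; 0, a⁻¹], by simp [Matrix.det_fin_two, ha0]⟩
    let Ai : SL(2, K) := ⟨!![a ^ 2, 0; 0, (a ^ 2)⁻¹], by simp [Matrix.det_fin_two, hj0]⟩
    have hi2 : (a ^ 2) * (a ^ 2) = -1 := by rw [← pow_add]; exact ha
    have hii : (a ^ 2)⁻¹ = -a ^ 2 := inv_eq_of_mul_eq_one_right (by rw [mul_neg, hi2, neg_neg])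
    have aDD : ∀ s, Ai.1 * (D s).1 * sta Ai.1 = (D s).1 := fun s => by
      ext i j; fin_cases i <;> fin_cases j <;>
        simp [Ai, D, sta, Matrix.mul_apply, Fin.sum_univ_two, hj]
      linear_combination -(s.1) * hi2
    have aDD' : ∀ s, Ai.1 * (D' s).1 * sta Ai.1 = (D' s).1 := fun s => by
      ext i j; fin_cases i <;> fin_cases j <;>
        simp [Ai, D', sta, Matrix.mul_apply, Fin.sum_univ_two, hii, Odd.neg_pow (show Odd 3 by decide), hj]
      linear_combination -(s.1) * hi2
    have aO : ∀ b, Ai.1 * (O b).1 * sta Ai.1 = (-O b).1 := fun b => by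
      ext i j; fin_cases i <;> fin_cases j <;>
        simp [Ai, O, sta, Matrix.mul_apply, Fin.sum_univ_two, hii, Odd.neg_pow (show Odd 3 by decide), hj]
      · linear_combination b * hi2
      · linear_combination -(b ^ 3) * hi2
  · intro f hf hinv
    have f1 : f 1 = 0 := by
      have := hf 1 (one_mem _) 1 (one_mem _); rw [one_mul] at this
      linear_combination -this
    have fneg : ∀ X, f (em' X) = f (em' (-X)) → f (em' X) = 0 := fun X h => by
      have e := hf _ (emem X) _ (emem (-X))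
      rw [← eadd, add_neg_cancel, show em' 0 = 1 from em.map_one, f1, ← h] at e
      generalize f (em' X) = x at e
      revert x; decide
    have inv' : ∀ (A : SL(2, K)) (X Y : AH (K := K)), A.1 * X.1 * sta A.1 = Y.1 → f (em' Y) = f (em' X) := fun A X Y h => by
      show f (em _) = f (em _)
      rw [← hact A X Y h, hinv _ (hmemL.2 ⟨A, rfl⟩) _ (emem X)]
    have fD : ∀ s, f (em' (D s)) = 0 := fun s => fneg _ (inv' Aa _ _ (by
      ext i j; fin_cases i <;> fin_cases j <;> simp [Aa, D, sta, Matrix.mul_apply, Fin.sum_univ_two]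
      linear_combination s.1 * ha)).symm
    have fD' : ∀ s, f (em' (D' s)) = 0 := fun s => fneg _ (inv' Aa _ _ (by
      ext i j; fin_cases i <;> fin_cases j <;> simp [Aa, D', sta, Matrix.mul_apply, Fin.sum_univ_two]
      field_simp
      linear_combination s.1 * ha)).symm
    have fO : ∀ b, f (em' (O b)) = 0 := fun b => fneg _ (inv' Ai _ _ (aO b)).symm
    rintro _ ⟨X, rfl⟩
    show f (em' (Multiplicative.toAdd X)) = 0
    rw [hdec (Multiplicative.toAdd X), eadd, eadd, hf _ (mul_mem (emem _) (emem _)) _ (emem _),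
      hf _ (emem _) _ (emem _), fD, fD', fO]
    decide
  · intro κ hadd hadd' halt hinv
    let k : AH (K := K) → AH (K := K) → ZMod 3 := fun X Y => κ (em' X) (em' Y)
    have kl : ∀ X X' Y, k (X + X') Y = k X Y + k X' Y := fun X X' Y => by
      show κ _ _ = _
      rw [eadd, hadd _ (emem _) _ (emem _) _ (emem _)]
    have kr : ∀ X Y Y', k X (Y + Y') = k X Y + k X Y' := fun X Y Y' => by
      show κ _ _ = _
      rw [eadd, hadd' _ (emem _) _ (emem _) _ (emem _)]
    have kalt : ∀ X, k X X = 0 := fun X => halt _ (emem X)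
    have kskew : ∀ X Y, k Y X = -k X Y := fun X Y => by
      have := kalt (X + Y)
      rw [kl, kr, kr, kalt, kalt, zero_add, add_zero] at this
      exact (neg_eq_of_add_eq_zero_right this).symm
    have k0l : ∀ Y, k 0 Y = 0 := fun Y => by have := kl 0 0 Y; rw [add_zero] at this; linear_combination -this
    have k0r : ∀ Y, k Y 0 = 0 := fun Y => by rw [kskew, k0l, neg_zero]
    have knl : ∀ X Y, k (-X) Y = -k X Y := fun X Y => by
      have := kl X (-X) Y; rw [add_neg_cancel, k0l] at this; linear_combination -this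
    have knr : ∀ X Y, k X (-Y) = -k X Y := fun X Y => by rw [kskew, knl, kskew X Y, neg_neg]
    have inv' : ∀ (A : SL(2, K)) X X' Y Y', A.1 * X.1 * sta A.1 = X'.1 → A.1 * Y.1 * sta A.1 = Y'.1 →
        k X' Y' = k X Y := fun A X X' Y Y' hX hY => by
      show κ (em _) (em _) = κ (em _) (em _)
      rw [← hact A X X' hX, ← hact A Y Y' hY, hinv _ (hmemL.2 ⟨A, rfl⟩) _ (emem X) _ (emem Y)]
    have z3 : ∀ x : ZMod 3, x = -x → x = 0 := by decide
    have kDO : ∀ s b, k (D s) (O b) = 0 := fun s b => z3 _ (by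
      rw [← knr]; exact (inv' Ai _ _ _ _ (aDD s) (aO b)).symm)
    have kD'O : ∀ s b, k (D' s) (O b) = 0 := fun s b => z3 _ (by
      rw [← knr]; exact (inv' Ai _ _ _ _ (aDD' s) (aO b)).symm)
    let j : S3 K := ⟨a ^ 2, hj⟩
    have hS : ∀ s : S3 K, s.1 = 0 ∨ s.1 = a ^ 2 ∨ s.1 = -a ^ 2 := by
      intro s
      have hsplit : s.1 * ((s.1 - a ^ 2) * (s.1 + a ^ 2)) = 0 := by linear_combination s.2 - s.1 * ha
      rcases mul_eq_zero.1 hsplit with e | e
      · exact Or.inl e
      rcases mul_eq_zero.1 e with e | e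
      · exact Or.inr (Or.inl (sub_eq_zero.1 e))
      · exact Or.inr (Or.inr (eq_neg_of_add_eq_zero_left e))
    have Dcases : ∀ s, D s = 0 ∨ D s = D j ∨ D s = -D j := fun s => by
      rcases hS s with e | e | e
      · exact Or.inl (Subtype.ext (by ext x y; fin_cases x <;> fin_cases y <;> simp [D, e]))
      · exact Or.inr (Or.inl (congrArg D (Subtype.ext e)))
      · exact Or.inr (Or.inr (Subtype.ext (by ext x y; fin_cases x <;> fin_cases y <;> simp [D, j, e])))
    have D'cases : ∀ s, D' s = 0 ∨ D' s = D' j ∨ D' s = -D' j := fun s => by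
      rcases hS s with e | e | e
      · exact Or.inl (Subtype.ext (by ext x y; fin_cases x <;> fin_cases y <;> simp [D', e]))
      · exact Or.inr (Or.inl (congrArg D' (Subtype.ext e)))
      · exact Or.inr (Or.inr (Subtype.ext (by ext x y; fin_cases x <;> fin_cases y <;> simp [D', j, e])))
    let T1 : SL(2, K) := ⟨!![1, 1; 0, 1], by simp [Matrix.det_fin_two]⟩
    have tD' : T1.1 * (D' j).1 * sta T1.1 = (D j + O j.1 + D' j).1 := by
      ext x y; fin_cases x <;> fin_cases y <;>
        simp [T1, D, D', O, j, sta, Matrix.mul_apply, Fin.sum_univ_two, hj]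
    have tO : ∀ b, T1.1 * (O b).1 * sta T1.1 = (D ⟨b - b ^ 3, by
        have : Fact (Nat.Prime 3) := ⟨Nat.prime_three⟩
        show frobenius K 3 (b - b ^ 3) = _
        rw [map_sub, map_pow, frobenius_def, ← pow_mul, pow_nine hK]; ring⟩ + O b).1 := fun b => by
      ext x y; fin_cases x <;> fin_cases y <;>
        simp [T1, D, O, sta, Matrix.mul_apply, Fin.sum_univ_two]
      ring
    have hDD' : k (D' j) (D j) = 0 := by
      have h := inv' T1 _ _ _ _ tD' (tO j.1)
      rw [kD'O, kl, kl, kr, kr, kr] at h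
      have e : ∀ p, D ⟨j.1 - j.1 ^ 3, p⟩ = -D j := fun p => Subtype.ext (by
        ext x y; fin_cases x <;> fin_cases y <;> simp [D, j, hj]
        linear_combination (a ^ 2) * h3)
      rw [e, knr, knr, knr, kalt, kalt, kDO, kskew (D j) (O j.1), kDO, kD'O] at h
      simpa using h
    have hDD : ∀ s t, k (D s) (D t) = 0 := fun s t => by
      rcases Dcases s with e | e | e <;> rcases Dcases t with f | f | f <;>
        simp [e, f, k0l, k0r, knl, knr, kalt]
    have hD'D' : ∀ s t, k (D' s) (D' t) = 0 := fun s t => by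
      rcases D'cases s with e | e | e <;> rcases D'cases t with f | f | f <;>
        simp [e, f, k0l, k0r, knl, knr, kalt]
    have hD'D : ∀ s t, k (D' s) (D t) = 0 := fun s t => by
      rcases D'cases s with e | e | e <;> rcases Dcases t with f | f | f <;>
        simp [e, f, k0l, k0r, knl, knr, hDD']
    have hOj : ∀ b, k (O j.1) (O b) = 0 := fun b => by
      have h := inv' T1 _ _ _ _ tD' (tO b)
      rw [kD'O, kl, kl, kr, kr, kr, kDO, kD'O, hDD, hD'D, kskew _ (O j.1), kDO] at h
      simpa using h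
    have hO1 : ∀ b, k (O 1) (O b) = 0 := fun b => by
      have e1 : Aa.1 * (O j.1).1 * sta Aa.1 = (O 1).1 := by
        ext x y; fin_cases x <;> fin_cases y <;>
          simp [Aa, O, j, sta, Matrix.mul_apply, Fin.sum_univ_two]
        · field_simp
        · field_simp
          linear_combination (a ^ 4 - 1) * ha
      have e2 : Aa.1 * (O (b * a ^ 2)).1 * sta Aa.1 = (O b).1 := by
        ext x y; fin_cases x <;> fin_cases y <;>
          simp [Aa, O, sta, Matrix.mul_apply, Fin.sum_univ_two]
        · field_simp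
        · field_simp
          linear_combination (a ^ 4 - 1) * b ^ 3 * ha
      rw [inv' Aa _ _ _ _ e1 e2, hOj]
    have hOO : ∀ b c, k (O b) (O c) = 0 := fun b c => by
      have hu : (b + b ^ 3) = 0 ∨ (b + b ^ 3) = 1 ∨ (b + b ^ 3) = -1 := by
        have : Fact (Nat.Prime 3) := ⟨Nat.prime_three⟩
        have hf : frobenius K 3 (b + b ^ 3) = b + b ^ 3 := by
          rw [map_add, map_pow, frobenius_def, ← pow_mul, pow_nine hK]; ring
        rw [frobenius_def] at hf
        have hsplit : (b + b ^ 3) * ((b + b ^ 3 - 1) * (b + b ^ 3 + 1)) = 0 := by linear_combination hf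
        rcases mul_eq_zero.1 hsplit with e | e
        · exact Or.inl e
        rcases mul_eq_zero.1 e with e | e
        · exact Or.inr (Or.inl (sub_eq_zero.1 e))
        · exact Or.inr (Or.inr (eq_neg_of_add_eq_zero_left e))
      have hv : (b - b ^ 3) ^ 3 = -(b - b ^ 3) := by
        have : Fact (Nat.Prime 3) := ⟨Nat.prime_three⟩
        show frobenius K 3 _ = _
        rw [map_sub, map_pow, frobenius_def, ← pow_mul, pow_nine hK]; ring
      have Oadd : ∀ x y, O (x + y) = O x + O y := fun x y => Subtype.ext (by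
        have : Fact (Nat.Prime 3) := ⟨Nat.prime_three⟩
        have hc : (x + y) ^ 3 = x ^ 3 + y ^ 3 := map_add (frobenius K 3) x y
        ext p q; fin_cases p <;> fin_cases q <;> simp [O, hc]
        abel)
      have O0 : O 0 = 0 := Subtype.ext (by ext p q; fin_cases p <;> fin_cases q <;> simp [O])
      have Oneg : ∀ x, O (-x) = -O x := fun x => Subtype.ext (by
        ext p q; fin_cases p <;> fin_cases q <;> simp [O, Odd.neg_pow (show Odd 3 by decide)])
      have hb : b = -((b + b ^ 3) + (b - b ^ 3)) := by linear_combination b * h3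
      have hu' : k (O (b + b ^ 3)) (O c) = 0 := by
        rcases hu with e | e | e <;> simp [e, O0, Oneg, k0l, knl, hO1]
      have hv' : k (O (b - b ^ 3)) (O c) = 0 := by
        rcases hS ⟨_, hv⟩ with e | e | e <;> simp only at e <;> simp [e, O0, Oneg, k0l, knl]
        · exact hOj c
        · exact hOj c
      rw [hb, Oneg, knl, Oadd, kl, hu', hv', add_zero, neg_zero]
    rintro _ ⟨X, rfl⟩ _ ⟨Y, rfl⟩
    show k (Multiplicative.toAdd X) (Multiplicative.toAdd Y) = 0
    rw [hdec (Multiplicative.toAdd X), hdec (Multiplicative.toAdd Y)]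
    simp [kl, kr, hDD, hD'D', hD'D, hOO, kDO, kD'O, kskew (D' _) (D _), kskew (D _) (O _), kskew (D' _) (O _)]

end Cfsg.Agent.LFType23
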