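import Cfsg.Prelude.Def_MonsterType
import Cfsg.Agent.LargeExt10.Coord
import Cfsg.Agent.Lib.LargeExtraspecial.Sections
import Cfsg.Agent.Lib.LargeExtraspecial.Pullback
import Cfsg.Agent.S0283
import Cfsg.Agent.LFType23.Unitary
import Cfsg.Agent.LFType23.Cover
import Cfsg.Agent.LFType23.Monomial
import Cfsg.Agent.LFType23.Frame

/-!
The coordinate frame of a group of large Fischer type.
-/
set_option autoImplicit false

namespace Cfsg.Agent.LFType23

open Cfsg Cfsg.Agent.Reflections Cfsg.Agent.LargeExtraspecial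

variable {G : Type*} [Group G] [Finite G]

set_option maxHeartbeats 4000000 in
open QuadraticMap in
theorem frame_of_coords {z : G} {Q : Subgroup G} (S : Setup Q z) (hQc : Nat.card Q = 2 ^ 13)
    (N M : Subgroup (Subgroup.centralizer ({z} : Set G))) [N.Normal] [M.Normal]
    (hQN : Q.subgroupOf (Subgroup.centralizer ({z} : Set G)) ≤ N) (hNM : N ≤ M)
    (hNc : Nat.card N = 3 * Nat.card Q) (hMi : M.index = 2)
    (K : Type) [Field K] [Fintype K] (hK : Fintype.card K = 9)
    (ψ : M ⧸ N.subgroupOf M ≃* PSU 4 K 3)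
    {ι : Type} [Fintype ι] [DecidableEq ι] {f : QuadraticForm (ZMod 2) (ι → ZMod 2)}
    {c : G → ι → ZMod 2} (hc : LargeExt10.Coords f z Q c) :
    Nonempty (Frame z Q) := by
  classical
  have hCm : ∀ {h : G}, h ∈ (Subgroup.centralizer ({z} : Set G)) ↔ Commute h z := Subgroup.mem_centralizer_singleton_iff
  have hQC : Q ≤ (Subgroup.centralizer ({z} : Set G)) := S.le_centralizer
  obtain ⟨ρ, hact, hker⟩ := LargeExt10.exists_rho S hc
  set ρ' := ρ.rangeRestrict with hρ'
  have hker' : ∀ g, ρ' g = 1 ↔ (g : G) ∈ Q := fun g => by rw [← hker g, Subtype.ext_iff]; rfl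
  have hQker : ρ'.ker = Q.subgroupOf (Subgroup.centralizer ({z} : Set G)) := Subgroup.ext fun g => by
    rw [MonoidHom.mem_ker, hker', Subgroup.mem_subgroupOf]
  have hQc' : Nat.card (Q.subgroupOf (Subgroup.centralizer ({z} : Set G))) = 2 ^ 13 := by
    rw [Nat.card_congr (Subgroup.subgroupOfEquivOfLe hQC).toEquiv, hQc]
  haveI : IsSimpleGroup (PSU 4 K 3) :=
    S0283.result (q := 3) (by rw [hK]; norm_num) 4 (by norm_num) (by omega)
  have hPSU : Nat.card (PSU 4 K 3) = 3265920 := U43Seven.card_PSU hK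
  have hnp : ¬ (Nat.card (PSU 4 K 3)).Prime := by rw [hPSU]; norm_num
  -- the image of `M` as a central extension
  let f1 : M →* (ρ'.comp M.subtype).range := (ρ'.comp M.subtype).rangeRestrict
  have f1s : Function.Surjective f1 := MonoidHom.rangeRestrict_surjective _
  have f1k : ∀ m : M, f1 m = 1 ↔ ((m : (Subgroup.centralizer ({z} : Set G))) : G) ∈ Q := fun m => by
    rw [← hker', Subtype.ext_iff]; rfl
  let θ0 : M →* PSU 4 K 3 := ψ.toMonoidHom.comp (QuotientGroup.mk' _)
  have θ0k : ∀ m : M, θ0 m = 1 ↔ (m : (Subgroup.centralizer ({z} : Set G))) ∈ N := fun m => by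
    simp [θ0, Subgroup.mem_subgroupOf]
  have θ0s : Function.Surjective θ0 := ψ.surjective.comp (QuotientGroup.mk'_surjective _)
  have hle : f1.ker ≤ θ0.ker := fun m hm => by
    rw [MonoidHom.mem_ker, θ0k]
    exact hQN (Subgroup.mem_subgroupOf.2 ((f1k m).1 hm))
  let θ : (ρ'.comp M.subtype).range →* PSU 4 K 3 := f1.liftOfSurjective f1s ⟨θ0, hle⟩
  have θof : ∀ m, θ (f1 m) = θ0 m := MonoidHom.liftOfRightInverse_comp_apply f1 _ (Function.rightInverse_surjInv f1s) ⟨θ0, hle⟩
  have θs : Function.Surjective θ := fun u => by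
    obtain ⟨m, rfl⟩ := θ0s u
    exact ⟨f1 m, θof m⟩
  have hcardM1 : Nat.card M = 2 ^ 13 * (3 * 3265920) := by
    have h1 := Subgroup.card_eq_card_quotient_mul_card_subgroup (N.subgroupOf M)
    rw [Nat.card_congr ψ.toEquiv, hPSU, Nat.card_congr (Subgroup.subgroupOfEquivOfLe hNM).toEquiv, hNc, hQc] at h1
    rw [h1]; ring
  have hCcard : Nat.card (Subgroup.centralizer ({z} : Set G)) = 2 ^ 13 * 19595520 := by
    rw [← M.card_mul_index, hMi, hcardM1]; norm_num
  have hθker : Nat.card θ.ker = 3 := by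
    have h1 : Nat.card f1.ker = 2 ^ 13 := by
      have e : f1.ker = (Q.subgroupOf (Subgroup.centralizer ({z} : Set G))).subgroupOf M := Subgroup.ext fun m => by
        rw [MonoidHom.mem_ker, f1k, Subgroup.mem_subgroupOf, Subgroup.mem_subgroupOf]
      rw [e, Nat.card_congr (Subgroup.subgroupOfEquivOfLe (hQN.trans hNM)).toEquiv, hQc']
    have h2 := Subgroup.card_eq_card_quotient_mul_card_subgroup f1.ker
    rw [Nat.card_congr (QuotientGroup.quotientKerEquivOfSurjective f1 f1s).toEquiv, h1, hcardM1] at h2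
    have h3 := Subgroup.card_eq_card_quotient_mul_card_subgroup θ.ker
    rw [Nat.card_congr (QuotientGroup.quotientKerEquivOfSurjective θ θs).toEquiv, hPSU] at h3
    omega
  have hθcen : ∀ k ∈ θ.ker, ∀ m, Commute k m := by
    intro k hk m
    haveI hcyc : IsCyclic θ.ker := haveI : Fact (Nat.Prime 3) := ⟨Nat.prime_three⟩; isCyclic_of_prime_card hθker
    let conj : (ρ'.comp M.subtype).range →* MulAut θ.ker := MulAut.conjNormal
    have hkz : θ.ker ≤ conj.ker := by
      intro x hx
      rw [MonoidHom.mem_ker]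
      refine MulEquiv.ext fun y => Subtype.ext ?_
      rw [MulAut.conjNormal_apply]
      have := congrArg Subtype.val (IsCyclic.commGroup.mul_comm (⟨x, hx⟩ : θ.ker) y)
      simp only [Subgroup.coe_mul] at this
      show x * (y : (ρ'.comp M.subtype).range) * x⁻¹ = y
      rw [this, mul_inv_cancel_right]
    have htriv : conj.ker = ⊤ := by
      rcases IsSimpleGroup.eq_bot_or_eq_top_of_normal (conj.ker.map θ) (Subgroup.Normal.map inferInstance _ θs) with h | h
      · exfalso
        have h2 : conj.ker = θ.ker := le_antisymm ((Subgroup.map_eq_bot_iff _).1 h) hkz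
        have h3 : conj.ker.index ∣ 2 := by
          rw [Subgroup.index_ker]
          refine (Subgroup.card_subgroup_dvd_card _).trans ?_
          rw [IsCyclic.card_mulAut, hθker]
          decide
        rw [h2, Subgroup.index_ker, MonoidHom.range_eq_top.2 θs, Subgroup.card_top, hPSU] at h3
        norm_num at h3
      · exact eq_top_iff.2 fun x _ => by
          obtain ⟨y, hy, e⟩ := Subgroup.mem_map.1 (show θ x ∈ conj.ker.map θ by rw [h]; exact Subgroup.mem_top _)
          have : x = y * (y⁻¹ * x) := by group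
          rw [this]
          exact mul_mem hy (hkz (by rw [MonoidHom.mem_ker, map_mul, map_inv, e, inv_mul_cancel]))
    have hm : conj m = 1 := MonoidHom.mem_ker.1 (htriv ▸ Subgroup.mem_top m)
    have := congrArg Subtype.val (DFunLike.congr_fun hm ⟨k, hk⟩)
    rw [MulAut.conjNormal_apply] at this
    exact (mul_inv_eq_iff_eq_mul.1 (this : m * k * m⁻¹ = k)).symm
  obtain ⟨E, L, hEc, hEcomm, hE3, hLs, hLc, hconj, hfun, halt⟩ := u43_data hK
  obtain ⟨π0, r0, Λ0, hπadd, hπinj, hr0, hr0k, hperf, hΛconj, hΛfun, hΛsmall⟩ :=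
    cover_data θ θs hθker hθcen E L hEc hEcomm hE3 hLs hLc hconj hfun halt
  -- the space and the action
  letI : DistribMulAction ρ.range (ι → ZMod 2) :=
    { smul := fun h x => act h.1 x
      one_smul := act_one
      mul_smul := fun a b x => act_mul _ _ _
      smul_zero := fun h => Matrix.mulVec_zero _
      smul_add := fun h x y => Matrix.mulVec_add _ _ _ }
  let j : (ρ'.comp M.subtype).range →* ρ.range := Subgroup.subtype _
  let π : PV → ρ.range := fun p => j (π0 p)
  have hπadd' : ∀ p q, π (p + q) = π p * π q := fun p q => by simp only [π, hπadd, map_mul]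
  let Λ : Subgroup ρ.range := Λ0.map j
  have jinj : Function.Injective j := Subgroup.subtype_injective _
  let e0 : Λ0 ≃* Λ := Λ0.equivMapOfInjective j jinj
  let α : ρ.range → PV → PV := fun h p => if e : ∃ q, π q = h * π p * h⁻¹ then e.choose else 0
  have hα : ∀ h ∈ Λ, ∀ p, π (α h p) = h * π p * h⁻¹ := by
    rintro _ ⟨h, hh, rfl⟩ p
    have hex : ∃ q, π q = j h * π p * (j h)⁻¹ := by
      obtain ⟨q, hq⟩ := hΛconj h hh p
      exact ⟨q, by simp only [π, hq, map_mul, map_inv]⟩
    simp only [α, dif_pos hex]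
    exact hex.choose_spec
  have πinj : Function.Injective π := jinj.comp hπinj
  have hW2 : ∀ w : ι → ZMod 2, w + w = 0 := fun w => funext fun i => CharTwo.add_self_eq_zero _
  have hWc : Nat.card (ι → ZMod 2) = 4096 := by
    have hz2 : Nat.card (Subgroup.zpowers z) = 2 := by rw [Nat.card_zpowers, S.orderOf_z]
    let cq : Q →* Multiplicative (ι → ZMod 2) :=
      MonoidHom.mk' (fun x => Multiplicative.ofAdd (c x)) fun x y => by
        rw [Subgroup.coe_mul, hc.mul _ x.2 _ y.2, ofAdd_add]
    have hs : Function.Surjective cq := fun v => by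
      obtain ⟨x, hx, e⟩ := hc.surj (Multiplicative.toAdd v)
      exact ⟨⟨x, hx⟩, congrArg Multiplicative.ofAdd e⟩
    have hk : cq.ker = (Subgroup.zpowers z).subgroupOf Q := Subgroup.ext fun x => by
      rw [MonoidHom.mem_ker, Subgroup.mem_subgroupOf, ← hc.ker _ x.2]
      exact ⟨fun h => congrArg Multiplicative.toAdd h, fun h => congrArg Multiplicative.ofAdd h⟩
    have h := Subgroup.card_eq_card_quotient_mul_card_subgroup cq.ker
    rw [Nat.card_congr (QuotientGroup.quotientKerEquivOfSurjective cq hs).toEquiv, hQc, hk,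
      Nat.card_congr (Subgroup.subgroupOfEquivOfLe (Subgroup.zpowers_le.2 S.z_mem)).toEquiv, hz2,
      Nat.card_congr Multiplicative.toAdd] at h
    omega
  have hz1 : z ≠ 1 := S.z_ne_one
  have hcomm_iff : ∀ x ∈ Q, ∀ y ∈ Q, Commute x y ↔ polar ⇑f (c x) (c y) = 0 := fun x hx y hy => by
    have h := hc.comm x hx y hy
    constructor
    · intro e
      rw [e.eq, mul_inv_cancel_right, mul_inv_cancel] at h
      exact LargeExt10.pw_eq_one hz1 h.symm
    · intro e
      rw [e, LargeExt10.pw_zero, mul_inv_eq_one, mul_inv_eq_iff_eq_mul] at h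
      exact h
  obtain ⟨e, ebij, eadd, eq, eom, ediag, eperm⟩ := exists_monomial (W := ι → ZMod 2) (H := ρ.range) hW2 π hπadd'
    hWc (fun h hh => Subtype.ext (isom_ext fun w => (hh w).trans (act_one w).symm))
    (⇑f) (fun a b => polar ⇑f a b) (fun a b => by simp [polar])
    (fun a a' b => polar_add_left f a a' b) (fun a b => polar_comm _ _ _)
    (fun a => by rw [polar_self, two_smul]; exact CharTwo.add_self_eq_zero _)
    (fun a ha => by
      obtain ⟨x, hx, rfl⟩ := hc.surj a
      refine (hc.ker x hx).2 (S.mem_zpowers_of_center hx fun y hy => ?_)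
      exact ((hcomm_iff x hx y hy).2 (ha _)).eq)
    (fun h a => by
      obtain ⟨g, hg⟩ := h.2
      exact act_Q h.1 a)
    πinj r0 hr0 Λ
    (fun {A} _ g x => by
      have := hperf (g.comp e0.toMonoidHom) (e0.symm x)
      simpa using this)
    α hα
    (fun h hh => by
      obtain ⟨h0, hh0, rfl⟩ := hh
      refine πinj ((hα _ ⟨h0, hh0, rfl⟩ r0).trans ?_)
      simp only [π, ← map_inv, ← map_mul]
      rw [← (hθcen _ hr0k h0).eq, mul_inv_cancel_right])
    (fun g hg hgr => hΛfun g (fun h hh p q hq => by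
      have := hg (j h) ⟨h, hh, rfl⟩ p
      rwa [show α (j h) p = q from πinj ((hα _ ⟨h, hh, rfl⟩ p).trans
        (by simp only [π, hq, map_mul, map_inv]))] at this) hgr)
    (fun n hn φ => by
      rcases hΛsmall n hn (φ.comp e0.toMonoidHom) with h | ⟨h6, h⟩
      · exact Or.inl fun x => by simpa using h (e0.symm x)
      · exact Or.inr ⟨h6, fun σ hσ => by obtain ⟨x, hx⟩ := h σ hσ; exact ⟨e0 x, hx⟩⟩)
  let ee := Equiv.ofBijective e ebij
  let pi : G → V → V := fun h v => if hh : h ∈ (Subgroup.centralizer ({z} : Set G)) then ee.symm (act (ρ ⟨h, hh⟩) (e v)) else v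
  have hpi : ∀ (h : G) (hh : h ∈ (Subgroup.centralizer ({z} : Set G))) v, e (pi h v) = act (ρ ⟨h, hh⟩) (e v) := fun h hh v => by
    simp only [pi, dif_pos hh]
    exact Equiv.ofBijective_apply_symm_apply e ebij _
  have ee0 : e 0 = 0 := by
    have := eadd 0 0; rw [add_zero] at this
    exact left_eq_add.1 this
  have hpolar : ∀ u w, polar ⇑f (e u) (e w) = bf u w := fun u w => by
    rw [polar, ← eadd, eq, eq, eq, qf_add]; ring
  have hrange : ∀ x : ρ.range, ∃ h : (Subgroup.centralizer ({z} : Set G)), ρ h = x.1 := fun x => MonoidHom.mem_range.1 x.2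
  refine ⟨{
    mu := fun a => ee.symm (c a)
    pi := pi
    z_order := S.orderOf_z
    z_mem := S.z_mem
    le_cent := fun a ha => (S.z_commute ha).symm
    normal := fun h hh a ha => S.conj_mem hh ha
    mu_mul := fun a ha b hb => e |> fun _ => ee.injective (by
      show e _ = e _
      rw [eadd]
      simp only [ee, Equiv.ofBijective_apply_symm_apply]
      exact hc.mul a ha b hb)
    mu_eq_zero := fun a ha => by
      rw [Equiv.symm_apply_eq]
      show c a = e 0 ↔ _
      rw [ee0, hc.ker a ha]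
      constructor
      · exact S.zpowers_cases
      · rintro (rfl | rfl)
        · exact one_mem _
        · exact Subgroup.mem_zpowers _
    mu_surj := fun u => by
      obtain ⟨a, ha, e'⟩ := hc.surj (e u)
      exact ⟨a, ha, by rw [Equiv.symm_apply_eq]; exact e'⟩
    sq := fun a ha => by
      have h := hc.sq a ha
      rw [← Equiv.ofBijective_apply_symm_apply e ebij (c a), eq] at h
      exact h
    comm := fun a ha b hb => by
      have h := hc.comm a ha b hb
      rw [← Equiv.ofBijective_apply_symm_apply e ebij (c a), ← Equiv.ofBijective_apply_symm_apply e ebij (c b),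
        hpolar] at h
      rw [mul_inv_eq_iff_eq_mul] at h
      rw [h]
      rcases LargeExt10.pw_cases z (bf (ee.symm (c a)) (ee.symm (c b))) with ⟨e1, e2⟩ | ⟨e1, e2⟩
      · rw [if_pos e1, e2, one_mul]
      · rw [if_neg (by rw [e1]; decide), e2, (S.z_commute hb).eq]
    pi_mu := fun h hh a ha => ee.injective (by
      show e _ = e _
      rw [hpi h (hCm.2 hh)]
      simp only [ee, Equiv.ofBijective_apply_symm_apply]
      exact (hact ⟨h, hCm.2 hh⟩ a ha).symm)
    faithful := fun h hh hfix => (hker ⟨h, hCm.2 hh⟩).1 (isom_ext fun w => by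
      obtain ⟨v, rfl⟩ := ebij.2 w
      rw [act_one, ← hpi h (hCm.2 hh), hfix v])
    card_cent := hCcard
    card_le := hQc
    perm_mem := fun σ hσ => by
      obtain ⟨x, hx⟩ := eperm σ hσ
      obtain ⟨h, hh⟩ := hrange x
      exact ⟨h, hCm.1 h.2, fun u => ebij.1 (by rw [hpi _ h.2, hh]; exact hx u)⟩
    diag_mem := fun a ha => by
      obtain ⟨p, hp⟩ := ediag a ha
      obtain ⟨h, hh⟩ := hrange (π p)
      exact ⟨h, hCm.1 h.2, fun u => ebij.1 (by rw [hpi _ h.2, hh]; exact hp u)⟩
    lin_or := ?_ }⟩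
  intro h hh
  obtain ⟨n0, hn0⟩ := hrange (π r0)
  have hn0N : n0 ∈ N := by
    obtain ⟨m, hm⟩ := f1s (π0 r0)
    have h1 : (m : (Subgroup.centralizer ({z} : Set G))) ∈ N := (θ0k m).1 (by rw [← θof, hm]; exact MonoidHom.mem_ker.1 hr0k)
    have h2 : ρ (m : (Subgroup.centralizer ({z} : Set G))) = ρ n0 := by
      rw [hn0]
      exact congrArg (fun x : (ρ'.comp M.subtype).range => (x.1 : ρ.range).1) hm
    have h3 : ((m : (Subgroup.centralizer ({z} : Set G)))⁻¹ * n0 : (Subgroup.centralizer ({z} : Set G))) ∈ Q.subgroupOf (Subgroup.centralizer ({z} : Set G)) := by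
      rw [Subgroup.mem_subgroupOf, ← hker, map_mul, map_inv, h2, inv_mul_cancel]
    simpa using mul_mem h1 (hQN h3)
  set hC' : (Subgroup.centralizer ({z} : Set G)) := ⟨h, hCm.2 hh⟩
  have hconjN : hC' * n0 * hC'⁻¹ ∈ N := Subgroup.Normal.conj_mem inferInstance _ hn0N _
  -- the image of `N` is generated by the scalar
  have hN3 : ∀ n ∈ N, ρ n = 1 ∨ ρ n = ρ n0 ∨ ρ n = ρ n0 * ρ n0 := by
    intro n hn
    have hne : ρ n0 ≠ 1 := fun e1 => hr0 (πinj (by
      have e2 : π 0 = 1 := by
        have := hπadd' 0 0; rw [add_zero] at this; simpa using this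
      rw [e2]; exact Subtype.ext (hn0.symm.trans e1)))
    let φN : N →* ρ.range := ρ'.comp N.subtype
    have hk : Nat.card φN.range = 3 := by
      have h1 : φN.ker = (Q.subgroupOf (Subgroup.centralizer ({z} : Set G))).subgroupOf N := Subgroup.ext fun m => by
        rw [MonoidHom.mem_ker, Subgroup.mem_subgroupOf, Subgroup.mem_subgroupOf]
        exact hker' m
      have h2 := φN.ker.card_mul_index
      rw [Subgroup.index_ker, h1, Nat.card_congr (Subgroup.subgroupOfEquivOfLe hQN).toEquiv, hQc', hNc, hQc] at h2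
      omega
    let g0 : φN.range := ⟨ρ' n0, ⟨n0, hn0N⟩, rfl⟩
    haveI : Fact (Nat.Prime 3) := ⟨Nat.prime_three⟩
    have hg0 : g0 ≠ 1 := fun e1 => hne (congrArg (fun x : φN.range => x.1.1) e1)
    have hgen := zpowers_eq_top_of_prime_card (g := g0) hk hg0
    obtain ⟨k, hk'⟩ := mem_powers_iff_mem_zpowers.2
      (hgen ▸ Subgroup.mem_top (⟨ρ' n, ⟨n, hn⟩, rfl⟩ : φN.range))
    have ho : orderOf g0 = 3 := orderOf_eq_prime (hk ▸ pow_card_eq_one') hg0
    have : g0 ^ k = 1 ∨ g0 ^ k = g0 ∨ g0 ^ k = g0 * g0 := by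
      rw [← pow_mod_orderOf g0 k, ho]
      rcases (by omega : k % 3 = 0 ∨ k % 3 = 1 ∨ k % 3 = 2) with e | e | e <;> simp [e, pow_two]
    simp only at hk'
    rw [hk'] at this
    rcases this with e | e | e
    · exact Or.inl (congrArg (fun x : φN.range => x.1.1) e)
    · exact Or.inr (Or.inl (congrArg (fun x : φN.range => x.1.1) e))
    · exact Or.inr (Or.inr (congrArg (fun x : φN.range => x.1.1) e))
  have hom1 : ∀ w, act (ρ n0) (e w) = e (om w) := fun w => by rw [hn0]; exact eom w
  have key : ∀ u, act (ρ hC') (e (om u)) = act (ρ (hC' * n0 * hC'⁻¹)) (act (ρ hC') (e u)) := fun u => by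
    rw [← hom1, ← act_mul, ← act_mul, ← map_mul, ← map_mul, inv_mul_cancel_right]
  rcases hN3 _ hconjN with e1 | e1 | e1
  · exfalso
    rw [map_mul, map_mul, map_inv, conj_eq_one_iff] at e1
    exact hr0 (πinj (by
      have e2 : π 0 = 1 := by
        have := hπadd' 0 0; rw [add_zero] at this; simpa using this
      rw [e2]; exact Subtype.ext (hn0.symm.trans e1)))
  · exact Or.inl fun u => ebij.1 (by rw [hpi h (hCm.2 hh), key, e1, ← hom1, hpi h (hCm.2 hh)])
  · exact Or.inr fun u => ebij.1 (by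
      rw [hpi h (hCm.2 hh), key, e1, act_mul, ← hom1, ← hom1, hpi h (hCm.2 hh)])

/-- The frame of a group of large Fischer type. -/
theorem exists_frame (z : G) (Q : Subgroup (Subgroup.centralizer ({z} : Set G))) [Q.Normal]
    (hF : Cfsg.IsOfLargeFischerTypeAt z Q) :
    Nonempty (Frame z (Q.map (Subgroup.centralizer ({z} : Set G)).subtype)) := by
  classical
  obtain ⟨⟨hz, hgf, hQ, hcard, -⟩, N, M, hN, hM, hQN, hNM, hNc, ⟨K, _, _, hK, ⟨ψ⟩⟩, hMi⟩ := hF
  have hE : Cfsg.IsExtraspecial 2 ↥(Q.map (Subgroup.centralizer ({z} : Set G)).subtype) :=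
    isExtraspecial_equiv (Q.equivMapOfInjective _ (Subgroup.centralizer ({z} : Set G)).subtype_injective) hQ
  have S := setup_of_centralizer hz (Subgroup.map_subtype_le Q) (by rw [hgf]) hE
  have hQc : Nat.card (Q.map (Subgroup.centralizer ({z} : Set G)).subtype) = 2 ^ 13 := by
    rw [Subgroup.card_map_of_injective (Subgroup.centralizer ({z} : Set G)).subtype_injective, hcard]
  have hsub : (Q.map (Subgroup.centralizer ({z} : Set G)).subtype).subgroupOf (Subgroup.centralizer ({z} : Set G)) ≤ N := by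
    rw [Subgroup.subgroupOf, Subgroup.comap_map_eq_self_of_injective (Subgroup.centralizer ({z} : Set G)).subtype_injective]; exact hQN
  rcases TwoFusionB.exists_coords hE (n := 6) (by norm_num) (by rw [hQc]) with ⟨c, hc⟩ | ⟨c, hc⟩
  · rw [← Reflections.coe_qPlus 6 (ZMod 2)] at hc
    obtain ⟨c', hc'⟩ := LargeExt10.coords_of S hc
    exact frame_of_coords S hQc N M hsub hNM (by rw [hNc, Subgroup.card_map_of_injective (Subgroup.centralizer ({z} : Set G)).subtype_injective])
      hMi K hK ψ hc'
  · rw [← Reflections.coe_qMinus 5 (ZMod 2) 1 1] at hc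
    obtain ⟨c', hc'⟩ := LargeExt10.coords_of S hc
    exact frame_of_coords S hQc N M hsub hNM (by rw [hNc, Subgroup.card_map_of_injective (Subgroup.centralizer ({z} : Set G)).subtype_injective])
      hMi K hK ψ hc'

end Cfsg.Agent.LFType23
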