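import Mathlib

/-!
The six-dimensional coordinate space over the field with four elements, written as pairs over `ZMod 2`,
with the quadratic form "weight modulo two", the monomial symmetries and the classes of singular vectors.
-/
set_option autoImplicit false

namespace Cfsg.Agent.LFType23

/-- The field with four elements as an additive group: `(a, b)` stands for `a + b ω`. -/
abbrev F4 := ZMod 2 × ZMod 2

/-- Coordinate vectors. -/
abbrev V := Fin 6 → F4

/-- Multiplication by `ω`. -/
def om1 (a : F4) : F4 := (a.2, a.1 + a.2)

/-- Multiplication by `ω ^ k`. -/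
def rot (k : ZMod 3) (a : F4) : F4 := if k = 0 then a else if k = 1 then om1 a else om1 (om1 a)

/-- Multiplication by an element of the field. -/
def fm (c a : F4) : F4 :=
  (c.1 * a.1 + c.2 * a.2, c.1 * a.2 + c.2 * (a.1 + a.2))

/-- Whether an entry is nonzero, as an element of `ZMod 2`. -/
def nz (a : F4) : ZMod 2 := a.1 + a.2 + a.1 * a.2

/-- Discrete logarithm to the base `ω`. -/
def lg (a : F4) : ZMod 3 := if a = (0, 1) then 1 else if a = (1, 1) then 2 else 0

/-- The quadratic form. -/
def qf (u : V) : ZMod 2 := ∑ i, nz (u i)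

/-- The polar form. -/
def bf (u w : V) : ZMod 2 := ∑ i, ((u i).1 * (w i).2 + (u i).2 * (w i).1)

/-- The number of nonzero entries. -/
def wt (u : V) : ℕ := (Finset.univ.filter fun i => u i ≠ 0).card

/-- The sum of the logarithms of the entries. -/
def cl (u : V) : ZMod 3 := ∑ i, lg (u i)

/-- The scalar `ω`. -/
def om (u : V) : V := fun i => om1 (u i)

/-- A diagonal map. -/
def diag (a : Fin 6 → ZMod 3) (u : V) : V := fun i => rot (a i) (u i)

/-- A permutation of the coordinates. -/
def perm (σ : Equiv.Perm (Fin 6)) (u : V) : V := fun i => u (σ i)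

/-- Scalar multiplication. -/
def sc (c : F4) (u : V) : V := fun i => fm c (u i)

/-- The all-ones vector. -/
def one6 : V := fun _ => (1, 0)

theorem nz_add : ∀ a b : F4, nz (a + b) = nz a + nz b + (a.1 * b.2 + a.2 * b.1) := by decide

theorem qf_add (u w : V) : qf (u + w) = qf u + qf w + bf u w := by
  simp only [qf, bf, ← Finset.sum_add_distrib]
  exact Finset.sum_congr rfl fun i _ => nz_add _ _

theorem bf_comm (u w : V) : bf u w = bf w u := by
  refine Finset.sum_congr rfl fun i _ => ?_
  ring

theorem bf_add_left (u u' w : V) : bf (u + u') w = bf u w + bf u' w := by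
  simp only [bf, ← Finset.sum_add_distrib]
  refine Finset.sum_congr rfl fun i _ => ?_
  simp only [Pi.add_apply, Prod.fst_add, Prod.snd_add]
  ring

theorem bf_add_right (u w w' : V) : bf u (w + w') = bf u w + bf u w' := by
  rw [bf_comm, bf_add_left, bf_comm w, bf_comm w']

theorem bf_self (u : V) : bf u u = 0 := by
  refine Finset.sum_eq_zero fun i _ => ?_
  have : ∀ a : F4, a.1 * a.2 + a.2 * a.1 = 0 := by decide
  exact this _

theorem bf_zero_left (w : V) : bf 0 w = 0 := by simp [bf]

theorem qf_zero : qf 0 = 0 := by decide

theorem add_self (u : V) : u + u = 0 := funext fun _ => by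
  have : ∀ a : F4, a + a = 0 := by decide
  exact this _

theorem om1_add : ∀ a b : F4, om1 (a + b) = om1 a + om1 b := by decide

theorem rot_add : ∀ (k : ZMod 3) (a b : F4), rot k (a + b) = rot k a + rot k b := by decide

theorem fm_add : ∀ c a b : F4, fm c (a + b) = fm c a + fm c b := by decide

theorem rot_rot : ∀ (k l : ZMod 3) (a : F4), rot k (rot l a) = rot (k + l) a := by decide

theorem rot_zero : ∀ a : F4, rot 0 a = a := by decide

theorem om_add (u w : V) : om (u + w) = om u + om w := funext fun _ => om1_add _ _

theorem diag_add (a : Fin 6 → ZMod 3) (u w : V) : diag a (u + w) = diag a u + diag a w :=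
  funext fun _ => rot_add _ _ _

theorem perm_add (σ : Equiv.Perm (Fin 6)) (u w : V) : perm σ (u + w) = perm σ u + perm σ w := rfl

theorem sc_add (c : F4) (u w : V) : sc c (u + w) = sc c u + sc c w := funext fun _ => fm_add _ _ _

theorem diag_diag (a b : Fin 6 → ZMod 3) (u : V) : diag a (diag b u) = diag (a + b) u :=
  funext fun _ => rot_rot _ _ _

theorem diag_zero (u : V) : diag 0 u = u := funext fun _ => rot_zero _

theorem diag_one (u : V) : diag (fun _ => 1) u = om u := funext fun i => by
  have : ∀ a : F4, rot 1 a = om1 a := by decide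
  exact this _

theorem sc_eq (c : F4) (u : V) :
    sc c u = (if c.1 = 0 then 0 else u) + (if c.2 = 0 then 0 else om u) := by
  funext i
  have : ∀ c a : F4, fm c a = (if c.1 = 0 then 0 else a) + (if c.2 = 0 then 0 else om1 a) := by decide
  rw [sc, this c (u i)]
  split_ifs <;> rfl

theorem om_cube (u : V) : om (om (om u)) = u := funext fun _ => by
  have : ∀ a : F4, om1 (om1 (om1 a)) = a := by decide
  exact this _

theorem one_add_om (u : V) : u + om u = om (om u) := funext fun _ => by
  have : ∀ a : F4, a + om1 a = om1 (om1 a) := by decide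
  exact this _

theorem qf_om (u : V) : qf (om u) = qf u := Finset.sum_congr rfl fun i _ => by
  have : ∀ a : F4, nz (om1 a) = nz a := by decide
  exact this _

theorem om_eq_self {u : V} (h : om u = u) : u = 0 := funext fun i => by
  have : ∀ a : F4, om1 a = a → a = 0 := by decide
  exact this _ (congrFun h i)

theorem sc_om (c : F4) (u : V) : sc c (om u) = om (sc c u) := funext fun _ => by
  have : ∀ c a : F4, fm c (om1 a) = om1 (fm c a) := by decide
  exact this _ _

theorem sc_diag (c : F4) (a : Fin 6 → ZMod 3) (u : V) : sc c (diag a u) = diag a (sc c u) :=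
  funext fun _ => by
    have : ∀ (c : F4) (k : ZMod 3) (x : F4), fm c (rot k x) = rot k (fm c x) := by decide
    exact this _ _ _

theorem bf_nondeg {u : V} (h : ∀ w, bf u w = 0) : u = 0 := by
  funext i
  have h1 := h (Pi.single i (1, 0))
  have h2 := h (Pi.single i (0, 1))
  have e : ∀ x : F4, bf u (Pi.single i x) = (u i).1 * x.2 + (u i).2 * x.1 := by
    intro x
    rw [bf, Finset.sum_eq_single i]
    · simp
    · intro j _ hj; simp [hj]
    · simp
  rw [e] at h1 h2
  simp only [mul_zero, mul_one, zero_add, add_zero] at h1 h2
  exact Prod.ext h2 h1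

theorem card_V : Nat.card V = 4096 := by
  rw [Nat.card_eq_fintype_card]; simp [Fintype.card_pi, Fintype.card_prod, ZMod.card]

end Cfsg.Agent.LFType23
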