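import Cfsg.Agent.LFType23.Pair
import Cfsg.Agent.LFType23.Build

/-!
The two classes of involutions of `Q` other than the central one, inside the centraliser.
-/
set_option autoImplicit false

namespace Cfsg.Agent.LFType23

variable {G : Type*} [Group G] {z : G} {Q : Subgroup G}

namespace Frame

variable (F : Frame z Q)

/-- Elements with related vectors are conjugate in the centraliser. -/
theorem conj_of_rel {x y : G} (hx : x ∈ Q) (hy : y ∈ Q) (hy0 : F.mu y ≠ 0)
    (h : F.Rel (F.mu x) (F.mu y)) : ∃ h, Commute h z ∧ h * x * h⁻¹ = y := by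
  obtain ⟨k, hk, e⟩ := h
  have e1 : F.mu (k * x * k⁻¹) = F.mu y := by rw [F.pi_mu k hk x hx, e]
  rcases (F.mu_eq_iff (F.normal k hk x hx) hy).1 e1 with e2 | e2
  · exact ⟨k, hk, e2⟩
  · obtain ⟨e0, he⟩ : ∃ e, bf e (F.mu y) = 1 := by
      by_contra hne
      push Not at hne
      refine hy0 (bf_nondeg fun w => ?_)
      rcases (by decide : ∀ y : ZMod 2, y = 0 ∨ y = 1) (bf (F.mu y) w) with h0 | h0
      · exact h0
      · exact absurd (by rw [bf_comm]; exact h0) (hne w)
    obtain ⟨q, hq, rfl⟩ := F.mu_surj e0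
    refine ⟨q * k, (F.le_cent q hq).mul_left hk, ?_⟩
    rw [show q * k * x * (q * k)⁻¹ = q * (k * x * k⁻¹) * q⁻¹ by group, e2,
      show q * (y * z) * q⁻¹ = (q * y * q⁻¹) * (q * z * q⁻¹) by group, F.comm q hq y hy,
      if_neg (by rw [he]; decide), (F.le_cent q hq).eq, mul_inv_cancel_right, mul_assoc, F.z_sq, mul_one]

theorem mu_ne_zero {x : G} (hx : x ∈ Q) (h1 : x ≠ 1) (hz : x ≠ z) : F.mu x ≠ 0 := fun h => by
  rcases (F.mu_eq_zero x hx).1 h with e | e
  exacts [h1 e, hz e]

/-- A conjugate of `z` in `Q` other than `z` has vector in the long orbit. -/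
theorem big_of_isConj [Finite G] {γ : ZMod 3} (hγ : F.Classes γ) {x : G} (hx : x ∈ Q) (hne : x ≠ z)
    (hc : IsConj z x) : big γ (F.mu x) := by
  obtain ⟨g, rfl⟩ := isConj_iff.1 hc
  exact (Linked.mk (F := F) (Fs := F.tr g) hx hne).big_vec hγ

end Frame

end Cfsg.Agent.LFType23
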