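import Cfsg.Agent.LFType23.Normal

/-!
Totally isotropic subgroups, double perpendiculars, permutation action of the centraliser.
-/
set_option autoImplicit false

namespace Cfsg.Agent.LFType23

/-- The polar form as a bilinear form. -/
def bform : LinearMap.BilinForm (ZMod 2) V :=
  LinearMap.mk₂ (ZMod 2) bf bf_add_left
    (fun c x y => ZMod.map_smul (AddMonoidHom.mk' (fun t => bf t y) fun a b => bf_add_left a b y) c x)
    bf_add_right
    (fun c x y => ZMod.map_smul (AddMonoidHom.mk' (bf x) (bf_add_right x)) c y)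

theorem bform_apply (x y : V) : bform x y = bf x y := rfl

/-- The sum of the entries. -/
def tot (u : V) : F4 := ∑ i, u i

theorem tot_add (u w : V) : tot (u + w) = tot u + tot w := by simp [tot, Finset.sum_add_distrib]

theorem bf_one6 (u : V) : bf u one6 = (tot u).2 := by
  rw [tot, Prod.snd_sum]
  exact Finset.sum_congr rfl fun i _ => by simp [one6]

theorem bf_om_one6 (u : V) : bf u (om one6) = (tot u).1 := by
  rw [tot, Prod.fst_sum]
  exact Finset.sum_congr rfl fun i _ => by simp [om, one6, om1]

theorem tot_eq_zero_iff (u : V) : tot u = 0 ↔ bf u one6 = 0 ∧ bf u (om one6) = 0 := by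
  rw [bf_one6, bf_om_one6]
  exact ⟨fun h => by simp [h], fun h => Prod.ext h.2 h.1⟩

theorem om_perp {u v : V} (hu : bf u v = 0) (hu' : bf (om u) v = 0) : bf (om (om u)) v = 0 := by
  rw [← one_add_om, bf_add_left, hu, hu', add_zero]

/-- The subgroup totally isotropic bound. -/
theorem card_isotropic {T : AddSubgroup V} (h : ∀ a ∈ T, ∀ b ∈ T, bf a b = 0) : Nat.card T ≤ 64 := by
  classical
  let T' : Submodule (ZMod 2) V :=
    { T.toAddSubmonoid with
      smul_mem' := fun c x hx => by
        rcases (by decide : ∀ y : ZMod 2, y = 0 ∨ y = 1) c with rfl | rfl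
        · simp
        · simpa using hx }
  have hrefl : bform.IsRefl := fun x y hxy => by rw [bform_apply, bf_comm]; exact hxy
  have hle : T' ≤ bform.orthogonal T' := fun x hx y hy => h y hy x hx
  have hnd : bform.Nondegenerate :=
    ⟨fun x hx => bf_nondeg hx, fun x hx => bf_nondeg fun w => by rw [bf_comm]; exact hx w⟩
  have h1 := LinearMap.BilinForm.finrank_orthogonal hnd T'
  have h2 := Submodule.finrank_mono hle
  have h12 : Module.finrank (ZMod 2) V = 12 := by
    have h := Module.natCard_eq_pow_finrank (K := ZMod 2) (V := V)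
    rw [card_V, Nat.card_zmod, show 4096 = 2 ^ 12 from rfl] at h
    exact (Nat.pow_right_injective le_rfl h).symm
  rw [h12] at h1
  have h3 : Nat.card T' = 2 ^ Module.finrank (ZMod 2) T' := by
    rw [Module.natCard_eq_pow_finrank (K := ZMod 2) (V := T'), Nat.card_zmod]
  show Nat.card T' ≤ 64
  rw [h3, show 64 = 2 ^ 6 from rfl]
  have h4 := Submodule.finrank_le T'
  rw [h12] at h4
  refine Nat.pow_le_pow_right (by norm_num) ?_
  omega

theorem perp_one_cases {v d : V} (hv : v ≠ 0) (h : ∀ u, bf v u = 0 → bf d u = 0) : d = 0 ∨ d = v := by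
  obtain ⟨e, he⟩ : ∃ e, bf v e = 1 := by
    by_contra hne
    push Not at hne
    refine hv (bf_nondeg fun w => ?_)
    rcases (by decide : ∀ y : ZMod 2, y = 0 ∨ y = 1) (bf v w) with h0 | h0
    exacts [h0, absurd h0 (hne w)]
  have key : ∀ u, bf d u = bf v u * bf d e := by
    intro u
    rcases (by decide : ∀ y : ZMod 2, y = 0 ∨ y = 1) (bf v u) with h0 | h0
    · rw [h0, h u h0, zero_mul]
    · have := h (u + e) (by rw [bf_add_right, h0, he]; rfl)
      rw [bf_add_right] at this
      rw [h0, one_mul]
      generalize bf d u = a at this ⊢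
      generalize bf d e = b at this ⊢
      revert this; revert a b; decide
  rcases (by decide : ∀ y : ZMod 2, y = 0 ∨ y = 1) (bf d e) with h0 | h0
  · exact Or.inl (bf_nondeg fun u => by rw [key, h0, mul_zero])
  · refine Or.inr ?_
    have hz : d + v = 0 := bf_nondeg fun u => by
      rw [bf_add_left, key, h0, mul_one]
      generalize bf v u = a; revert a; decide
    calc d = d + v + v := by rw [add_assoc, add_self, add_zero]
      _ = v := by rw [hz, zero_add]

/-- Multiples of a vector. -/
theorem sc_mem_cases (v : V) (c : F4) : sc c v = 0 ∨ sc c v = v ∨ sc c v = om v ∨ sc c v = v + om v := by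
  rw [sc_eq]
  split_ifs <;> simp

variable {G : Type*} [Group G] {z : G} {Q : Subgroup G}

namespace Frame

variable (F : Frame z Q)

/-- The centraliser acting by permutations of the coordinate vectors. -/
def permHom : Subgroup.centralizer ({z} : Set G) →* Equiv.Perm V :=
  MonoidHom.mk' (fun h =>
    { toFun := F.pi h
      invFun := F.pi (h : G)⁻¹
      left_inv := F.pi_inv_apply (Subgroup.mem_centralizer_singleton_iff.1 h.2)
      right_inv := fun u => by
        have h1 : Commute (h : G) z := Subgroup.mem_centralizer_singleton_iff.1 h.2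
        have := F.pi_inv_apply h1.inv_left u
        rwa [inv_inv] at this })
    fun a b => Equiv.ext fun u => F.pi_mul (Subgroup.mem_centralizer_singleton_iff.1 a.2)
      (Subgroup.mem_centralizer_singleton_iff.1 b.2) u

theorem permHom_apply (h : Subgroup.centralizer ({z} : Set G)) (u : V) : F.permHom h u = F.pi h u := rfl

theorem permHom_eq_one (h : Subgroup.centralizer ({z} : Set G)) : F.permHom h = 1 ↔ (h : G) ∈ Q := by
  refine ⟨fun e => F.faithful h (Subgroup.mem_centralizer_singleton_iff.1 h.2) fun u => ?_,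
    fun hq => Equiv.ext fun u => F.pi_eq_self_of_mem hq u⟩
  exact congrFun (congrArg (fun p : Equiv.Perm V => (p : V → V)) e) u

/-- Commuting with the scalar. -/
def Lin (h : G) : Prop := ∀ u, F.pi h (om u) = om (F.pi h u)

theorem lin_om2 {h : G} (hl : F.Lin h) (u : V) : F.pi h (om (om u)) = om (om (F.pi h u)) := by rw [hl, hl]

theorem lin_sc {h : G} (hh : Commute h z) (hl : F.Lin h) (c : F4) (u : V) :
    F.pi h (sc c u) = sc c (F.pi h u) := by
  rw [sc_eq, sc_eq, F.pi_add hh]
  split_ifs <;> simp [F.pi_zero hh, hl u]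

theorem lin_mul {a b : G} (ha : Commute a z) (hb : Commute b z) (la : F.Lin a) (lb : F.Lin b) :
    F.Lin (a * b) := fun u => by rw [F.pi_mul ha hb, F.pi_mul ha hb, lb, la]

theorem lin_inv {a : G} (ha : Commute a z) (la : F.Lin a) : F.Lin a⁻¹ := fun u => by
  refine F.pi_injective ha ?_
  rw [la]
  have h : ∀ w, F.pi a (F.pi a⁻¹ w) = w := fun w => by
    rw [← F.pi_mul ha ha.inv_left, mul_inv_cancel, F.pi_one]
  rw [h, h]

theorem nonlin_mul {a b : G} (ha : Commute a z) (hb : Commute b z) (la : ¬ F.Lin a) (lb : ¬ F.Lin b) :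
    F.Lin (a * b) := fun u => by
  rw [F.pi_mul ha hb, F.pi_mul ha hb, (F.lin_or b hb).resolve_left lb, (F.lin_or a ha).resolve_left la,
    (F.lin_or a ha).resolve_left la, om_cube]

theorem card_perm_orbit [Finite G] {γ : ZMod 3} (hγ : F.Classes γ) {v : V} (hv : qf v = 0) (hv0 : v ≠ 0) :
    (F.orb v).card = if big γ v then 1701 else 378 := by
  classical
  have key : ∀ g : ZMod 3, (Finset.univ.filter fun w : V => (qf w = 0 ∧ w ≠ 0) ∧ big g w).card = 1701 ∧
      (Finset.univ.filter fun w : V => (qf w = 0 ∧ w ≠ 0) ∧ ¬ big g w).card = 378 := by decide +kernel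
  have horb : F.orb v = Finset.univ.filter fun w : V => (qf w = 0 ∧ w ≠ 0) ∧ (big γ v ↔ big γ w) := by
    ext w
    simp only [mem_orb, Finset.mem_filter, Finset.mem_univ, true_and]
    refine ⟨fun h => ?_, fun ⟨⟨hq, h0⟩, hb⟩ => (hγ v w hv hv0 hq h0).2 hb⟩
    have hq := (F.qf_of_rel h).trans hv
    have h0 := F.ne_zero_of_rel h hv0
    exact ⟨⟨hq, h0⟩, (hγ v w hv hv0 hq h0).1 h⟩
  rw [horb]
  split_ifs with hb <;> simp only [hb, true_iff, false_iff]
  exacts [(key γ).1, (key γ).2]

theorem card_stab_image [Finite G] {γ : ZMod 3} (hγ : F.Classes γ) {v : V} (hv : qf v = 0) (hv0 : v ≠ 0) :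
    Nat.card (F.stab v) = 2 ^ 13 * if big γ v then 11520 else 51840 := by
  have h := F.card_orb_mul v
  rw [F.card_perm_orbit hγ hv hv0] at h
  split_ifs at h ⊢ <;> omega

end Frame

end Cfsg.Agent.LFType23
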