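import Cfsg.Agent.LFType23.Dbar

/-!
Putting a conjugate of the central involution in standard position; the structure of its stabiliser.
-/
set_option autoImplicit false

namespace Cfsg.Agent.LFType23

variable {G : Type*} [Group G] {z : G} {Q : Subgroup G}

namespace Frame

variable (F : Frame z Q)

/-- Changing the coordinates by an element of the centraliser. -/
theorem exists_move {γ : ZMod 3} (hγ : F.Classes γ) {k : G} (hk : Commute k z) :
    ∃ F' : Frame z Q, F'.Classes γ ∧ (∀ a, F'.mu a = F.mu (k * a * k⁻¹)) := by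
  have h0 : ∃ F' : Frame (k⁻¹ * z * k⁻¹⁻¹) (Q.map (MulAut.conj k⁻¹).toMonoidHom),
      F'.mu = (fun a => F.mu (k * a * k⁻¹)) ∧ F'.pi = (fun h => F.pi (k * h * k⁻¹)) :=
    ⟨F.tr k⁻¹, funext fun a => by simp, funext fun a => by simp⟩
  have e1 : k⁻¹ * z * k⁻¹⁻¹ = z := by rw [(hk.inv_left).eq, mul_inv_cancel_right]
  have e2 : Q.map (MulAut.conj k⁻¹).toMonoidHom = Q := by
    ext a
    rw [Subgroup.mem_map]
    constructor
    · rintro ⟨b, hb, rfl⟩
      exact F.normal k⁻¹ hk.inv_left b hb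
    · intro ha
      exact ⟨k * a * k⁻¹, F.normal k hk a ha, by simp [MulAut.conj_apply, mul_assoc]⟩
  rw [e1, e2] at h0
  obtain ⟨F', hmu, hpi⟩ := h0
  refine ⟨F', fun u w hu hu0 hw hw0 => ?_, fun a => congrFun hmu a⟩
  rw [← hγ u w hu hu0 hw hw0]
  constructor
  · rintro ⟨h, hh, e⟩
    exact ⟨k * h * k⁻¹, (hk.mul_left hh).mul_left hk.inv_left, by rw [← e, hpi]⟩
  · rintro ⟨h, hh, e⟩
    exact ⟨k⁻¹ * h * k, (hk.inv_left.mul_left hh).mul_left hk, by
      rw [← e, hpi]; exact congrArg (fun y => F.pi y u) (by group)⟩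

include F in
/-- A frame in which the vector of a given conjugate is all ones. -/
theorem exists_std [Finite G] {s g : G} (hs : s ∈ Q) (hne : s ≠ z) (hg : g * z * g⁻¹ = s) :
    ∃ (F' : Frame z Q) (Fs : Frame s (Q.map (MulAut.conj g).toMonoidHom)) (γ : ZMod 3),
      Std F' Fs γ ∧ Fs.Classes γ := by
  obtain ⟨F0, γ, hγ0, hγ⟩ := F.exists_normal
  have hc : IsConj z s := isConj_iff.2 ⟨g, hg⟩
  have hs1 : s ≠ 1 := fun e => F.z_ne (by subst e; exact isConj_one_left.1 hc)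
  have hsq : s * s = 1 := by
    rw [← hg, show g * z * g⁻¹ * (g * z * g⁻¹) = g * (z * z) * g⁻¹ by group, F.z_sq]; group
  obtain ⟨k, hk, e⟩ := (hγ _ one6 ((F0.sq_eq_one_iff hs).1 hsq) (F0.mu_ne_zero hs hs1 hne)
    one6_spec.1 one6_spec.2).2 (iff_of_true (F0.big_of_isConj hγ hs hne hc) (big_one6 γ hγ0))
  obtain ⟨F', hγ', hmu⟩ := F0.exists_move hγ hk
  subst hg
  refine ⟨F', F'.tr g, γ, ⟨⟨hs, hne⟩, hγ', hγ0, by rw [hmu, F0.pi_mu k hk _ hs, e]⟩, ?_⟩
  intro u w hu hu0 hw hw0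
  rw [← hγ' u w hu hu0 hw hw0]
  constructor
  · rintro ⟨h, hh, e⟩
    refine ⟨g⁻¹ * h * g, ?_, e⟩
    have := hh.map (MulAut.conj g⁻¹).toMonoidHom
    simpa [MulAut.conj_apply, mul_assoc] using this
  · rintro ⟨h, hh, e⟩
    exact ⟨g * h * g⁻¹, hh.map (MulAut.conj g).toMonoidHom, by
      rw [tr_pi, show g⁻¹ * (g * h * g⁻¹) * g = h by group, e]⟩

end Frame

end Cfsg.Agent.LFType23
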