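import Cfsg.Agent.LFType23.Orbit

/-!
Rescaling one coordinate, so that the class parameter is nonzero.
-/
set_option autoImplicit false

namespace Cfsg.Agent.LFType23

/-- Exponents shifting the first coordinate by one. -/
def shift0 : Fin 6 → ZMod 3 := Pi.single 0 1

theorem diag_inv (a : Fin 6 → ZMod 3) (u : V) : diag (-a) (diag a u) = u := by
  rw [diag_diag, neg_add_cancel, diag_zero]

theorem diag_inv' (a : Fin 6 → ZMod 3) (u : V) : diag a (diag (-a) u) = u := by
  rw [diag_diag, add_neg_cancel, diag_zero]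

theorem qf_diag (a : Fin 6 → ZMod 3) (u : V) : qf (diag a u) = qf u :=
  Finset.sum_congr rfl fun i _ => by
    have : ∀ (k : ZMod 3) (x : F4), nz (rot k x) = nz x := by decide
    exact this _ _

theorem bf_diag (a : Fin 6 → ZMod 3) (u w : V) : bf (diag a u) (diag a w) = bf u w := by
  have h := qf_add (diag a u) (diag a w)
  rw [← diag_add, qf_diag, qf_diag, qf_diag, qf_add] at h
  exact (add_left_cancel h).symm

theorem diag_om (a : Fin 6 → ZMod 3) (u : V) : diag a (om u) = om (diag a u) := by
  rw [← diag_one, ← diag_one, diag_diag, diag_diag, add_comm]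

theorem perm_diag (σ : Equiv.Perm (Fin 6)) (a : Fin 6 → ZMod 3) (u : V) :
    perm σ (diag a u) = diag (a ∘ σ) (perm σ u) := rfl

theorem wt_diag (a : Fin 6 → ZMod 3) (u : V) : wt (diag a u) = wt u := by
  unfold wt
  congr 1
  refine Finset.filter_congr fun i _ => ?_
  have : ∀ (k : ZMod 3) (x : F4), (rot k x ≠ 0 ↔ x ≠ 0) := by decide
  exact this _ _

theorem cl_diag_full (a : Fin 6 → ZMod 3) {u : V} (h : ∀ i, u i ≠ 0) :
    cl (diag a u) = cl u + ∑ i, a i := by
  rw [cl, cl, ← Finset.sum_add_distrib]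
  refine Finset.sum_congr rfl fun i _ => ?_
  have : ∀ (k : ZMod 3) (x : F4), x ≠ 0 → lg (rot k x) = lg x + k := by decide
  exact this _ _ (h i)

theorem full_of_wt {u : V} (h : wt u = 6) (i : Fin 6) : u i ≠ 0 := by
  intro hi
  have : wt u < 6 := by
    refine lt_of_lt_of_eq (Finset.card_lt_card (Finset.filter_ssubset.2 ⟨i, Finset.mem_univ _, ?_⟩)) (by simp)
    simpa using hi
  omega

variable {G : Type*} [Group G] {z : G} {Q : Subgroup G}

namespace Frame

variable (F : Frame z Q)

/-- Rescaling the coordinates by a diagonal map. -/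
def rescale (d : Fin 6 → ZMod 3) : Frame z Q where
  mu a := diag d (F.mu a)
  pi h u := diag d (F.pi h (diag (-d) u))
  z_order := F.z_order
  z_mem := F.z_mem
  le_cent := F.le_cent
  normal := F.normal
  mu_mul a ha b hb := by rw [F.mu_mul a ha b hb, diag_add]
  mu_eq_zero a ha := by
    rw [← F.mu_eq_zero a ha]
    refine ⟨fun h => ?_, fun h => ?_⟩
    · have := congrArg (diag (-d)) h
      rw [diag_inv] at this
      rw [this]; funext i; have : ∀ k : ZMod 3, rot k 0 = 0 := by decide
      exact this _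
    · rw [h]; funext i; have : ∀ k : ZMod 3, rot k 0 = 0 := by decide
      exact this _
  mu_surj u := by
    obtain ⟨a, ha, e⟩ := F.mu_surj (diag (-d) u)
    exact ⟨a, ha, by rw [e, diag_inv']⟩
  sq a ha := by simp only [qf_diag]; exact F.sq a ha
  comm a ha b hb := by simp only [bf_diag]; exact F.comm a ha b hb
  pi_mu h hh a ha := by rw [diag_inv, F.pi_mu h hh a ha]
  faithful h hh hfix := F.faithful h hh fun u => by
    have := congrArg (diag (-d)) (hfix (diag d u))
    rwa [diag_inv, diag_inv] at this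
  card_cent := F.card_cent
  card_le := F.card_le
  perm_mem σ hσ := by
    obtain ⟨h, hh, e⟩ := F.perm_mem σ hσ
    obtain ⟨k, hk, e'⟩ := F.diag_mem (fun i => d (σ i) - d i) (by
      rw [Finset.sum_sub_distrib, Equiv.sum_comp σ d, sub_self])
    refine ⟨k * h, hk.mul_left hh, fun u => ?_⟩
    rw [F.pi_mul hk hh, e, e', diag_diag, perm_diag, diag_diag]
    convert diag_zero (perm σ u) using 2
    funext i
    simp only [Pi.add_apply, Function.comp, Pi.neg_apply, Pi.zero_apply]
    ring
  diag_mem a ha := by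
    obtain ⟨h, hh, e⟩ := F.diag_mem a ha
    refine ⟨h, hh, fun u => ?_⟩
    rw [e, diag_diag, diag_diag]
    congr 1
    abel
  lin_or h hh := by
    rcases F.lin_or h hh with e | e
    · exact Or.inl fun u => by rw [diag_om, e, diag_om]
    · exact Or.inr fun u => by rw [diag_om, e, diag_om, diag_om]

theorem classes_rescale {γ : ZMod 3} (h : F.Classes γ) (d : Fin 6 → ZMod 3) :
    (F.rescale d).Classes (γ + ∑ i, d i) := by
  intro u w hu hu0 hw hw0
  have inv : ∀ x : V, big (γ + ∑ i, d i) x ↔ big γ (diag (-d) x) := by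
    intro x
    simp only [big, wt_diag]
    refine or_congr Iff.rfl (and_congr_right fun h6 => ?_)
    rw [cl_diag_full _ (full_of_wt h6)]
    simp only [Pi.neg_apply, Finset.sum_neg_distrib]
    constructor <;> intro hne e <;> apply hne <;> linear_combination e
  have n0 : ∀ x : V, x ≠ 0 → diag (-d) x ≠ 0 := fun x hx e => hx (by
    have := congrArg (diag d) e
    rw [diag_inv'] at this
    rw [this]; funext i; have : ∀ k : ZMod 3, rot k 0 = 0 := by decide
    exact this _)
  rw [inv, inv, ← h _ _ (by rw [qf_diag, hu]) (n0 _ hu0) (by rw [qf_diag, hw]) (n0 _ hw0)]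
  constructor
  · rintro ⟨k, hk, e⟩
    refine ⟨k, hk, ?_⟩
    have := congrArg (diag (-d)) e
    rwa [show (F.rescale d).pi k u = diag d (F.pi k (diag (-d) u)) from rfl, diag_inv] at this
  · rintro ⟨k, hk, e⟩
    exact ⟨k, hk, by show diag d (F.pi k (diag (-d) u)) = w; rw [e, diag_inv']⟩

include F in
theorem exists_normal [Finite G] : ∃ (F' : Frame z Q) (γ : ZMod 3), γ ≠ 0 ∧ F'.Classes γ := by
  obtain ⟨γ, h⟩ := F.exists_classes
  by_cases hγ : γ = 0
  · refine ⟨F.rescale shift0, γ + ∑ i, shift0 i, ?_, F.classes_rescale h _⟩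
    subst hγ; decide
  · exact ⟨F, γ, hγ, h⟩

end Frame

end Cfsg.Agent.LFType23
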