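import Cfsg.Agent.LFType23.Involutions

/-!
No element of the centraliser exchanges two coordinates linearly: otherwise the stabiliser of a long
vector of weight six would contain a symmetric group meeting its normal subgroup of order at least 32
trivially (helper5).
-/
set_option autoImplicit false

namespace Cfsg.Agent.LFType23

/-- A coordinate permutation, twisted by a diagonal map, as a permutation of the vectors. -/
def twist (a : Fin 6 → ZMod 3) : Equiv.Perm (Fin 6) →* Equiv.Perm V where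
  toFun σ :=
    { toFun := fun u => diag a (perm σ⁻¹ (diag (-a) u))
      invFun := fun u => diag a (perm σ (diag (-a) u))
      left_inv := fun u => by
        show diag a (perm σ (diag (-a) (diag a (perm σ⁻¹ (diag (-a) u))))) = u
        rw [diag_inv]
        show diag a (fun i => diag (-a) u (σ⁻¹ (σ i))) = u
        simp only [Equiv.Perm.inv_def, Equiv.symm_apply_apply]
        exact diag_inv' a u
      right_inv := fun u => by
        show diag a (perm σ⁻¹ (diag (-a) (diag a (perm σ (diag (-a) u))))) = u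
        rw [diag_inv]
        show diag a (fun i => diag (-a) u (σ (σ⁻¹ i))) = u
        simp only [Equiv.Perm.inv_def, Equiv.apply_symm_apply]
        exact diag_inv' a u }
  map_one' := Equiv.ext fun u => by
    show diag a (perm 1⁻¹ (diag (-a) u)) = u
    rw [inv_one]
    exact diag_inv' a u
  map_mul' σ τ := Equiv.ext fun u => by
    show diag a (perm (σ * τ)⁻¹ (diag (-a) u)) =
      diag a (perm σ⁻¹ (diag (-a) (diag a (perm τ⁻¹ (diag (-a) u)))))
    rw [diag_inv]
    rfl

theorem twist_apply (a : Fin 6 → ZMod 3) (σ : Equiv.Perm (Fin 6)) (u : V) :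
    twist a σ u = diag a (perm σ⁻¹ (diag (-a) u)) := rfl

theorem twist_injective (a : Fin 6 → ZMod 3) : Function.Injective (twist a) := by
  intro σ τ e
  have h : σ⁻¹ = τ⁻¹ := Equiv.ext fun i => by
    have h1 := congrArg (fun f : Equiv.Perm V => diag (-a) (f (diag a (Pi.single (τ⁻¹ i) (1, 0))))) e
    simp only [twist_apply, diag_inv] at h1
    have h2 := congrFun h1 i
    simp only [perm, Pi.single_eq_same] at h2
    by_contra hne
    rw [Pi.single_eq_of_ne hne] at h2
    exact absurd h2 (by decide)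
  exact inv_inj.1 h

theorem twist_fix (a : Fin 6 → ZMod 3) (σ : Equiv.Perm (Fin 6)) : twist a σ (diag a one6) = diag a one6 := by
  rw [twist_apply, diag_inv]
  rfl

theorem sym_six_two_free : ∀ σ : Equiv.Perm (Fin 6), σ * σ = 1 → σ ≠ 1 → ∃ i j k l : Fin 6,
    σ * (Equiv.swap i j * Equiv.swap k l * σ * (Equiv.swap i j * Equiv.swap k l)⁻¹) ≠
      Equiv.swap i j * Equiv.swap k l * σ * (Equiv.swap i j * Equiv.swap k l)⁻¹ * σ := by decide +kernel

/-- A long vector of weight six. -/
def long6 (γ : ZMod 3) : Fin 6 → ZMod 3 := Pi.single 0 (γ + 1)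

theorem long6_spec : ∀ γ : ZMod 3, qf (diag (long6 γ) one6) = 0 ∧ diag (long6 γ) one6 ≠ 0 ∧
    big γ (diag (long6 γ) one6) := by decide +kernel

variable {G : Type*} [Group G] {z : G} {Q : Subgroup G}

namespace Frame

variable (F : Frame z Q)

/-- All permutations are realised once the exchange of two coordinates is. -/
theorem perm_all (hsw : ∃ h, Commute h z ∧ ∀ u, F.pi h u = perm (Equiv.swap 0 1) u)
    (σ : Equiv.Perm (Fin 6)) : ∃ h, Commute h z ∧ ∀ u, F.pi h u = perm σ u := by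
  rcases Int.units_eq_one_or (Equiv.Perm.sign σ) with hs | hs
  · exact F.perm_mem σ hs
  obtain ⟨τ, hτ, e⟩ := hsw
  obtain ⟨h, hh, e'⟩ := F.perm_mem (σ * Equiv.swap 0 1)
    (by rw [map_mul, hs, Equiv.Perm.sign_swap (by decide)]; rfl)
  refine ⟨τ * h, hτ.mul_left hh, fun u => ?_⟩
  rw [F.pi_mul hτ hh, e, e']
  funext i
  simp [perm, Equiv.Perm.mul_apply]

/-- Twisted permutations are realised once the exchange of two coordinates is. -/
theorem twist_all (hsw : ∃ h, Commute h z ∧ ∀ u, F.pi h u = perm (Equiv.swap 0 1) u)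
    (a : Fin 6 → ZMod 3) (σ : Equiv.Perm (Fin 6)) : ∃ h, Commute h z ∧ ∀ u, F.pi h u = twist a σ u := by
  obtain ⟨p, hp, ep⟩ := F.perm_all hsw σ⁻¹
  obtain ⟨d, hd, ed⟩ := F.diag_mem (a + (-a) ∘ ⇑(σ⁻¹ : Equiv.Perm (Fin 6))) (by
    simp only [Pi.add_apply, Function.comp, Pi.neg_apply, Finset.sum_add_distrib, Finset.sum_neg_distrib]
    rw [Equiv.sum_comp σ⁻¹ a, add_neg_cancel])
  refine ⟨d * p, hd.mul_left hp, fun u => ?_⟩
  rw [F.pi_mul hd hp, ep, ed, twist_apply, perm_diag, diag_diag]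

/-- No element of the centraliser exchanges two coordinates and fixes the others. -/
theorem no_swap [Finite G] {γ : ZMod 3} (hγ : F.Classes γ) {g : G} (hgQ : g * z * g⁻¹ ∈ Q)
    (hgz : g * z * g⁻¹ ≠ z) : ¬ ∃ h, Commute h z ∧ ∀ u, F.pi h u = perm (Equiv.swap 0 1) u := by
  classical
  intro hsw
  obtain ⟨hq, h0, hb⟩ := long6_spec γ
  obtain ⟨y, hy, hyv⟩ := F.mu_surj (diag (long6 γ) one6)
  have hx2 : g * z * g⁻¹ * (g * z * g⁻¹) = 1 := by
    rw [show g * z * g⁻¹ * (g * z * g⁻¹) = g * (z * z) * g⁻¹ by group, F.z_sq]; group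
  have hx1 : g * z * g⁻¹ ≠ 1 := fun e => F.z_ne (conj_eq_one_iff.1 e)
  have hbx := F.big_of_isConj hγ hgQ hgz (isConj_iff.2 ⟨g, rfl⟩)
  obtain ⟨k, hk, hky⟩ := F.conj_of_rel hgQ hy (by rw [hyv]; exact h0)
    ((hγ _ _ ((F.sq_eq_one_iff hgQ).1 hx2) (F.mu_ne_zero hgQ hx1 hgz) (by rw [hyv]; exact hq)
      (by rw [hyv]; exact h0)).2 (iff_of_true hbx (by rw [hyv]; exact hb)))
  have ey : y = k * g * z * (k * g)⁻¹ := by rw [← hky]; group
  subst ey
  have P : Linked F (F.tr (k * g)) := ⟨hy, fun e => by rw [e, F.mu_z] at hyv; exact h0 hyv.symm⟩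
  have hW : 32 ≤ Nat.card P.wgrp := by
    have := P.card_wgrp
    have := P.dbar_le
    by_contra hlt
    nlinarith
  have hX : Nat.card P.xgrp = 11520 := by rw [P.card_xgrp hγ, if_pos (by rw [hyv]; exact hb)]
  have htw : ∀ σ, twist (long6 γ) σ ∈ P.xgrp := fun σ => by
    obtain ⟨h, hh, e⟩ := F.twist_all hsw (long6 γ) σ
    exact P.mem_xgrp.2 ⟨h, hh, by rw [e, hyv, twist_fix], fun u => (e u).symm⟩
  have hmeet : ∀ σ, twist (long6 γ) σ ∈ P.wgrp → σ = 1 := by
    intro σ hσ
    by_contra h1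
    have hinj := twist_injective (long6 γ)
    have hss : σ * σ = 1 := hinj (by rw [map_mul, map_one]; exact (P.wgrp_abelian hσ hσ).2)
    obtain ⟨i, j, m, n, hne⟩ := sym_six_two_free σ hss h1
    refine hne (hinj ?_)
    have hc := P.wgrp_normal (htw (Equiv.swap i j * Equiv.swap m n)) hσ
    rw [← map_inv, ← map_mul, ← map_mul] at hc
    rw [map_mul, map_mul _ _ σ]
    exact (P.wgrp_abelian hσ hc).1
  let ψ : P.wgrp × Equiv.Perm (Fin 6) → P.xgrp := fun p =>
    ⟨(p.1 : Equiv.Perm V) * twist (long6 γ) p.2, mul_mem (P.wgrp_le p.1.2) (htw p.2)⟩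
  have hψ : Function.Injective ψ := by
    rintro ⟨w, σ⟩ ⟨w', σ'⟩ e
    have e1 : (w : Equiv.Perm V) * twist (long6 γ) σ = (w' : Equiv.Perm V) * twist (long6 γ) σ' :=
      congrArg Subtype.val e
    have hmem : twist (long6 γ) (σ * σ'⁻¹) ∈ P.wgrp := by
      have e2 : twist (long6 γ) (σ * σ'⁻¹) = (w : Equiv.Perm V)⁻¹ * (w' : Equiv.Perm V) := by
        rw [map_mul, map_inv, mul_inv_eq_iff_eq_mul, mul_assoc, ← e1, inv_mul_cancel_left]
      rw [e2]
      exact mul_mem (inv_mem w.2) w'.2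
    obtain rfl : σ = σ' := mul_inv_eq_one.1 (hmeet _ hmem)
    obtain rfl : w = w' := Subtype.ext (mul_right_cancel e1)
    rfl
  have h := Nat.card_le_card_of_injective ψ hψ
  rw [Nat.card_prod, hX, Nat.card_perm, Nat.card_eq_fintype_card (α := Fin 6), Fintype.card_fin,
    show Nat.factorial 6 = 720 from rfl] at h
  omega

end Frame

end Cfsg.Agent.LFType23
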