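import Cfsg.Agent.LFType23.Iso

/-!
Two frames with the involution of the second in the subgroup of the first: the first involution lies
in the second subgroup, and the second involution gives a vector of the long orbit.
-/
set_option autoImplicit false

namespace Cfsg.Agent.LFType23

variable {G : Type*} [Group G] {z s : G} {Q R : Subgroup G}

/-- A vector of weight two. -/
def v2 : V := ![(1,0), (1,0), 0, 0, 0, 0]

theorem v2_spec : ∀ γ : ZMod 3, qf v2 = 0 ∧ v2 ≠ 0 ∧ ¬ big γ v2 := by decide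

theorem supp_two_bound : (Finset.univ.filter fun u : V =>
    qf u = 0 ∧ u 2 = 0 ∧ u 3 = 0 ∧ u 4 = 0 ∧ u 5 = 0).card ≤ 10 := by decide +kernel

set_option synthInstance.maxSize 2000 in
set_option maxSynthPendingDepth 10 in
theorem small_key : ∀ a b c d : F4,
    nz (rot 1 a + a) + nz (rot (-1) b + b) = 0 → nz (rot 1 a + a) + nz (rot (-1) c + c) = 0 →
    nz (rot 1 b + b) + nz (rot (-1) d + d) = 0 →
    nz (rot 1 a + a) + (nz (rot 1 b + b) + nz (rot 1 c + c)) = 0 → a = 0 ∧ b = 0 ∧ c = 0 ∧ d = 0 := by decide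

theorem rot_at_zero : ∀ k : ZMod 3, rot k 0 = 0 := by decide

/-- The standard pair of frames. -/
structure Linked (F : Frame z Q) (Fs : Frame s R) : Prop where
  mem : s ∈ Q
  ne : s ≠ z

namespace Linked

variable {F : Frame z Q} {Fs : Frame s R} (P : Linked F Fs)
include P

theorem comm : Commute z s := (F.le_cent s P.mem).symm

theorem vec_ne : F.mu s ≠ 0 := fun h => by
  rcases (F.mu_eq_zero s P.mem).1 h with e | e
  · exact Fs.z_ne e
  · exact P.ne e

theorem vec_sing : qf (F.mu s) = 0 := (F.sq_eq_one_iff P.mem).1 Fs.z_sq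

theorem z_not_mem_zpowers : z ≠ s := Ne.symm P.ne

theorem bracket {a x : G} (haR : a ∈ R) (haz : Commute a z) (hxQ : x ∈ Q) (hxs : Commute x s) :
    a * x * a⁻¹ * x⁻¹ ∈ Q ∧ a * x * a⁻¹ * x⁻¹ ∈ R := by
  refine ⟨mul_mem (F.normal a haz x hxQ) (inv_mem hxQ), ?_⟩
  rw [show a * x * a⁻¹ * x⁻¹ = a * (x * a⁻¹ * x⁻¹) by group]
  exact mul_mem haR (Fs.normal x hxs _ (inv_mem haR))

theorem inter_sq {x : G} (hxQ : x ∈ Q) (hxR : x ∈ R) : x * x = 1 := by
  have h1 := F.sq x hxQ
  have h2 := Fs.sq x hxR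
  by_contra h
  rw [h1] at h h2
  split_ifs at h h2
  all_goals first | exact h rfl | exact P.ne h2.symm | exact h h2

theorem inter_comm {x y : G} (hxQ : x ∈ Q) (hxR : x ∈ R) (hyQ : y ∈ Q) (hyR : y ∈ R) : Commute x y := by
  rw [commute_iff_eq, ← commutatorElement_eq_one_iff_mul_comm, commutatorElement_def]
  have h1 := F.comm x hxQ y hyQ
  have h2 := Fs.comm x hxR y hyR
  by_contra h
  rw [h1] at h h2
  split_ifs at h h2
  all_goals first
    | exact h (mul_inv_cancel y)
    | exact P.ne (mul_left_cancel h2).symm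
    | (rw [h2] at h; exact h (mul_inv_cancel y))

/-- The image of `Q ∩ R`. -/
def dbar (_P : Linked F Fs) : AddSubgroup V where
  carrier := {u | ∃ d ∈ Q, d ∈ R ∧ F.mu d = u}
  add_mem' := by
    rintro _ _ ⟨a, ha, ha', rfl⟩ ⟨b, hb, hb', rfl⟩
    exact ⟨a * b, mul_mem ha hb, mul_mem ha' hb', F.mu_mul a ha b hb⟩
  zero_mem' := ⟨1, one_mem _, one_mem _, F.mu_one⟩
  neg_mem' := by
    rintro _ ⟨a, ha, ha', rfl⟩
    exact ⟨a, ha, ha', by rw [eq_neg_iff_add_eq_zero, add_self]⟩

theorem mem_dbar {u : V} : u ∈ P.dbar ↔ ∃ d ∈ Q, d ∈ R ∧ F.mu d = u := Iff.rfl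

theorem vec_mem : F.mu s ∈ P.dbar := ⟨s, P.mem, Fs.z_mem, rfl⟩

theorem dbar_iso : ∀ a ∈ P.dbar, ∀ b ∈ P.dbar, bf a b = 0 := by
  rintro _ ⟨a, ha, ha', rfl⟩ _ ⟨b, hb, hb', rfl⟩
  exact (F.commute_iff ha hb).1 (P.inter_comm ha ha' hb hb')

theorem dbar_sing {u : V} (hu : u ∈ P.dbar) : qf u = 0 := by
  obtain ⟨d, hd, hd', rfl⟩ := hu
  exact (F.sq_eq_one_iff hd).1 (P.inter_sq hd hd')

theorem shift {a : G} (haR : a ∈ R) (haz : Commute a z) {u : V} (hu : bf u (F.mu s) = 0) :
    F.pi a u + u ∈ P.dbar := by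
  obtain ⟨x, hx, rfl⟩ := F.mu_surj u
  have hxs : Commute x s := (F.commute_iff hx P.mem).2 hu
  obtain ⟨h1, h2⟩ := P.bracket haR haz hx hxs
  exact ⟨_, h1, h2, by rw [F.mu_mul _ (F.normal a haz x hx) _ (inv_mem hx), F.mu_inv hx, F.pi_mu a haz x hx]⟩

theorem fix_vec {a : G} (haR : a ∈ R) (haz : Commute a z) : F.pi a (F.mu s) = F.mu s := by
  rw [← F.pi_mu a haz s P.mem, (Fs.le_cent a haR).eq, mul_inv_cancel_right]

variable [Finite G]

/-- `R ∩ C(z)`. -/
def cen (_P : Linked F Fs) : Subgroup G := R ⊓ Subgroup.centralizer ({z} : Set G)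

theorem mem_cen {a : G} : a ∈ P.cen ↔ a ∈ R ∧ Commute a z := by
  rw [cen, Subgroup.mem_inf, Subgroup.mem_centralizer_singleton_iff]; rfl

theorem card_cen_ge : 64 ≤ Nat.card P.cen := by
  classical
  have hz' : Commute z s := P.comm
  set Fx : Finset V := Finset.univ.filter fun u => Fs.pi z u = u with hFx
  have hinv : ∀ u, Fs.pi z (Fs.pi z u) = u := fun u => by
    rw [← Fs.pi_mul hz' hz', F.z_sq, Fs.pi_one]
  have h64 : 64 ≤ Fx.card := by
    have h := Finset.card_le_mul_card_image_of_maps_to (s := (Finset.univ : Finset V)) (t := Fx)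
      (f := fun u => u + Fs.pi z u) (fun u _ => by
        simp only [hFx, Finset.mem_filter, Finset.mem_univ, true_and]
        rw [Fs.pi_add hz', hinv, add_comm]) Fx.card (fun w hw => by
        by_cases hne : ∃ u, u + Fs.pi z u = w
        · obtain ⟨u0, hu0⟩ := hne
          refine Finset.card_le_card_of_injOn (fun u => u + u0) (fun u hu => ?_) fun a _ b _ e => add_right_cancel e
          simp only [Finset.coe_filter, Finset.mem_univ, true_and, Set.mem_setOf_eq] at hu
          simp only [hFx, Finset.mem_coe, Finset.mem_filter, Finset.mem_univ, true_and]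
          rw [Fs.pi_add hz']
          have e : (u + Fs.pi z u) + (u0 + Fs.pi z u0) = 0 := by rw [hu, hu0, add_self]
          calc Fs.pi z u + Fs.pi z u0 = (u + u0) + ((u + Fs.pi z u) + (u0 + Fs.pi z u0)) := by
                rw [show (u + u0) + ((u + Fs.pi z u) + (u0 + Fs.pi z u0)) =
                  (u + u) + (u0 + u0) + (Fs.pi z u + Fs.pi z u0) by abel, add_self, add_self, zero_add, zero_add]
            _ = u + u0 := by rw [e, add_zero]
        · rw [Finset.card_eq_zero.2 (Finset.filter_eq_empty_iff.2 fun u _ e => hne ⟨u, e⟩)]; omega)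
    rw [Finset.card_univ, ← Nat.card_eq_fintype_card, card_V] at h
    by_contra hlt
    nlinarith
  -- preimages
  let P0 : Subgroup G :=
    { carrier := {r | r ∈ R ∧ Fs.pi z (Fs.mu r) = Fs.mu r}
      mul_mem' := fun {a b} ha hb => ⟨mul_mem ha.1 hb.1, by
        rw [Fs.mu_mul a ha.1 b hb.1, Fs.pi_add hz', ha.2, hb.2]⟩
      one_mem' := ⟨one_mem _, by rw [Fs.mu_one, Fs.pi_zero hz']⟩
      inv_mem' := fun {a} ha => ⟨inv_mem ha.1, by rw [Fs.mu_inv ha.1]; exact ha.2⟩ }
  have hpre : 128 ≤ Nat.card P0 := by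
    choose r hr hre using fun u : {u // u ∈ Fx} => Fs.mu_surj u.1
    have hmem : ∀ u, r u ∈ P0 := fun u => ⟨hr u, by rw [hre]; exact (Finset.mem_filter.1 u.2).2⟩
    let φ : {u // u ∈ Fx} × Bool → P0 := fun p =>
      if p.2 then ⟨r p.1 * s, mul_mem (hmem p.1) ⟨Fs.z_mem, by rw [Fs.mu_z, Fs.pi_zero hz']⟩⟩ else ⟨r p.1, hmem p.1⟩
    have hφ : Function.Injective φ := by
      have hs1 : s ≠ 1 := Fs.z_ne
      rintro ⟨u, b⟩ ⟨u', b'⟩ e
      have e1 : (φ (u, b) : G) = φ (u', b') := congrArg Subtype.val e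
      have hmu : ∀ (u : {u // u ∈ Fx}) b, Fs.mu (φ (u, b) : G) = u.1 := fun u b => by
        cases b <;> simp [φ, hre, Fs.mu_mul_z (hr u)]
      have huu : u = u' := Subtype.ext ((hmu u b).symm.trans ((congrArg Fs.mu e1).trans (hmu u' b')))
      subst huu
      cases b <;> cases b' <;> simp [φ, hs1] at e1 ⊢
    have := Nat.card_le_card_of_injective φ hφ
    rw [Nat.card_prod, Nat.card_eq_fintype_card (α := Bool), Fintype.card_bool, Nat.card_eq_finsetCard] at this
    omega
  -- the kernel of the commutator with `z`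
  let χ : P0 →* Multiplicative (ZMod 2) := MonoidHom.mk'
    (fun r => Multiplicative.ofAdd (if Commute (r : G) z then 0 else 1)) (by
      rintro ⟨a, ha⟩ ⟨b, hb⟩
      have hval : ∀ (x : G), x ∈ P0 → ¬ Commute x z → z * x * z⁻¹ = x * s := by
        intro x hx hnc
        have h1 : Fs.mu (z * x * z⁻¹) = Fs.mu x := by rw [Fs.pi_mu z hz' x hx.1, hx.2]
        rcases (Fs.mu_eq_iff (Fs.normal z hz' x hx.1) hx.1).1 h1 with e | e
        · exact absurd (mul_inv_eq_iff_eq_mul.1 e).symm hnc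
        · exact e
      have hce : ∀ (x : G), Commute x z → z * x * z⁻¹ = x := fun x hx => by
        rw [← hx.eq, mul_inv_cancel_right]
      have hne : ∀ (x : G), Commute x z → z * x * z⁻¹ ≠ x * s := fun x hx e => by
        rw [hce x hx] at e
        exact Fs.z_ne (left_eq_mul.1 e)
      have hab : z * (a * b) * z⁻¹ = (z * a * z⁻¹) * (z * b * z⁻¹) := by group
      show Multiplicative.ofAdd _ = Multiplicative.ofAdd _ * Multiplicative.ofAdd _
      rw [← ofAdd_add]
      congr 1
      show (if Commute (a * b) z then (0 : ZMod 2) else 1) = (if Commute a z then 0 else 1) + (if Commute b z then 0 else 1)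
      have hbs : Commute s b := (Fs.le_cent b hb.1).symm
      by_cases c1 : Commute a z <;> by_cases c2 : Commute b z
      · simp [c1, c2, c1.mul_left c2]
      · have : ¬ Commute (a * b) z := fun c3 => c2 (by
          have := c1.inv_left.mul_left c3; rwa [inv_mul_cancel_left] at this)
        simp [c1, c2, this]
      · have : ¬ Commute (a * b) z := fun c3 => c1 (by
          have := c3.mul_left c2.inv_left; rwa [mul_inv_cancel_right] at this)
        simp [c1, c2, this]
      · have : Commute (a * b) z := by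
          rw [hval a ha c1, hval b hb c2, show a * s * (b * s) = a * (s * b) * s by group, hbs.eq,
            show a * (b * s) * s = a * b * (s * s) by group, Fs.z_sq, mul_one] at hab
          exact (mul_inv_eq_iff_eq_mul.1 hab).symm
        simp only [if_neg c1, if_neg c2, if_pos this]; rfl)
  have hk : χ.ker.map P0.subtype ≤ P.cen := by
    rintro _ ⟨⟨a, ha⟩, hk, rfl⟩
    rw [P.mem_cen]
    refine ⟨ha.1, ?_⟩
    by_contra hc
    rw [SetLike.mem_coe, MonoidHom.mem_ker] at hk
    have := congrArg Multiplicative.toAdd hk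
    change (if Commute a z then (0 : ZMod 2) else 1) = 0 at this
    exact one_ne_zero ((if_neg hc).symm.trans this : (1 : ZMod 2) = 0)
  have h1 := Subgroup.card_le_of_le hk
  rw [Subgroup.card_map_of_injective P0.subtype_injective] at h1
  have h2 := χ.ker.card_mul_index
  have h3 : χ.ker.index ≤ 2 := by
    rw [Subgroup.index_ker]
    refine (Nat.le_of_dvd ?_ (Subgroup.card_subgroup_dvd_card _)).trans (le_of_eq ?_)
    · exact Nat.card_pos
    · rw [Nat.card_congr Multiplicative.toAdd, Nat.card_zmod]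
  nlinarith

/-- The linear part of `R ∩ C(z)`. -/
def cenLin (P : Linked F Fs) : Subgroup G where
  carrier := {a | a ∈ P.cen ∧ F.Lin a}
  mul_mem' {a b} ha hb := ⟨mul_mem ha.1 hb.1, F.lin_mul (P.mem_cen.1 ha.1).2 (P.mem_cen.1 hb.1).2 ha.2 hb.2⟩
  one_mem' := ⟨one_mem _, fun u => by rw [F.pi_one, F.pi_one]⟩
  inv_mem' {a} ha := ⟨inv_mem ha.1, F.lin_inv (P.mem_cen.1 ha.1).2 ha.2⟩

theorem card_cenLin_ge : Nat.card P.cen ≤ 2 * Nat.card P.cenLin := by
  classical
  by_cases hall : ∀ a ∈ P.cen, F.Lin a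
  · have : P.cen ≤ P.cenLin := fun a ha => ⟨ha, hall a ha⟩
    have := Subgroup.card_le_of_le this
    omega
  push Not at hall
  obtain ⟨t, ht, htl⟩ := hall
  let φ : P.cen → P.cenLin × Bool := fun a =>
    if h : F.Lin (a : G) then (⟨a, a.2, h⟩, false)
    else (⟨(a : G) * t, mul_mem a.2 ht, F.nonlin_mul (P.mem_cen.1 a.2).2 (P.mem_cen.1 ht).2 h htl⟩, true)
  have hφ : Function.Injective φ := by
    intro a b e
    by_cases ha : F.Lin (a : G) <;> by_cases hb : F.Lin (b : G) <;> simp [φ, ha, hb] at e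
    · exact Subtype.ext (congrArg (fun x : P.cenLin => (x : G)) e)
    · exact Subtype.ext (mul_right_cancel (congrArg (fun x : P.cenLin => (x : G)) e))
  have h := Nat.card_le_card_of_injective φ hφ
  rw [Nat.card_prod, Nat.card_eq_fintype_card (α := Bool), Fintype.card_bool] at h
  omega

/-- A family of linear maps fixing the hyperplane pair pointwise has at most four members. -/
theorem bound_four {T : Finset G}
    (hT : ∀ a ∈ T, Commute a z ∧ F.Lin a ∧
      ∀ u, bf u (F.mu s) = 0 → bf (om u) (F.mu s) = 0 → F.pi a u = u)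
    (hinj : ∀ a ∈ T, ∀ b ∈ T, (∀ u, F.pi a u = F.pi b u) → a = b) : T.card ≤ 4 := by
  classical
  set v := F.mu s with hv
  obtain ⟨e0, he0⟩ : ∃ e, bf e v = 1 := by
    by_contra hne
    push Not at hne
    refine P.vec_ne (bf_nondeg fun w => ?_)
    rcases (by decide : ∀ y : ZMod 2, y = 0 ∨ y = 1) (bf v w) with h0 | h0
    · exact h0
    · exact absurd (by rw [bf_comm]; exact h0) (hne w)
  have hdec : ∀ u, ∃ c : F4, bf (u + sc c e0) v = 0 ∧ bf (om (u + sc c e0)) v = 0 := by
    intro u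
    have h : ∀ (a b d : ZMod 2), ∃ c : F4, (a + ((if c.1 = 0 then 0 else 1) + (if c.2 = 0 then 0 else d)) = 0) ∧
        (b + ((if c.1 = 0 then 0 else d) + (if c.2 = 0 then 0 else d + 1)) = 0) := by decide
    obtain ⟨c, h1, h2⟩ := h (bf u v) (bf (om u) v) (bf (om e0) v)
    refine ⟨c, ?_, ?_⟩
    · rw [sc_eq, bf_add_left, bf_add_left]
      split_ifs at h1 ⊢ <;> simpa [he0, bf_zero_left] using h1
    · rw [sc_eq, om_add, om_add, bf_add_left, bf_add_left]
      have e2 : bf (om (om e0)) v = bf (om e0) v + 1 := by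
        rw [← one_add_om, bf_add_left, he0, add_comm]
      split_ifs at h2 ⊢ <;> simpa [he0, e2, bf_zero_left, show om 0 = 0 by decide] using h2
  have himg : ∀ a ∈ T, F.pi a e0 + e0 ∈ ({0, v, om v, v + om v} : Finset V) := by
    intro a ha
    obtain ⟨hz, hl, hfix⟩ := hT a ha
    have hperp : ∀ k, bf k v = 0 → bf (om k) v = 0 → bf k (F.pi a e0 + e0) = 0 := by
      intro k h1 h2
      rw [bf_add_right]
      conv_lhs => arg 1; rw [← hfix k h1 h2]
      rw [F.bf_pi hz]
      generalize bf k e0 = x; revert x; decide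
    have hom_adj : ∀ x y, bf (om x) y = bf x (om (om y)) := by
      intro x y
      refine Finset.sum_congr rfl fun i _ => ?_
      have : ∀ a b : F4, (om1 a).1 * b.2 + (om1 a).2 * b.1 = a.1 * (om1 (om1 b)).2 + a.2 * (om1 (om1 b)).1 := by
        decide
      exact this _ _
    set w := F.pi a e0 + e0
    -- `w` is a combination of `v` and its rotations
    obtain ⟨d1, d2, hd⟩ : ∃ d1 d2 : ZMod 2, ∀ u, bf u w = d1 * bf u v + d2 * bf (om u) v := by
      refine ⟨bf e0 w + bf (om e0) v * (bf (om e0) w + bf (om e0) v * bf e0 w),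
        bf (om e0) w + bf (om e0) v * bf e0 w, fun u => ?_⟩
      obtain ⟨c, h1, h2⟩ := hdec u
      have h3 := hperp _ h1 h2
      rw [bf_add_left] at h3 h1
      rw [om_add, bf_add_left, ← sc_om] at h2
      have e2 : bf (om (om e0)) v = bf (om e0) v + 1 := by
        rw [← one_add_om, bf_add_left, he0, add_comm]
      rw [sc_eq] at h1 h2 h3
      generalize bf u w = p at h3 ⊢
      generalize bf u v = q at h1 ⊢
      generalize bf (om u) v = r at h2 ⊢
      split_ifs at h1 h2 h3 <;> simp [bf_add_left, bf_zero_left, he0, e2] at h1 h2 h3 <;>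
        generalize bf (om e0) v = m at * <;> generalize bf e0 w = x at * <;>
        generalize bf (om e0) w = y at * <;> clear e2 <;> revert h1 h2 h3 <;> revert p q r m x y <;> decide
    have hw : w + (if d1 = 0 then 0 else v) + (if d2 = 0 then 0 else om (om v)) = 0 := by
      refine bf_nondeg fun u => ?_
      rw [bf_comm, bf_add_right, bf_add_right, hd]
      have b0 : bf u (0 : V) = 0 := by rw [bf_comm, bf_zero_left]
      rcases (by decide : ∀ y : ZMod 2, y = 0 ∨ y = 1) d1 with rfl | rfl <;>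
        rcases (by decide : ∀ y : ZMod 2, y = 0 ∨ y = 1) d2 with rfl | rfl <;>
        simp [b0, ← hom_adj] <;>
        (try generalize bf u v = p) <;> (try generalize bf (om u) v = r) <;> (try revert p) <;> (try revert r) <;>
        (try decide)
    have hsolve : ∀ x y : V, x + y = 0 → x = y := fun x y h => by
      calc x = x + y + y := by rw [add_assoc, add_self, add_zero]
        _ = y := by rw [h, zero_add]
    rw [add_assoc] at hw
    rw [hsolve _ _ hw, ← one_add_om]
    simp only [Finset.mem_insert, Finset.mem_singleton]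
    split_ifs <;> simp [← add_assoc, add_self]
  have := Finset.card_le_card_of_injOn (fun a => F.pi a e0 + e0) himg fun a ha b hb e => by
    have he : F.pi a e0 = F.pi b e0 := add_right_cancel e
    obtain ⟨haz, hal, hfa⟩ := hT a ha
    obtain ⟨hbz, hbl, hfb⟩ := hT b hb
    refine hinj a ha b hb fun u => ?_
    obtain ⟨c, h1, h2⟩ := hdec u
    have hu : u = (u + sc c e0) + sc c e0 := by rw [add_assoc, add_self, add_zero]
    rw [hu, F.pi_add haz, F.pi_add hbz, hfa _ h1 h2, hfb _ h1 h2, F.lin_sc haz hal, F.lin_sc hbz hbl, he]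
  exact this.trans Finset.card_le_four

theorem z_mem : z ∈ R := by
  classical
  by_contra hzR
  have hD : ∀ d ∈ Q, d ∈ R → d = 1 ∨ d = s := by
    intro d hdQ hdR
    have hperp : ∀ u, bf (F.mu s) u = 0 → bf (F.mu d) u = 0 := by
      intro u hu
      obtain ⟨x, hx, rfl⟩ := F.mu_surj u
      have hxs : Commute x s := (F.commute_iff hx P.mem).2 (by rw [bf_comm]; exact hu)
      rw [bf_comm]
      refine (F.commute_iff hx hdQ).1 ?_
      rw [commute_iff_eq, ← mul_inv_eq_iff_eq_mul, ← mul_inv_eq_one]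
      have h1 := F.comm x hx d hdQ
      have h2 : x * d * x⁻¹ * d⁻¹ ∈ R := mul_mem (Fs.normal x hxs d hdR) (inv_mem hdR)
      rw [h1] at h2 ⊢
      split_ifs at h2 ⊢ with hb
      · exact mul_inv_cancel d
      · exfalso
        rw [(F.le_cent d hdQ).eq, mul_inv_cancel_right] at h2
        exact hzR h2
    rcases perp_one_cases P.vec_ne hperp with e | e
    · rcases (F.mu_eq_zero d hdQ).1 e with rfl | rfl
      · exact Or.inl rfl
      · exact absurd hdR hzR
    · rcases (F.mu_eq_iff hdQ P.mem).1 e with rfl | rfl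
      · exact Or.inr rfl
      · exfalso
        have := mul_mem (inv_mem Fs.z_mem) hdR
        rw [inv_mul_cancel_left] at this
        exact hzR this
  have hshift : ∀ {a u}, a ∈ R → Commute a z → bf u (F.mu s) = 0 → F.pi a u + u = 0 ∨ F.pi a u + u = F.mu s := by
    intro a u haR haz hu
    obtain ⟨d, hd, hd', e⟩ := P.shift haR haz hu
    rcases hD d hd hd' with rfl | rfl
    · exact Or.inl (by rw [← e, F.mu_one])
    · exact Or.inr e.symm
  have hfix : ∀ a ∈ P.cenLin, ∀ u, bf u (F.mu s) = 0 → bf (om u) (F.mu s) = 0 → F.pi a u = u := by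
    intro a ha u h1 h2
    obtain ⟨haR, haz⟩ := P.mem_cen.1 ha.1
    have hsolve : ∀ x y : V, x + y = 0 → x = y := fun x y h => by
      calc x = x + y + y := by rw [add_assoc, add_self, add_zero]
        _ = y := by rw [h, zero_add]
    rcases hshift haR haz h1 with e | e
    · exact hsolve _ _ e
    · exfalso
      have e2 : F.pi a (om u) + om u = om (F.mu s) := by rw [ha.2, ← om_add, e]
      rcases hshift haR haz h2 with f | f
      · rw [f] at e2
        exact P.vec_ne (by
          have := congrArg (fun x => om (om x)) e2.symm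
          simpa [om_cube, show om (om (0 : V)) = 0 by decide] using this)
      · rw [f] at e2
        exact P.vec_ne (om_eq_self e2.symm)
  haveI := Fintype.ofFinite P.cenLin
  let Φ : P.cenLin → V → V := fun a => F.pi (a : G)
  let img : Finset (V → V) := Finset.univ.image Φ
  have hrep : ∀ f : {f // f ∈ img}, ∃ a : P.cenLin, Φ a = f.1 := fun f => by
    obtain ⟨a, -, h⟩ := Finset.mem_image.1 f.2; exact ⟨a, h⟩
  choose rep hrep using hrep
  let T : Finset G := Finset.univ.image fun f => (rep f : G)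
  have hTinj : Function.Injective fun f => (rep f : G) := fun f f' e => Subtype.ext (by
    rw [← hrep f, ← hrep f', Subtype.ext e])
  have h4 : T.card ≤ 4 := P.bound_four (fun a ha => by
      obtain ⟨f, -, rfl⟩ := Finset.mem_image.1 ha
      exact ⟨(P.mem_cen.1 (rep f).2.1).2, (rep f).2.2, hfix _ (rep f).2⟩)
    fun a ha b hb e => by
      obtain ⟨f, -, rfl⟩ := Finset.mem_image.1 ha
      obtain ⟨f', -, rfl⟩ := Finset.mem_image.1 hb
      have : f = f' := Subtype.ext (by rw [← hrep f, ← hrep f']; exact funext e)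
      rw [this]
  rw [Finset.card_image_of_injective _ hTinj, Finset.card_univ, Fintype.card_coe] at h4
  have hfib : (Finset.univ : Finset P.cenLin).card ≤ 2 * img.card := by
    refine Finset.card_le_mul_card_image _ 2 fun f hf => ?_
    obtain ⟨a0, -, ha0⟩ := Finset.mem_image.1 hf
    have hsub : (Finset.univ.filter fun a => Φ a = f).image (fun a : P.cenLin => (a : G) * (a0 : G)⁻¹) ⊆ {1, s} := by
      intro x hx
      obtain ⟨a, ha, rfl⟩ := Finset.mem_image.1 hx
      have ha' := (Finset.mem_filter.1 ha).2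
      have hm : (a : G) * (a0 : G)⁻¹ ∈ P.cen := mul_mem a.2.1 (inv_mem a0.2.1)
      obtain ⟨hR, hz⟩ := P.mem_cen.1 hm
      have hQ : (a : G) * (a0 : G)⁻¹ ∈ Q := F.faithful _ hz fun u => by
        have e : F.pi (a : G) (F.pi (a0 : G)⁻¹ u) = F.pi (a0 : G) (F.pi (a0 : G)⁻¹ u) :=
          congrFun (ha'.trans ha0.symm) _
        have h0 := (P.mem_cen.1 a0.2.1).2
        rw [F.pi_mul (P.mem_cen.1 a.2.1).2 h0.inv_left, e, ← F.pi_mul h0 h0.inv_left, mul_inv_cancel, F.pi_one]
      rcases hD _ hQ hR with e | e <;> simp [e]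
    rw [← Finset.card_image_of_injective (Finset.univ.filter fun a => Φ a = f)
      (f := fun a : P.cenLin => (a : G) * (a0 : G)⁻¹) fun a b e => Subtype.ext (mul_right_cancel e)]
    exact (Finset.card_le_card hsub).trans Finset.card_le_two
  rw [Finset.card_univ, ← Nat.card_eq_fintype_card] at hfib
  have := P.card_cen_ge
  have := P.card_cenLin_ge
  omega

theorem card_cen : Nat.card P.cen = 2 ^ 12 := by
  classical
  have hz := P.z_mem
  have hzne : Fs.mu z ≠ 0 := fun h => by
    rcases (Fs.mu_eq_zero z hz).1 h with e | e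
    · exact F.z_ne e
    · exact P.ne e.symm
  let χ : R →* Multiplicative (ZMod 2) := MonoidHom.mk'
    (fun r => Multiplicative.ofAdd (bf (Fs.mu (r : G)) (Fs.mu z))) fun a b => by
      rw [Subgroup.coe_mul, Fs.mu_mul _ a.2 _ b.2, bf_add_left, ofAdd_add]
  have hs : Function.Surjective χ := by
    obtain ⟨e, he⟩ : ∃ e, bf e (Fs.mu z) = 1 := by
      by_contra hne
      push Not at hne
      refine hzne (bf_nondeg fun w => ?_)
      rcases (by decide : ∀ y : ZMod 2, y = 0 ∨ y = 1) (bf (Fs.mu z) w) with h0 | h0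
      · exact h0
      · exact absurd (by rw [bf_comm]; exact h0) (hne w)
    obtain ⟨r, hr, rfl⟩ := Fs.mu_surj e
    intro y
    obtain ⟨t, rfl⟩ := Multiplicative.ofAdd.surjective y
    rcases (by decide : ∀ y : ZMod 2, y = 0 ∨ y = 1) t with rfl | rfl
    · exact ⟨1, map_one χ⟩
    · exact ⟨⟨r, hr⟩, congrArg Multiplicative.ofAdd he⟩
  have hk : χ.ker.map R.subtype = P.cen := by
    ext a
    rw [P.mem_cen]
    constructor
    · rintro ⟨r, hr, rfl⟩
      exact ⟨r.2, (Fs.commute_iff r.2 hz).2 (congrArg Multiplicative.toAdd (MonoidHom.mem_ker.1 hr))⟩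
    · rintro ⟨haR, haz⟩
      exact ⟨⟨a, haR⟩, MonoidHom.mem_ker.2 (congrArg Multiplicative.ofAdd ((Fs.commute_iff haR hz).1 haz)), rfl⟩
  rw [← hk, Subgroup.card_map_of_injective R.subtype_injective]
  have h := χ.ker.card_mul_index
  rw [Subgroup.index_ker, MonoidHom.range_eq_top.2 hs, Subgroup.card_top, Nat.card_congr Multiplicative.toAdd,
    Nat.card_zmod, Fs.card_le] at h
  omega

theorem card_inter : Nat.card (Q ⊓ R : Subgroup G) = 2 * Nat.card P.dbar := by
  classical
  let g : (Q ⊓ R : Subgroup G) →* Multiplicative P.dbar := MonoidHom.mk'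
    (fun d => Multiplicative.ofAdd ⟨F.mu (d : G), d, d.2.1, d.2.2, rfl⟩) fun a b => by
      rw [← ofAdd_add]; congr 1; exact Subtype.ext (F.mu_mul _ a.2.1 _ b.2.1)
  have hs : Function.Surjective g := fun y => by
    obtain ⟨⟨u, d, hd, hd', e⟩, rfl⟩ := Multiplicative.ofAdd.surjective y
    exact ⟨⟨d, hd, hd'⟩, congrArg Multiplicative.ofAdd (Subtype.ext e)⟩
  have hk : g.ker = Subgroup.zpowers (⟨z, F.z_mem, P.z_mem⟩ : (Q ⊓ R : Subgroup G)) := by
    ext ⟨d, hd⟩
    rw [MonoidHom.mem_ker]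
    constructor
    · intro e
      rcases (F.mu_eq_zero d hd.1).1 (congrArg (fun y : P.dbar => (y : V)) (congrArg Multiplicative.toAdd e)) with e1 | e1
      · rw [show (⟨d, hd⟩ : (Q ⊓ R : Subgroup G)) = 1 from Subtype.ext e1]; exact one_mem _
      · rw [show (⟨d, hd⟩ : (Q ⊓ R : Subgroup G)) = ⟨z, F.z_mem, P.z_mem⟩ from Subtype.ext e1]
        exact Subgroup.mem_zpowers _
    · intro e
      obtain ⟨k, hk⟩ := Subgroup.mem_zpowers_iff.1 e
      have hz0 : g ⟨z, F.z_mem, P.z_mem⟩ = 1 := congrArg Multiplicative.ofAdd (Subtype.ext F.mu_z)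
      rw [← hk, map_zpow, hz0, one_zpow]
  have h := g.ker.card_mul_index
  rw [Subgroup.index_ker, MonoidHom.range_eq_top.2 hs, Subgroup.card_top, Nat.card_congr Multiplicative.toAdd,
    hk, Nat.card_zpowers, ← Subgroup.orderOf_coe, F.z_order] at h
  exact h.symm

/-- The permutation image of `R ∩ C(z)`. -/
def wgrp (P : Linked F Fs) : Subgroup (Equiv.Perm V) :=
  (P.cen.subgroupOf (Subgroup.centralizer ({z} : Set G))).map F.permHom

/-- The permutation image of the stabiliser of the vector. -/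
def xgrp (_P : Linked F Fs) : Subgroup (Equiv.Perm V) :=
  ((F.stab (F.mu s)).subgroupOf (Subgroup.centralizer ({z} : Set G))).map F.permHom

theorem card_image (H : Subgroup G) (hH : H ≤ Subgroup.centralizer ({z} : Set G)) :
    Nat.card ((H.subgroupOf (Subgroup.centralizer ({z} : Set G))).map F.permHom) * Nat.card (Q ⊓ H : Subgroup G) =
      Nat.card H := by
  set K := H.subgroupOf (Subgroup.centralizer ({z} : Set G))
  have h := (F.permHom.comp K.subtype).ker.card_mul_index
  rw [Subgroup.index_ker, MonoidHom.range_comp, Subgroup.range_subtype,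
    Nat.card_congr (Subgroup.subgroupOfEquivOfLe hH).toEquiv] at h
  rw [mul_comm, ← h]
  congr 1
  exact Nat.card_congr
    { toFun := fun a => ⟨⟨⟨a.1, hH a.2.2⟩, a.2.2⟩, (F.permHom_eq_one _).2 a.2.1⟩
      invFun := fun a => ⟨a.1.1.1, (F.permHom_eq_one _).1 a.2, a.1.2⟩
      left_inv := fun a => rfl
      right_inv := fun a => rfl }

theorem cen_le : P.cen ≤ Subgroup.centralizer ({z} : Set G) := inf_le_right

theorem card_wgrp : Nat.card P.wgrp * (2 * Nat.card P.dbar) = 2 ^ 12 := by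
  have h := P.card_image P.cen P.cen_le
  rw [P.card_cen] at h
  rw [← P.card_inter, ← h]
  congr 1
  rw [cen, ← inf_assoc]
  have : Q ⊓ R ≤ Subgroup.centralizer ({z} : Set G) := fun a ha =>
    Subgroup.mem_centralizer_singleton_iff.2 (F.le_cent a ha.1).eq
  rw [inf_eq_left.2 this]

theorem mem_wgrp {f : Equiv.Perm V} :
    f ∈ P.wgrp ↔ ∃ a ∈ R, Commute a z ∧ ∀ u, f u = F.pi a u := by
  constructor
  · rintro ⟨a, ha, rfl⟩
    obtain ⟨h1, h2⟩ := P.mem_cen.1 ha
    exact ⟨a, h1, h2, fun u => rfl⟩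
  · rintro ⟨a, haR, haz, h⟩
    exact ⟨⟨a, Subgroup.mem_centralizer_singleton_iff.2 haz⟩, P.mem_cen.2 ⟨haR, haz⟩, Equiv.ext fun u => (h u).symm⟩

theorem mem_xgrp {f : Equiv.Perm V} :
    f ∈ P.xgrp ↔ ∃ h, Commute h z ∧ F.pi h (F.mu s) = F.mu s ∧ ∀ u, f u = F.pi h u := by
  constructor
  · rintro ⟨a, ha, rfl⟩
    obtain ⟨h1, h2⟩ := F.mem_stab.1 ha
    exact ⟨a, h1, h2, fun u => rfl⟩
  · rintro ⟨a, haz, hfix, h⟩
    exact ⟨⟨a, Subgroup.mem_centralizer_singleton_iff.2 haz⟩, F.mem_stab.2 ⟨haz, hfix⟩, Equiv.ext fun u => (h u).symm⟩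

theorem wgrp_le : P.wgrp ≤ P.xgrp := fun f hf => by
  obtain ⟨a, haR, haz, h⟩ := P.mem_wgrp.1 hf
  exact P.mem_xgrp.2 ⟨a, haz, P.fix_vec haR haz, h⟩

/-- An element fixing the vector can be corrected to commute with `s`. -/
theorem correct {h : G} (hh : Commute h z) (hfix : F.pi h (F.mu s) = F.mu s) :
    ∃ h', Commute h' z ∧ Commute h' s ∧ ∀ u, F.pi h' u = F.pi h u := by
  have hs : F.mu (h * s * h⁻¹) = F.mu s := by rw [F.pi_mu h hh s P.mem, hfix]
  rcases (F.mu_eq_iff (F.normal h hh s P.mem) P.mem).1 hs with e | e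
  · exact ⟨h, hh, mul_inv_eq_iff_eq_mul.1 e, fun u => rfl⟩
  · obtain ⟨x, hx, hxs⟩ : ∃ x ∈ Q, x * s * x⁻¹ = s * z := by
      obtain ⟨e0, he⟩ : ∃ e, bf e (F.mu s) = 1 := by
        by_contra hne
        push Not at hne
        refine P.vec_ne (bf_nondeg fun w => ?_)
        rcases (by decide : ∀ y : ZMod 2, y = 0 ∨ y = 1) (bf (F.mu s) w) with h0 | h0
        · exact h0
        · exact absurd (by rw [bf_comm]; exact h0) (hne w)
      obtain ⟨x, hx, rfl⟩ := F.mu_surj e0
      exact ⟨x, hx, by rw [F.comm x hx s P.mem, if_neg (by rw [he]; decide)]⟩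
    refine ⟨x * h, (F.le_cent x hx).mul_left hh, ?_, fun u => ?_⟩
    · have h2 : x * h * s * (x * h)⁻¹ = s := by
        rw [show x * h * s * (x * h)⁻¹ = x * (h * s * h⁻¹) * x⁻¹ by group, e,
          show x * (s * z) * x⁻¹ = (x * s * x⁻¹) * (x * z * x⁻¹) by group, hxs,
          show x * z * x⁻¹ = z by rw [(F.le_cent x hx).eq, mul_inv_cancel_right], mul_assoc, F.z_sq, mul_one]
      exact mul_inv_eq_iff_eq_mul.1 h2
    · rw [F.pi_mul (F.le_cent x hx) hh, F.pi_eq_self_of_mem hx]

theorem dbar_stable {h : G} (hh : Commute h z) (hfix : F.pi h (F.mu s) = F.mu s) {u : V} (hu : u ∈ P.dbar) :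
    F.pi h u ∈ P.dbar := by
  obtain ⟨h', hz', hs', e⟩ := P.correct hh hfix
  obtain ⟨d, hd, hd', rfl⟩ := hu
  exact ⟨h' * d * h'⁻¹, F.normal h' hz' d hd, Fs.normal h' hs' d hd', by rw [F.pi_mu h' hz' d hd, e]⟩

theorem wgrp_normal {f w : Equiv.Perm V} (hf : f ∈ P.xgrp) (hw : w ∈ P.wgrp) : f * w * f⁻¹ ∈ P.wgrp := by
  obtain ⟨h, hh, hfix, he⟩ := P.mem_xgrp.1 hf
  obtain ⟨h', hz', hs', e⟩ := P.correct hh hfix
  obtain ⟨a, haR, haz, hwa⟩ := P.mem_wgrp.1 hw
  refine P.mem_wgrp.2 ⟨h' * a * h'⁻¹, Fs.normal h' hs' a haR, (hz'.mul_left haz).mul_left hz'.inv_left, fun u => ?_⟩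
  rw [F.pi_mul (hz'.mul_left haz) hz'.inv_left, F.pi_mul hz' haz, Equiv.Perm.mul_apply, Equiv.Perm.mul_apply,
    he, hwa, e]
  congr 2
  rw [Equiv.Perm.inv_def, Equiv.symm_apply_eq, he]
  have := F.pi_inv_apply hz'.inv_left u
  rw [inv_inv] at this
  rw [← e, this]

theorem wgrp_abelian {f w : Equiv.Perm V} (hf : f ∈ P.wgrp) (hw : w ∈ P.wgrp) : f * w = w * f ∧ f * f = 1 := by
  obtain ⟨a, haR, haz, hfa⟩ := P.mem_wgrp.1 hf
  obtain ⟨b, hbR, hbz, hwb⟩ := P.mem_wgrp.1 hw
  have key : ∀ x, x ∈ R → x ∈ R := fun _ h => h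
  constructor
  · refine Equiv.ext fun u => ?_
    rw [Equiv.Perm.mul_apply, Equiv.Perm.mul_apply, hwb, hfa, hfa, hwb, ← F.pi_mul haz hbz, ← F.pi_mul hbz haz]
    have h := Fs.comm a haR b hbR
    rw [mul_inv_eq_iff_eq_mul] at h
    rw [h]
    split_ifs
    · rfl
    · rw [mul_assoc, (Fs.le_cent a haR).symm.eq, ← mul_assoc,
        F.pi_mul (hbz.mul_left haz) P.comm.symm, F.pi_eq_self_of_mem P.mem]
  · refine Equiv.ext fun u => ?_
    rw [Equiv.Perm.mul_apply, hfa, hfa, ← F.pi_mul haz haz, Fs.sq a haR]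
    split_ifs
    · rw [F.pi_one]; rfl
    · rw [F.pi_eq_self_of_mem P.mem]; rfl

theorem wgrp_two : IsPGroup 2 P.wgrp := fun f => ⟨1, Subtype.ext (by
  rw [Subgroup.coe_pow, pow_one, pow_two, (P.wgrp_abelian f.2 f.2).2]; rfl)⟩

theorem card_xgrp {γ : ZMod 3} (hγ : F.Classes γ) :
    Nat.card P.xgrp = if big γ (F.mu s) then 11520 else 51840 := by
  have hle : F.stab (F.mu s) ≤ Subgroup.centralizer ({z} : Set G) := fun a ha =>
    Subgroup.mem_centralizer_singleton_iff.2 ha.1.eq
  have h := P.card_image _ hle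
  rw [F.card_stab_image hγ P.vec_sing P.vec_ne] at h
  have e : (Q ⊓ F.stab (F.mu s) : Subgroup G) = Q := inf_eq_left.2 fun a ha =>
    F.mem_stab.2 ⟨F.le_cent a ha, F.pi_eq_self_of_mem ha _⟩
  rw [e, F.card_le] at h
  change Nat.card P.xgrp * 2 ^ 13 = _ at h
  omega

theorem dbar_le : Nat.card P.dbar ≤ 64 := card_isotropic P.dbar_iso

theorem big_vec_aux {γ : ZMod 3} (hγ : F.Classes γ) (hv : F.mu s = v2) : False := by
  classical
  have hsmall : ∀ u ∈ P.dbar, u 2 = 0 ∧ u 3 = 0 ∧ u 4 = 0 ∧ u 5 = 0 := by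
    intro u hu
    have hdiag : ∀ a : Fin 6 → ZMod 3, a 0 = 0 → a 1 = 0 → ∑ i, a i = 0 → qf (diag a u + u) = 0 := by
      intro a a0 a1 hs
      obtain ⟨h, hh, e⟩ := F.diag_mem a hs
      have hfix : F.pi h (F.mu s) = F.mu s := by
        rw [e, hv]
        funext i
        fin_cases i <;> simp [diag, v2, a0, a1, rot_zero]
        all_goals exact rot_at_zero _
      have h1 := P.dbar_stable hh hfix hu
      rw [e] at h1
      exact P.dbar_sing (add_mem h1 hu)
    have h1 := hdiag ![0, 0, 1, -1, 0, 0] rfl rfl (by decide)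
    have h2 := hdiag ![0, 0, 1, 0, -1, 0] rfl rfl (by decide)
    have h3 := hdiag ![0, 0, 0, 1, 0, -1] rfl rfl (by decide)
    have h4 := hdiag ![0, 0, 1, 1, 1, 0] rfl rfl (by decide)
    have hz : ∀ x : F4, nz (rot 0 x + x) = 0 := by decide
    simp [qf, diag, Fin.sum_univ_succ, hz] at h1 h2 h3 h4
    exact small_key _ _ _ _ h1 h2 h3 h4
  have hcard : Nat.card P.dbar ≤ 10 := by
    refine le_trans ?_ supp_two_bound
    rw [← Nat.card_eq_finsetCard]
    refine Nat.card_le_card_of_injective (fun u : P.dbar =>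
      (⟨(u : V), Finset.mem_filter.2 ⟨Finset.mem_univ _, P.dbar_sing u.2, hsmall u u.2⟩⟩ :
        {u // u ∈ Finset.univ.filter fun u : V => qf u = 0 ∧ u 2 = 0 ∧ u 3 = 0 ∧ u 4 = 0 ∧ u 5 = 0}))
      fun a b e => Subtype.ext (congrArg (fun x : {u // u ∈ _} => (x : V)) e)
  have h1 := P.card_wgrp
  have h2 := Subgroup.card_dvd_of_le P.wgrp_le
  rw [P.card_xgrp hγ, if_neg (by rw [hv]; exact (v2_spec γ).2.2)] at h2
  obtain ⟨n, hn⟩ := P.wgrp_two.exists_card_eq
  rw [hn] at h1 h2
  have hn12 : n ≤ 12 := (Nat.pow_le_pow_iff_right (le_refl 2)).1 (Nat.le_of_dvd (by norm_num) ⟨_, h1.symm⟩)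
  interval_cases n <;> omega

omit P in
/-- Conjugates of the central involution other than itself give vectors of the long orbit. -/
theorem big_vec {γ : ZMod 3} (hγ : F.Classes γ) (P : Linked F Fs) : big γ (F.mu s) := by
  by_contra hb
  obtain ⟨h, hh, he⟩ := (hγ (F.mu s) v2 P.vec_sing P.vec_ne (v2_spec γ).1 (v2_spec γ).2.1).2
    (iff_of_false hb (v2_spec γ).2.2)
  have P' : Linked F (Fs.tr h) := ⟨F.normal h hh s P.mem, fun e => P.ne (by
    have := congrArg (fun x => h⁻¹ * x * h) e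
    simp only [mul_assoc, inv_mul_cancel, mul_one, inv_mul_cancel_left] at this
    rw [this, ← hh.eq, inv_mul_cancel_left])⟩
  exact P'.big_vec_aux hγ (by rw [F.pi_mu h hh s P.mem, he])

end Linked

end Cfsg.Agent.LFType23
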