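import Cfsg.Agent.LFType23.Triple

/-!
Facts needed for the centraliser of the scalar in a group of large Fischer type.
-/
set_option autoImplicit false

namespace Cfsg.Agent.LFType23

open scoped commutatorElement

variable {G : Type*} [Group G] {z : G} {Q : Subgroup G}

/-- Configuration with the product of the three conjugates trivial, and the coordinates at `s` normalised. -/
theorem exists_triple [Finite G] {F : Frame z Q} {s g x : G} {γ : ZMod 3} {R : Subgroup G} {Fs : Frame s R}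
    (hR : R = cj g Q) (hgs : g * z * g⁻¹ = s) (S : Std F Fs γ) (hsc : Fs.Classes γ) (hx : F.Scalar x) :
    z ∈ ⁅Subgroup.centralizer ({z} : Set G) ⊓ Subgroup.centralizer ({x} : Set G),
      Subgroup.centralizer ({z} : Set G) ⊓ Subgroup.centralizer ({x} : Set G)⁆ := by
  classical
  suffices key : ∀ (s g : G) (R : Subgroup G) (Fs : Frame s R), R = cj g Q → g * z * g⁻¹ = s → Std F Fs γ →
      Fs.Classes γ → s * (x * s * x⁻¹) * (x * (x * s * x⁻¹) * x⁻¹) = 1 →
      z ∈ ⁅Subgroup.centralizer ({z} : Set G) ⊓ Subgroup.centralizer ({x} : Set G),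
        Subgroup.centralizer ({z} : Set G) ⊓ Subgroup.centralizer ({x} : Set G)⁆ by
    have hsQ := S.link.mem
    have h1 : x * s * x⁻¹ ∈ Q := F.normal x hx.comm s hsQ
    have h2 : x * (x * s * x⁻¹) * x⁻¹ ∈ Q := F.normal x hx.comm _ h1
    have hm : F.mu (s * (x * s * x⁻¹) * (x * (x * s * x⁻¹) * x⁻¹)) = 0 := by
      rw [F.mu_mul _ (mul_mem hsQ h1) _ h2, F.mu_mul _ hsQ _ h1, F.pi_mu x hx.comm _ h1,
        F.pi_mu x hx.comm s hsQ, hx.act, hx.act, one_add_om, add_self]
    rcases (F.mu_eq_zero _ (mul_mem (mul_mem hsQ h1) h2)).1 hm with h | h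
    · exact key s g R Fs hR hgs S hsc h
    · obtain ⟨q, hq, e⟩ := F.exists_flip hsQ S.link.vec_ne
      refine key (q * s * q⁻¹) (q * g) _ (Fs.tr q) ?_ (by rw [← hgs]; group) ?_ (Fs.classes_tr hsc q) ?_
      · rw [hR]; exact cj_cj g q
      · refine ⟨⟨F.normal q (F.le_cent q hq) s hsQ, fun e' => ?_⟩, S.classes, S.gne, ?_⟩
        · rw [e] at e'
          exact Fs.z_ne (mul_eq_right.1 e')
        · rw [e, F.mu_mul_z hsQ, S.vec]
      · have hxc : ∀ a, x * (a * z) * x⁻¹ = x * a * x⁻¹ * z := fun a => by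
          rw [show x * (a * z) * x⁻¹ = (x * a * x⁻¹) * (x * z * x⁻¹) by group, hx.comm.eq, mul_inv_cancel_right]
        rw [e, hxc, hxc]
        rw [show s * z * (x * s * x⁻¹ * z) = s * (z * (x * s * x⁻¹)) * z by group, ← (F.le_cent _ h1).eq,
          show s * (x * s * x⁻¹ * z) * z * (x * (x * s * x⁻¹) * x⁻¹ * z) =
            s * (x * s * x⁻¹) * (z * z) * (x * (x * s * x⁻¹) * x⁻¹) * z by group, F.z_sq, mul_one, h, F.z_sq]
  intro s g R Fs hR hgs S hsc hprod
  have hc : IsConj s z := isConj_iff.2 ⟨g⁻¹, by rw [← hgs]; group⟩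
  have hzs : z ≠ s := Ne.symm S.link.ne
  have hzR := S.link.z_mem
  have hz1 : z ≠ 1 := F.z_ne
  obtain ⟨k, hk, e⟩ := (hsc _ one6 ((Fs.sq_eq_one_iff hzR).1 F.z_sq) (Fs.mu_ne_zero hzR hz1 hzs)
    one6_spec.1 one6_spec.2).2 (iff_of_true (Fs.big_of_isConj hsc hzR hzs hc) (big_one6 γ S.gne))
  obtain ⟨Fs', hsc', hmu⟩ := Fs.exists_move hsc hk
  exact triple_center F hx hR Fs' hgs ⟨⟨S.link.mem, S.link.ne⟩, S.classes, S.gne, S.vec⟩ hsc'
    (by rw [hmu, Fs.pi_mu k hk z hzR, e]) hprod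

/-- The scalar is a product of commutators in its centraliser. -/
theorem scalar_mem_commutator (F : Frame z Q) {x : G} (hx : F.Scalar x)
    (hz : z ∈ ⁅Subgroup.centralizer ({z} : Set G) ⊓ Subgroup.centralizer ({x} : Set G),
      Subgroup.centralizer ({z} : Set G) ⊓ Subgroup.centralizer ({x} : Set G)⁆) :
    x ∈ ⁅Subgroup.centralizer ({z} : Set G) ⊓ Subgroup.centralizer ({x} : Set G),
      Subgroup.centralizer ({z} : Set G) ⊓ Subgroup.centralizer ({x} : Set G)⁆ := by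
  have memY : ∀ {y}, Commute y z → Commute y x →
      y ∈ Subgroup.centralizer ({z} : Set G) ⊓ Subgroup.centralizer ({x} : Set G) := fun {y} h1 h2 =>
    ⟨Subgroup.mem_centralizer_singleton_iff.2 h1, Subgroup.mem_centralizer_singleton_iff.2 h2⟩
  obtain ⟨σ, a, hσ, ha, hd⟩ : ∃ (σ : Equiv.Perm (Fin 6)) (a : Fin 6 → ZMod 3), Equiv.Perm.sign σ = 1 ∧
      ∑ i, a i = 0 ∧ ∀ i, a (σ i) + -a i = 1 :=
    ⟨Equiv.swap 0 1 * Equiv.swap 1 2 * (Equiv.swap 3 4 * Equiv.swap 4 5), ![0, 1, 2, 0, 1, 2], by decide, by decide,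
      by decide⟩
  obtain ⟨h, hh, he⟩ := F.perm_mem σ hσ
  obtain ⟨h', hh', he'⟩ := F.diag_mem a ha
  obtain ⟨q, hq, hc⟩ := hx.exists_lift hh (fun u => by rw [he, he]; rfl)
  obtain ⟨q', hq', hc'⟩ := hx.exists_lift hh' (fun u => by rw [he', he', diag_om])
  set k := q * h
  set d := q' * h'
  have hk : Commute k z := (F.le_cent q hq).mul_left hh
  have hdz : Commute d z := (F.le_cent q' hq').mul_left hh'
  have ek : ∀ u, F.pi k u = perm σ u := fun u => by
    rw [F.pi_mul (F.le_cent q hq) hh, F.pi_eq_self_of_mem hq, he]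
  have ed : ∀ u, F.pi d u = diag a u := fun u => by
    rw [F.pi_mul (F.le_cent q' hq') hh', F.pi_eq_self_of_mem hq', he']
  have eki : ∀ u, F.pi k⁻¹ u = perm σ⁻¹ u := fun u => by
    refine F.pi_injective hk ?_
    rw [← F.pi_mul hk hk.inv_left, mul_inv_cancel, F.pi_one, ek]
    funext i; simp [perm]
  have edi : ∀ u, F.pi d⁻¹ u = diag (-a) u := fun u => by
    refine F.pi_injective hdz ?_
    rw [← F.pi_mul hdz hdz.inv_left, mul_inv_cancel, F.pi_one, ed, diag_diag, add_neg_cancel, diag_zero]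
  have hcm : k * d * k⁻¹ * d⁻¹ ∈ ⁅Subgroup.centralizer ({z} : Set G) ⊓ Subgroup.centralizer ({x} : Set G),
      Subgroup.centralizer ({z} : Set G) ⊓ Subgroup.centralizer ({x} : Set G)⁆ :=
    Subgroup.commutator_mem_commutator (memY hk hc) (memY hdz hc')
  set c := k * d * k⁻¹ * d⁻¹ with hcd
  have hcz : Commute c z := ((hk.mul_left hdz).mul_left hk.inv_left).mul_left hdz.inv_left
  have hcx : Commute c x := ((hc.mul_left hc').mul_left hc.inv_left).mul_left hc'.inv_left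
  have hce : ∀ u, F.pi c u = om u := fun u => by
    rw [hcd, F.pi_mul ((hk.mul_left hdz).mul_left hk.inv_left) hdz.inv_left,
      F.pi_mul (hk.mul_left hdz) hk.inv_left, F.pi_mul hk hdz, ek, ed, eki, edi, diag_comp, diag_diag]
    rw [← diag_one]
    congr 1
    funext i
    exact hd i
  have hq3 : x⁻¹ * c ∈ Q := F.faithful _ (hx.comm.inv_left.mul_left hcz) fun u => by
    rw [F.pi_mul hx.comm.inv_left hcz, hce, ← hx.act, F.pi_inv_apply hx.comm]
  rcases hx.fixed_mem hq3 ((Commute.refl x).inv_right.mul_right hcx.symm) with e | e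
  · exact (inv_mul_eq_one.1 e).symm ▸ hcm
  · rw [inv_mul_eq_iff_eq_mul] at e
    have e2 : c * z⁻¹ = x := by rw [e]; group
    have h3 := mul_mem hcm (inv_mem hz)
    rwa [e2] at h3

end Cfsg.Agent.LFType23
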