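import Cfsg.Agent.LFType23.Main

/-!
Elements of order three acting as the scalar, and their centralisers.
-/
set_option autoImplicit false

namespace Cfsg.Agent.LFType23

theorem om_eq_diag (u : V) : om u = diag (fun _ => 1) u := (diag_one u).symm

theorem diag_comp (σ : Equiv.Perm (Fin 6)) (a : Fin 6 → ZMod 3) (u : V) :
    perm σ (diag a (perm σ⁻¹ u)) = diag (fun i => a (σ i)) u := by
  funext i; simp [perm, diag]

theorem kill_other : ∀ i j : Fin 6, i ≠ j →
    ∃ a : Fin 6 → ZMod 3, ∑ k, a k = 0 ∧ a i = 0 ∧ a j ≠ 0 := by decide +kernel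

theorem rot_fixed : ∀ (k : ZMod 3) (y : F4), k ≠ 0 → rot k y = y → y = 0 := by decide

theorem one_pair : ∀ i : Fin 6, ∃ a : Fin 6 → ZMod 3, ∑ k, a k = 0 ∧ a i = 1 := by decide +kernel

theorem fm_om : ∀ a : F4, fm a (om1 (1, 0)) = om1 a ∧ fm a (0 : F4) = 0 ∧ fm a (1, 0) = a := by decide

theorem zmod3_triple : ∀ k : ZMod 3, k + k + k = 0 := by decide

theorem three_cube : ∀ a : F4, a ≠ 0 → a ≠ (1, 0) → a = (0, 1) ∨ a = (1, 1) := by decide

/-- An additive map commuting with the monomial symmetries is a scalar. -/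
theorem scalar_of_commute (f : V → V) (hadd : ∀ u w, f (u + w) = f u + f w)
    (hperm : ∀ σ : Equiv.Perm (Fin 6), Equiv.Perm.sign σ = 1 → σ ^ 3 = 1 → ∀ u, f (perm σ u) = perm σ (f u))
    (hdiag : ∀ a : Fin 6 → ZMod 3, ∑ i, a i = 0 → ∀ u, f (diag a u) = diag a (f u)) :
    ∃ c : F4, ∀ u, f u = sc c u := by
  classical
  have h0 : f 0 = 0 := by have := hadd 0 0; rw [add_zero] at this; exact left_eq_add.1 this
  have hsupp : ∀ (i j : Fin 6) (y : F4), i ≠ j → f (Pi.single i y) j = 0 := fun i j y hij => by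
    obtain ⟨a, ha, hai, haj⟩ := kill_other i j hij
    have h1 := congrFun (hdiag a ha (Pi.single i y)) j
    have e : diag a (Pi.single i y : V) = Pi.single i y := funext fun k => by
      by_cases hk : k = i
      · subst hk; simp [diag, hai, rot_zero]
      · simp [diag, Pi.single_eq_of_ne hk, rot_at_zero]
    rw [e] at h1
    exact rot_fixed _ _ haj h1.symm
  have hsmul : ∀ (i : Fin 6) (y : F4), f (Pi.single i y) i = fm (f (Pi.single i (1, 0)) i) y := by
    intro i y
    obtain ⟨a, ha, hai⟩ := one_pair i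
    have h1 : ∀ y, f (Pi.single i (om1 y)) i = om1 (f (Pi.single i y) i) := fun y => by
      have h1 := congrFun (hdiag a ha (Pi.single i y)) i
      have e : diag a (Pi.single i y : V) = Pi.single i (om1 y) := funext fun k => by
        by_cases hk : k = i
        · subst hk
          have : ∀ y, rot 1 y = om1 y := by decide
          simp [diag, hai, this]
        · simp [diag, Pi.single_eq_of_ne hk, rot_at_zero]
      rw [e] at h1
      rw [h1]
      have : ∀ y, rot 1 y = om1 y := by decide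
      simp [diag, hai, this]
    rcases (by decide : ∀ y : F4, y = 0 ∨ y = (1, 0) ∨ y = om1 (1, 0) ∨ y = om1 (om1 (1, 0))) y with
      rfl | rfl | rfl | rfl
    · rw [Pi.single_zero, h0, (fm_om _).2.1]; rfl
    · rw [(fm_om _).2.2]
    · rw [h1, (fm_om _).1]
    · rw [h1, h1]
      have : ∀ a : F4, om1 (om1 a) = fm a (om1 (om1 (1, 0))) := by decide
      exact this _
  have hsame : ∀ i, f (Pi.single i (1, 0)) i = f (Pi.single 0 (1, 0)) 0 := by
    intro i
    by_cases hi : i = 0
    · subst hi; rfl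
    obtain ⟨σ, hσ, hσ3, hσi⟩ := (by decide +kernel : ∀ i : Fin 6, i ≠ 0 → ∃ σ : Equiv.Perm (Fin 6),
      Equiv.Perm.sign σ = 1 ∧ σ ^ 3 = 1 ∧ σ i = 0) i hi
    have h1 := congrFun (hperm σ hσ hσ3 (Pi.single 0 (1, 0))) i
    have e : perm σ (Pi.single 0 (1, 0) : V) = Pi.single i (1, 0) := funext fun k => by
      by_cases hk : k = i
      · subst hk; simp [perm, hσi]
      · have : σ k ≠ 0 := fun e => hk (σ.injective (e.trans hσi.symm))
        simp [perm, this, hk]
    rw [e] at h1
    rw [h1]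
    simp [perm, hσi]
  refine ⟨f (Pi.single 0 (1, 0)) 0, fun u => funext fun i => ?_⟩
  let φ : V →+ V := AddMonoidHom.mk' f hadd
  have hu : u = ∑ j, Pi.single j (u j) := (Finset.univ_sum_single u).symm
  conv_lhs => rw [hu, show f (∑ j, Pi.single j (u j)) = ∑ j, f (Pi.single j (u j)) from map_sum φ _ _, Finset.sum_apply]
  rw [Finset.sum_eq_single i (fun j _ hj => hsupp j i _ hj) (by simp), hsmul, hsame]
  rfl

namespace Frame

variable {G : Type*} [Group G] {z : G} {Q : Subgroup G} (F : Frame z Q)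

/-- Elements of a normal image of order three are powers of the scalar. -/
theorem scalar_of_normal {W : Subgroup (Equiv.Perm V)} (hW : Nat.card W = 3)
    (hr : W ≤ F.permHom.range) (hn : ∀ h, ∀ f ∈ W, F.permHom h * f * (F.permHom h)⁻¹ ∈ W) {f : Equiv.Perm V}
    (hf : f ∈ W) : (∀ u, f u = u) ∨ (∀ u, f u = om u) ∨ (∀ u, f u = om (om u)) := by
  classical
  haveI : Fact (Nat.Prime 3) := ⟨Nat.prime_three⟩
  by_cases hf1 : f = 1
  · left; intro u; rw [hf1]; rfl
  have hf3 : f ^ 3 = 1 := by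
    have := pow_card_eq_one' (x := (⟨f, hf⟩ : W))
    rw [hW] at this
    exact congrArg Subtype.val this
  have hcases : ∀ w ∈ W, w = 1 ∨ w = f ∨ w = f⁻¹ := by
    intro w hw
    have hgen := zpowers_eq_top_of_prime_card (g := (⟨f, hf⟩ : W)) hW (fun e => hf1 (congrArg Subtype.val e))
    obtain ⟨k, hk⟩ := Subgroup.mem_zpowers_iff.1 (hgen ▸ Subgroup.mem_top (⟨w, hw⟩ : W))
    have hk' : f ^ k = w := by rw [← Subgroup.coe_zpow _ (⟨f, hf⟩ : W) k, hk]
    rw [← hk']
    have h3 : f ^ k = f ^ (k % 3) := by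
      conv_lhs => rw [← Int.mul_ediv_add_emod k 3, zpow_add, zpow_mul]
      rw [show f ^ (3 : ℤ) = 1 from hf3, one_zpow, one_mul]
    rcases (by omega : k % 3 = 0 ∨ k % 3 = 1 ∨ k % 3 = 2) with e | e | e <;> rw [h3, e]
    · simp
    · simp
    · right; right
      apply eq_inv_of_mul_eq_one_left
      rw [show (2 : ℤ) = ((2 : ℕ) : ℤ) from rfl, zpow_natCast, ← pow_succ, hf3]
  have hcomm : ∀ h : Subgroup.centralizer ({z} : Set G), F.permHom h ^ 3 = 1 → F.permHom h * f = f * F.permHom h := by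
    intro h h3
    set p := F.permHom h
    rcases hcases _ (hn h f hf) with e | e | e
    · exact absurd (conj_eq_one_iff.1 e) hf1
    · exact mul_inv_eq_iff_eq_mul.1 e
    · exfalso
      have h1 : p * p * p * f * (p * p * p)⁻¹ = f⁻¹ := by
        rw [show p * p * p * f * (p * p * p)⁻¹ = p * (p * (p * f * p⁻¹) * p⁻¹) * p⁻¹ by group, e]
        rw [show p * (p * f⁻¹ * p⁻¹) * p⁻¹ = p * (p * f * p⁻¹)⁻¹ * p⁻¹ by group, e, inv_inv, e]
      rw [← pow_three' , h3] at h1
      simp only [one_mul, inv_one, mul_one] at h1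
      apply hf1
      have h2 : f ^ 2 = 1 := by rw [pow_two]; nth_rw 2 [h1]; exact mul_inv_cancel f
      rw [pow_succ, h2, one_mul] at hf3
      exact hf3
  obtain ⟨h0, rfl⟩ := hr hf
  have hc0 : Commute (h0 : G) z := Subgroup.mem_centralizer_singleton_iff.1 h0.2
  obtain ⟨c, hc⟩ := scalar_of_commute (F.pi (h0 : G)) (fun u w => F.pi_add hc0 u w)
    (fun σ hσ hσ3 u => by
      obtain ⟨h, hh, e⟩ := F.perm_mem σ hσ
      set h' : Subgroup.centralizer ({z} : Set G) := ⟨h, Subgroup.mem_centralizer_singleton_iff.2 hh⟩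
      have hc := hcomm h' (Equiv.ext fun w => by
        rw [pow_three', Equiv.Perm.mul_apply, Equiv.Perm.mul_apply]
        show F.pi h (F.pi h (F.pi h w)) = w
        rw [e, e, e]
        funext i
        simp only [perm]
        have := congrArg (fun p : Equiv.Perm (Fin 6) => p i) hσ3
        simp only [pow_three', Equiv.Perm.mul_apply, Equiv.Perm.one_apply] at this
        rw [this])
      have := congrArg (fun p : Equiv.Perm V => p u) hc
      simp only [Equiv.Perm.mul_apply, permHom_apply] at this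
      rw [← e, ← e]; exact this.symm)
    (fun a ha u => by
      obtain ⟨h, hh, e⟩ := F.diag_mem a ha
      set h' : Subgroup.centralizer ({z} : Set G) := ⟨h, Subgroup.mem_centralizer_singleton_iff.2 hh⟩
      have hc := hcomm h' (Equiv.ext fun w => by
        rw [pow_three', Equiv.Perm.mul_apply, Equiv.Perm.mul_apply]
        show F.pi h (F.pi h (F.pi h w)) = w
        rw [e, e, e, diag_diag, diag_diag]
        convert diag_zero w using 2
        funext i
        simp only [Pi.add_apply, Pi.zero_apply]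
        exact zmod3_triple _)
      have := congrArg (fun p : Equiv.Perm V => p u) hc
      simp only [Equiv.Perm.mul_apply, permHom_apply] at this
      rw [← e, ← e]; exact this.symm)
  have hne : c ≠ 0 := fun e => by
    have h1 : F.pi (h0 : G) one6 = 0 := by
      rw [hc, e]; decide
    exact one6_spec.2 (F.pi_injective hc0 (h1.trans (F.pi_zero hc0).symm))
  have hsc : ∀ u, sc (0, 1) u = om u ∧ sc (1, 1) u = om (om u) := fun u => by
    constructor <;> funext i
    · have : ∀ y, fm (0, 1) y = om1 y := by decide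
      exact this _
    · have : ∀ y, fm (1, 1) y = om1 (om1 y) := by decide
      exact this _
  by_cases h10 : c = (1, 0)
  · exact absurd (Equiv.ext fun u => by
      rw [permHom_apply, hc, h10, sc_one]; rfl) hf1
  rcases three_cube c hne h10 with rfl | rfl
  · exact Or.inr (Or.inl fun u => by rw [permHom_apply, hc, (hsc u).1])
  · exact Or.inr (Or.inr fun u => by rw [permHom_apply, hc, (hsc u).2])

/-- An element of order three acting as the scalar. -/
structure Scalar (x : G) : Prop where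
  comm : Commute x z
  cube : x ^ 3 = 1
  act : ∀ u, F.pi x u = om u

variable {F} {x : G} (hx : F.Scalar x)
include hx

theorem Scalar.fixed_mem {a : G} (ha : a ∈ Q) (hc : Commute x a) : a = 1 ∨ a = z := by
  refine (F.mu_eq_zero a ha).1 (om_eq_self ?_)
  rw [← hx.act, ← F.pi_mu x hx.comm a ha, hc.eq, mul_inv_cancel_right]

theorem Scalar.lin_of_comm {h : G} (hh : Commute h z) (hc : Commute h x) : F.Lin h := fun u => by
  rw [← hx.act, ← hx.act, ← F.pi_mul hh hx.comm, hc.eq, F.pi_mul hx.comm hh]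

/-- A conjugate of `x` in its coset is conjugate by an element of `Q`. -/
theorem Scalar.exists_lift {h : G} (hh : Commute h z) (hl : F.Lin h) :
    ∃ q ∈ Q, Commute (q * h) x := by
  set q0 := h * x * h⁻¹ * x⁻¹ with hq0
  have hq0Q : q0 ∈ Q := F.faithful _ (((hh.mul_left hx.comm).mul_left hh.inv_left).mul_left hx.comm.inv_left) fun u => by
    have e : ∀ u, F.pi x⁻¹ u = om (om u) := fun u => by
      refine F.pi_injective hx.comm ?_
      rw [← F.pi_mul hx.comm hx.comm.inv_left, mul_inv_cancel, F.pi_one, hx.act, om_cube]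
    rw [hq0, F.pi_mul ((hh.mul_left hx.comm).mul_left hh.inv_left) hx.comm.inv_left,
      F.pi_mul (hh.mul_left hx.comm) hh.inv_left, F.pi_mul hh hx.comm, hx.act, e]
    rw [hl, F.lin_inv hh hl, F.lin_inv hh hl]
    have h2 : F.pi h (F.pi h⁻¹ u) = u := by
      have := F.pi_inv_apply hh.inv_left u
      rwa [inv_inv] at this
    rw [F.lin_om2 hl, h2, om_cube]
  have hcube : (q0 * x) ^ 3 = 1 := by
    rw [show q0 * x = h * x * h⁻¹ by rw [hq0]; group, conj_pow, hx.cube]; group
  obtain ⟨q, hq, hmq⟩ := F.mu_surj (om (F.mu q0))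
  set q1 := q * x * q⁻¹ * x⁻¹ with hq1
  have hxq : x * q⁻¹ * x⁻¹ ∈ Q := F.normal x hx.comm _ (inv_mem hq)
  have hq1e : q1 = q * (x * q⁻¹ * x⁻¹) := by rw [hq1]; group
  have hq1Q : q1 ∈ Q := by rw [hq1e]; exact mul_mem hq hxq
  have hm : F.mu q1 = F.mu q0 := by
    rw [hq1e, F.mu_mul q hq _ hxq, F.pi_mu x hx.comm _ (inv_mem hq), hx.act, F.mu_inv hq, one_add_om, hmq, om_cube]
  have hq1c : (q1 * x) ^ 3 = 1 := by
    rw [show q1 * x = q * x * q⁻¹ by rw [hq1]; group, conj_pow, hx.cube]; group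
  have he : q0 * x = q1 * x := by
    rcases (F.mu_eq_iff hq0Q hq1Q).1 hm.symm with e | e
    · rw [e]
    · exfalso
      rw [e, show q1 * z * x = q1 * x * z by rw [mul_assoc, hx.comm.symm.eq, ← mul_assoc],
        ((F.le_cent q1 hq1Q).mul_left hx.comm).mul_pow, hq1c, one_mul, pow_succ, pow_two, F.z_sq, one_mul] at hcube
      exact F.z_ne hcube
  rw [show q0 * x = h * x * h⁻¹ by rw [hq0]; group, show q1 * x = q * x * q⁻¹ by rw [hq1]; group] at he
  refine ⟨q⁻¹, inv_mem hq, ?_⟩
  have h2 : q⁻¹ * h * x * (q⁻¹ * h)⁻¹ = x := by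
    rw [show q⁻¹ * h * x * (q⁻¹ * h)⁻¹ = q⁻¹ * (h * x * h⁻¹) * q by group, he]; group
  exact mul_inv_eq_iff_eq_mul.1 h2

/-- An element centralising `x` centralises every member of `Q` whose vector it fixes. -/
theorem Scalar.comm_of_fixed {y a : G} (hy : Commute y z) (hyx : Commute y x) (ha : a ∈ Q)
    (hfix : F.pi y (F.mu a) = F.mu a) : Commute y a := by
  have h1 : F.mu (y * a * y⁻¹) = F.mu a := by rw [F.pi_mu y hy a ha, hfix]
  rcases (F.mu_eq_iff (F.normal y hy a ha) ha).1 h1 with e | e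
  · exact mul_inv_eq_iff_eq_mul.1 e
  exfalso
  set a' := x * a * x⁻¹ with ha'
  set a'' := x * a' * x⁻¹ with ha''
  have hxc : x * z * x⁻¹ = z := by rw [hx.comm.eq, mul_inv_cancel_right]
  have hyxe : ∀ b, y * (x * b * x⁻¹) * y⁻¹ = x * (y * b * y⁻¹) * x⁻¹ := fun b => by
    rw [show y * (x * b * x⁻¹) * y⁻¹ = (y * x) * b * (y * x)⁻¹ by group, hyx.eq]; group
  have e' : y * a' * y⁻¹ = a' * z := by
    rw [ha', hyxe, e, show x * (a * z) * x⁻¹ = (x * a * x⁻¹) * (x * z * x⁻¹) by group, hxc]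
  have e'' : y * a'' * y⁻¹ = a'' * z := by
    rw [ha'', hyxe, e', show x * (a' * z) * x⁻¹ = (x * a' * x⁻¹) * (x * z * x⁻¹) by group, hxc]
  have ha'Q : a' ∈ Q := F.normal x hx.comm a ha
  have ha''Q : a'' ∈ Q := F.normal x hx.comm a' ha'Q
  set p := a * a' * a'' with hp
  have hpQ : p ∈ Q := mul_mem (mul_mem ha ha'Q) ha''Q
  have hmp : F.mu p = 0 := by
    rw [hp, F.mu_mul _ (mul_mem ha ha'Q) _ ha''Q, F.mu_mul a ha a' ha'Q, ha'', F.pi_mu x hx.comm a' ha'Q, ha',
      F.pi_mu x hx.comm a ha, hx.act, hx.act, one_add_om, add_self]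
  have hyp : Commute y p := by
    rcases (F.mu_eq_zero p hpQ).1 hmp with h | h <;> rw [h]
    exacts [Commute.one_right y, hy]
  have h3 : y * p * y⁻¹ = p * z := by
    have hz2 : ∀ b ∈ Q, Commute b z := F.le_cent
    rw [hp, show y * (a * a' * a'') * y⁻¹ = (y * a * y⁻¹) * (y * a' * y⁻¹) * (y * a'' * y⁻¹) by group, e, e', e'',
      show a * z * (a' * z) = a * (z * a') * z by group, ← (hz2 a' ha'Q).eq,
      show a * (a' * z) * z * (a'' * z) = a * a' * (z * z) * a'' * z by group, F.z_sq, mul_one]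
  rw [hyp.eq, mul_inv_cancel_right] at h3
  exact F.z_ne (left_eq_mul.1 h3)

end Frame

end Cfsg.Agent.LFType23
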