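import Cfsg.Agent.LFType23.Coord

/-!
An isometry of order seven commuting with `ω` has no nonzero fixed vector.
-/
set_option autoImplicit false

namespace Cfsg.Agent.LFType23

/-- The character sum of the form over a finite set of vectors. -/
def csum (S : Finset V) : ℤ := ∑ u ∈ S, if qf u = 0 then 1 else -1

theorem qf_sum_V : csum Finset.univ = 64 := by
  have h1 : (Finset.univ.filter fun u : V => qf u = 0).card = 2080 := by decide +kernel
  have h2 : (Finset.univ.filter fun u : V => ¬ qf u = 0).card = 2016 := by decide +kernel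
  rw [csum, Finset.sum_ite, Finset.sum_const, Finset.sum_const, h1, h2]
  norm_num

theorem seven_card {A : Finset V} {g : V → V} (hg : g^[7] = id) (hA : ∀ u ∈ A, g u ∈ A)
    (hfix : ∀ u ∈ A, g u = u → u = 0) :
    A.card ≡ (if (0 : V) ∈ A ∧ g 0 = 0 then 1 else 0) [MOD 7] := by
  classical
  let f : A → A := fun u => ⟨g u, hA u u.2⟩
  have hf : f^[7] = id := by
    funext u; apply Subtype.ext
    simp only [id]
    show g (g (g (g (g (g (g u)))))) = (u : V)
    exact congrFun hg u
  have hff : ∀ u, f (f (f (f (f (f (f u)))))) = u := fun u => congrFun hf u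
  have : Fact (Nat.Prime 7) := ⟨by norm_num⟩
  have h := Equiv.Perm.card_fixedPoints_modEq (α := ↥A) (p := 7) (n := 1) (f := f)
    (by rw [pow_one]; exact hf)
  rw [Fintype.card_coe] at h
  refine h.trans ?_
  have hz : ∀ u : A, f u = u → (u : V) = 0 := fun u hu => hfix u u.2 (congrArg Subtype.val hu)
  split_ifs with h0
  · rw [(Fintype.card_eq_one_iff (α := ↑(Function.fixedPoints f))).2
      ⟨⟨⟨0, h0.1⟩, Subtype.ext h0.2⟩, fun u => Subtype.ext (Subtype.ext (hz u.1 u.2))⟩]
  · rw [(Fintype.card_eq_zero_iff (α := ↑(Function.fixedPoints f))).2 ⟨fun u => h0 ?_⟩]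
    have h1 := hz u.1 u.2
    exact ⟨h1 ▸ u.1.2, h1 ▸ congrArg Subtype.val u.2⟩

theorem three_card {A : Finset V} (hA : ∀ u ∈ A, om u ∈ A) :
    A.card ≡ (if (0 : V) ∈ A then 1 else 0) [MOD 3] := by
  classical
  let e : Equiv.Perm A :=
    { toFun := fun u => ⟨om u, hA u u.2⟩
      invFun := fun u => ⟨om (om u), hA _ (hA u u.2)⟩
      left_inv := fun u => Subtype.ext (om_cube _)
      right_inv := fun u => Subtype.ext (om_cube _) }
  have : Fact (Nat.Prime 3) := ⟨by norm_num⟩
  have h := Equiv.Perm.card_fixedPoints_modEq (α := ↥A) (p := 3) (n := 1) (f := ⇑e)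
    (by rw [pow_one]; exact funext fun u => Subtype.ext (om_cube _))
  rw [Fintype.card_coe] at h
  refine h.trans ?_
  have hz : ∀ u : A, e u = u → (u : V) = 0 := fun u hu => om_eq_self (congrArg Subtype.val hu)
  split_ifs with h0
  · have h0om : om 0 = 0 := by decide
    rw [(Fintype.card_eq_one_iff (α := ↑(Function.fixedPoints ⇑e))).2
      ⟨⟨⟨0, h0⟩, Subtype.ext h0om⟩, fun u => Subtype.ext (Subtype.ext (hz u.1 u.2))⟩]
  · rw [(Fintype.card_eq_zero_iff (α := ↑(Function.fixedPoints ⇑e))).2 ⟨fun u => h0 ?_⟩]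
    exact hz u.1 u.2 ▸ u.1.2

variable {g : V → V} (hadd : ∀ u w, g (u + w) = g u + g w) (h7 : g^[7] = id)

/-- The sum over an orbit. -/
def avg7 (g : V → V) (u : V) : V :=
  u + g u + g (g u) + g (g (g u)) + g (g (g (g u))) + g (g (g (g (g u)))) +
    g (g (g (g (g (g u)))))

include hadd h7 in
theorem g_avg (u : V) : g (avg7 g u) = avg7 g u := by
  have h : g (g (g (g (g (g (g u)))))) = u := congrFun h7 u
  simp only [avg7, hadd, h]
  abel

theorem seven_nsmul (u : V) : u + u + u + u + u + u + u = u := by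
  rw [add_self, zero_add, add_self, zero_add, add_self, zero_add]

include hadd in
theorem avg_add (u w : V) : avg7 g (u + w) = avg7 g u + avg7 g w := by
  simp only [avg7, hadd]; abel

theorem avg_of_fixed {u : V} (h : g u = u) : avg7 g u = u := by
  simp only [avg7, h, seven_nsmul]

include hadd h7 in
theorem no_fixed_seven (hne : g ≠ id) (hq : ∀ u, qf (g u) = qf u) (hom : ∀ u, g (om u) = om (g u))
    {u : V} (hu : g u = u) : u = 0 := by
  classical
  have g0 : g 0 = 0 := by
    have := hadd 0 0; rw [add_zero, add_self] at this; exact this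
  have gb : ∀ a b, bf (g a) (g b) = bf a b := fun a b => by
    have h1 := qf_add (g a) (g b)
    rw [← hadd, hq, hq, hq, qf_add] at h1
    exact (add_left_cancel h1).symm
  set Fs : Finset V := Finset.univ.filter fun w => g w = w with hFs
  set Ks : Finset V := Finset.univ.filter fun w => avg7 g w = 0 with hKs
  have orth : ∀ a ∈ Fs, ∀ b ∈ Ks, bf a b = 0 := by
    intro a ha b hb
    simp only [hFs, hKs, Finset.mem_filter, Finset.mem_univ, true_and] at ha hb
    have step : ∀ w, bf a (g w) = bf a w := fun w => by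
      conv_lhs => rw [← ha]
      exact gb a w
    have : bf a (avg7 g b) = bf a b + bf a b + bf a b + bf a b + bf a b + bf a b + bf a b := by
      simp only [avg7, bf_add_right, step]
    rw [hb, bf_comm, bf_zero_left] at this
    generalize bf a b = x at this ⊢
    revert this; revert x; decide
  have split : Finset.image (fun p : V × V => p.1 + p.2) (Fs ×ˢ Ks) = Finset.univ := by
    refine Finset.eq_univ_of_forall fun w => Finset.mem_image.2 ⟨(avg7 g w, w + avg7 g w), ?_, ?_⟩
    · simp only [Finset.mem_product, hFs, hKs, Finset.mem_filter, Finset.mem_univ, true_and]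
      exact ⟨g_avg hadd h7 w, by rw [avg_add hadd, avg_of_fixed (g_avg hadd h7 w), add_self]⟩
    · show avg7 g w + (w + avg7 g w) = w
      rw [add_left_comm, add_self, add_zero]
  have inj : Set.InjOn (fun p : V × V => p.1 + p.2) (Fs ×ˢ Ks : Finset _) := by
    rintro ⟨a, b⟩ hab ⟨c, d⟩ hcd e
    simp only [Finset.coe_product, Set.mem_prod, Finset.mem_coe, hFs, hKs, Finset.mem_filter,
      Finset.mem_univ, true_and] at hab hcd
    have := congrArg (avg7 g) e
    simp only [avg_add hadd, avg_of_fixed hab.1, avg_of_fixed hcd.1, hab.2, hcd.2, add_zero] at this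
    subst this
    exact Prod.ext rfl (add_left_cancel e)
  have hcard : Fs.card * Ks.card = 4096 := by
    rw [← Finset.card_product, ← Finset.card_image_of_injOn inj, split]
    simp
  have hsum : csum Fs * csum Ks = 64 := by
    rw [← qf_sum_V, csum, csum, csum, Finset.sum_mul_sum, ← Finset.sum_product', ← split,
      Finset.sum_image inj]
    refine Finset.sum_congr rfl ?_
    rintro ⟨a, b⟩ hab
    rw [Finset.mem_product] at hab
    simp only [qf_add, orth a hab.1 b hab.2, add_zero]
    generalize qf a = x; generalize qf b = y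
    revert x y; decide
  have gK : ∀ w ∈ Ks, g w ∈ Ks := by
    intro w hw
    simp only [hKs, Finset.mem_filter, Finset.mem_univ, true_and] at hw ⊢
    have h : g (avg7 g w) = avg7 g (g w) := by simp only [avg7, hadd]
    rw [← h, hw, g0]
  have oK : ∀ w ∈ Ks, om w ∈ Ks := by
    intro w hw
    simp only [hKs, Finset.mem_filter, Finset.mem_univ, true_and] at hw ⊢
    have h : avg7 g (om w) = om (avg7 g w) := by simp only [avg7, hom, om_add]
    rw [h, hw]; decide
  have fixK : ∀ w ∈ Ks, g w = w → w = 0 := by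
    intro w hw hgw
    simp only [hKs, Finset.mem_filter, Finset.mem_univ, true_and, avg_of_fixed hgw] at hw
    exact hw
  have z0 : (0 : V) ∈ Ks := by
    simp only [hKs, Finset.mem_filter, Finset.mem_univ, true_and, avg_of_fixed g0]
  have k7 := seven_card h7 gK fixK
  have k3 := three_card oK
  rw [if_pos ⟨z0, g0⟩] at k7
  rw [if_pos z0] at k3
  by_contra hu0
  have hF2 : 1 < Fs.card := Finset.one_lt_card.2 ⟨0, by simp [hFs, g0], u, by simp [hFs, hu], Ne.symm hu0⟩
  have hK1 : Ks.card ≠ 1 := by
    intro h1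
    obtain ⟨w0, hw0⟩ := Finset.card_eq_one.1 h1
    refine hne (funext fun w => ?_)
    have hm : w + avg7 g w ∈ Ks := by
      simp only [hKs, Finset.mem_filter, Finset.mem_univ, true_and]
      rw [avg_add hadd, avg_of_fixed (g_avg hadd h7 w), add_self]
    rw [hw0, Finset.mem_singleton] at hm z0
    rw [← z0] at hm
    have : avg7 g w = w := by
      rw [← zero_add (avg7 g w), ← add_self w, add_assoc, hm, add_zero]
    conv_lhs => rw [← this, g_avg hadd h7 w, this]
    rfl
  have hK64 : Ks.card = 64 := by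
    have hd : Ks.card ∈ Nat.divisors (2 ^ 12) := Nat.mem_divisors.2 ⟨⟨Fs.card, by rw [← mul_comm] at hcard; omega⟩, by norm_num⟩
    rw [Nat.divisors_prime_pow Nat.prime_two, Finset.mem_map] at hd
    obtain ⟨n, hn, e⟩ := hd
    rw [Finset.mem_range] at hn
    change 2 ^ n = Ks.card at e
    rw [← e] at k7 k3 hK1 hcard ⊢
    rw [Nat.ModEq] at k7 k3
    have hnum : ∀ m : Fin 13, 2 ^ (m : ℕ) % 7 = 1 % 7 → 2 ^ (m : ℕ) % 3 = 1 % 3 →
        2 ^ (m : ℕ) ≠ 1 → 2 ^ (m : ℕ) ≠ 4096 → 2 ^ (m : ℕ) = 64 := by decide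
    refine hnum ⟨n, hn⟩ k7 k3 hK1 fun h4 => ?_
    simp only at h4
    rw [h4] at hcard
    omega
  set A0 := Ks.filter fun w => qf w = 0 with hA0
  set A1 := Ks.filter fun w => ¬ qf w = 0 with hA1
  have hs : csum Ks = (A0.card : ℤ) - A1.card := by
    rw [csum, Finset.sum_ite, Finset.sum_const, Finset.sum_const]
    simp [hA0, hA1]; ring
  have htot : A0.card + A1.card = 64 := by rw [← hK64]; exact Finset.card_filter_add_card_filter_not _
  have a7 := seven_card (A := A1) h7 (fun w hw => by
    rw [hA1, Finset.mem_filter] at hw ⊢; exact ⟨gK w hw.1, by rw [hq]; exact hw.2⟩)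
    (fun w hw => by rw [hA1, Finset.mem_filter] at hw; exact fixK w hw.1)
  have a3 := three_card (A := A1) (fun w hw => by
    rw [hA1, Finset.mem_filter] at hw ⊢; exact ⟨oK w hw.1, by rw [qf_om]; exact hw.2⟩)
  have n0 : (0 : V) ∉ A1 := by simp [hA1, qf_zero]
  rw [if_neg (fun h => n0 h.1), Nat.ModEq] at a7
  rw [if_neg n0, Nat.ModEq] at a3
  have hdvd : csum Ks ∣ 64 := ⟨csum Fs, by rw [← hsum, mul_comm]⟩
  rw [hs] at hdvd
  have hA10 : A1.card = 0 := by
    have hb : A1.card < 65 := by omega
    obtain ⟨m, hm⟩ : ∃ m, A1.card = 21 * m := ⟨A1.card / 21, by omega⟩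
    have : m ≤ 3 := by omega
    interval_cases m
    · omega
    all_goals
      rw [show ((A0.card : ℤ)) = 64 - A1.card by omega, hm] at hdvd
      norm_num at hdvd
  have hallK : ∀ w ∈ Ks, qf w = 0 := fun w hw => by
    by_contra h
    exact Finset.notMem_empty w (Finset.card_eq_zero.1 hA10 ▸ Finset.mem_filter.2 ⟨hw, h⟩)
  obtain ⟨k, hk, hk0⟩ := Finset.exists_mem_ne (by omega : 1 < Ks.card) (0 : V)
  refine hk0 (bf_nondeg fun w => ?_)
  obtain ⟨⟨a, b⟩, hab, rfl⟩ := Finset.mem_image.1 (split ▸ Finset.mem_univ w)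
  rw [Finset.mem_product] at hab
  have hkb : k + b ∈ Ks := by
    have hb := hab.2
    simp only [hKs, Finset.mem_filter, Finset.mem_univ, true_and] at hk hb ⊢
    rw [avg_add hadd, hk, hb, add_zero]
  have h2 := qf_add k b
  rw [hallK _ hkb, hallK _ hk, hallK _ hab.2, zero_add, zero_add] at h2
  show bf k (a + b) = 0
  rw [bf_add_right, bf_comm k a, orth a hab.1 k hk, zero_add, ← h2]

end Cfsg.Agent.LFType23
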