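import Cfsg.Agent.LFType23.Coord

/-!
Monomial coordinates for an elementary abelian group of order 243 acting on a space of order 4096
with a perfect group of monomial symmetries.
-/
set_option autoImplicit false

namespace Cfsg.Agent.LFType23

/-- Index vectors. -/
abbrev PV := Fin 5 → ZMod 3

/-- The pairing of index vectors. -/
def dt (f p : PV) : ZMod 3 := ∑ i, f i * p i

/-- Functionals whose first nonzero coordinate is one. -/
def normd : Finset PV :=
  Finset.univ.filter fun f => ∃ i, f i = 1 ∧ ∀ j, j < i → f j = 0

theorem dt_add (f p q : PV) : dt f (p + q) = dt f p + dt f q := by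
  simp [dt, mul_add, Finset.sum_add_distrib]

theorem dt_smul (f p : PV) (c : ZMod 3) : dt f (c • p) = c * dt f p := by
  simp [dt, Finset.mul_sum, mul_left_comm]

theorem dt_single (f : PV) (i : Fin 5) : dt f (Pi.single i 1) = f i := by
  simp [dt, Finset.sum_eq_single i, Pi.single_apply]

theorem exists_dt_ne {f : PV} (hf : f ∈ normd) : ∃ p, dt f p = 1 := by
  obtain ⟨i, hi, -⟩ := (Finset.mem_filter.1 hf).2
  exact ⟨Pi.single i 1, by rw [dt_single, hi]⟩

theorem normd_count : ∀ p : PV, ((normd.filter fun f => dt f p = 0).card : ZMod 2) =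
    if p = 0 then 1 else 0 := by decide +kernel

theorem card_ker (f : PV) : ((Finset.univ.filter fun p => dt f p = 0).card : ZMod 2) = 1 := by
  revert f; decide +kernel

theorem normd_prop : ∀ f ∈ normd, ∀ g ∈ normd, (∀ i j, f i * g j = f j * g i) → f = g := by
  decide +kernel

theorem normd_sign : ∀ f : PV, f ≠ 0 → f ∈ normd ∨ -f ∈ normd := by decide +kernel

theorem normd_ker {f g : PV} (hf : f ∈ normd) (hg : g ∈ normd) (hne : f ≠ g) :
    ∃ p, dt f p = 0 ∧ dt g p ≠ 0 := by
  by_contra h
  push Not at h
  refine hne (normd_prop f hf g hg fun i j => ?_)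
  have e : dt f (f j • Pi.single i 1 + (-f i) • Pi.single j 1) = 0 := by
    rw [dt_add, dt_smul, dt_smul, dt_single, dt_single]; ring
  have := h _ e
  rw [dt_add, dt_smul, dt_smul, dt_single, dt_single] at this
  linear_combination -this

end Cfsg.Agent.LFType23
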