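import Cfsg.Agent.LFType23.Orbit
import Cfsg.Agent.TT95.K45.Graph

/-!
The stabiliser of a vector of the short orbit acts as the automorphism group of the graph of the 45
isotropic points of a four-dimensional unitary space over four elements (helper5).
-/
set_option autoImplicit false
set_option linter.unusedSectionVars false

namespace Cfsg.Agent.LFType23.StabSmall

open Cfsg.Agent.TT95.K45G

/-- The last four coordinates. -/
abbrev T := Fin 4 → F4

/-- A vector supported on the last four coordinates. -/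
def lift (w : T) : V := ![0, 0, w 0, w 1, w 2, w 3]

/-- The last four coordinates of a vector. -/
def tl (u : V) : T := ![u 2, u 3, u 4, u 5]

/-- Multiplication by a power of `ω`. -/
def rt (k : ZMod 3) (w : T) : T := fun i => rot k (w i)

/-- The quadratic form of the four coordinates. -/
def q4 (w : T) : ZMod 2 := nz (w 0) + nz (w 1) + nz (w 2) + nz (w 3)

/-- One term of the polar form. -/
def tm (a b : F4) : ZMod 2 := a.1 * b.2 + a.2 * b.1

/-- The polar form of the four coordinates. -/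
def b4 (w w' : T) : ZMod 2 := tm (w 0) (w' 0) + tm (w 1) (w' 1) + tm (w 2) (w' 2) + tm (w 3) (w' 3)

/-- Orthogonality for the Hermitian form. -/
def orth (x y : T) : Prop := b4 x y = 0 ∧ b4 x (rt 1 y) = 0

instance (x y : T) : Decidable (orth x y) := by unfold orth; infer_instance

/-- The first coordinate vector. -/
def ea : V := ![(1, 0), 0, 0, 0, 0, 0]

/-- The second coordinate vector. -/
def eb : V := ![0, (1, 0), 0, 0, 0, 0]

/-- The vector of the short orbit. -/
def v0 : V := ![(1, 0), (1, 0), 0, 0, 0, 0]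

/-- Coordinates of the points, two binary digits each. -/
def codes : List ℕ :=
  [80, 5, 85, 165, 245, 144, 208, 229, 181, 213, 101, 149, 117, 9, 249, 13, 173, 153, 105, 125, 221, 237,
   193, 196, 157, 33, 36, 89, 253, 233, 185, 109, 68, 65, 52, 49, 169, 93, 121, 217, 189, 129, 132, 17, 20]

/-- An element of the field from its code. -/
def f4 (n : ℕ) : F4 :=
  if n % 4 = 0 then 0 else if n % 4 = 1 then (1, 0) else if n % 4 = 2 then (0, 1) else (1, 1)

/-- The isotropic point of an index. -/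
def pt (i : Fin 45) : T := fun j => f4 (codes.getD i 0 / 4 ^ (j : ℕ))

theorem pt_iso : ∀ i : Fin 45, q4 (pt i) = 0 ∧ pt i ≠ 0 := by decide +kernel

theorem pt_cover : ∀ w : T, w ≠ 0 → q4 w = 0 → ∃ i k, rt k (pt i) = w := by decide +kernel

theorem pt_inj : ∀ (i j : Fin 45) (k : ZMod 3), rt k (pt i) = pt j → i = j := by decide +kernel

theorem pt_adj : ∀ i j : Fin 45, adj i j = decide (i ≠ j ∧ orth (pt i) (pt j)) := by decide +kernel

theorem tl_lift (w : T) : tl (lift w) = w := by funext i; fin_cases i <;> rfl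

theorem lift_add (w w' : T) : lift (w + w') = lift w + lift w' := by
  funext i; fin_cases i <;> simp [lift]

theorem tl_add (u u' : V) : tl (u + u') = tl u + tl u' := by funext i; fin_cases i <;> rfl

theorem om_lift (w : T) : om (lift w) = lift (rt 1 w) := by
  have h : ∀ a, om1 a = rot 1 a := by decide
  funext i; fin_cases i <;> simp [lift, om, rt, ← h] <;> rfl

theorem tl_om (u : V) : tl (om u) = rt 1 (tl u) := by
  have h : ∀ a, om1 a = rot 1 a := by decide
  funext i; fin_cases i <;> simp [tl, om, rt, ← h]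

theorem rt_rt (k l : ZMod 3) (w : T) : rt k (rt l w) = rt (k + l) w := funext fun _ => rot_rot _ _ _

theorem rt_zero (w : T) : rt 0 w = w := funext fun _ => rot_zero _

theorem rt_add (k : ZMod 3) (w w' : T) : rt k (w + w') = rt k w + rt k w' := funext fun _ => rot_add _ _ _

theorem rt_two (w : T) : rt 2 w = w + rt 1 w := funext fun i => by
  have h : ∀ a, rot 2 a = a + rot 1 a := by decide
  exact h (w i)

theorem tm_rot : ∀ a b, tm (rot 1 a) (rot 1 b) = tm a b := by decide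

theorem tm_comm (a b : F4) : tm a b = tm b a := by unfold tm; ring

theorem tm_add (a b b' : F4) : tm a (b + b') = tm a b + tm a b' := by
  simp only [tm, Prod.fst_add, Prod.snd_add]; ring

theorem b4_rt (x y : T) : b4 (rt 1 x) (rt 1 y) = b4 x y := by simp [b4, rt, tm_rot]

theorem b4_comm (x y : T) : b4 x y = b4 y x := by
  simp only [b4, tm_comm (x 0), tm_comm (x 1), tm_comm (x 2), tm_comm (x 3)]

theorem b4_add (x y y' : T) : b4 x (y + y') = b4 x y + b4 x y' := by
  simp only [b4, Pi.add_apply, tm_add]; ring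

theorem orth_rt_right {x y : T} (h : orth x y) (k : ZMod 3) : orth x (rt k y) := by
  have h1 : orth x (rt 1 y) := ⟨h.2, by
    rw [rt_rt, show (1 : ZMod 3) + 1 = 2 from rfl, rt_two, b4_add, h.1, h.2, add_zero]⟩
  have h2 : orth x (rt 2 y) := ⟨by rw [rt_two, b4_add, h.1, h.2, add_zero], by
    rw [rt_rt, show (1 : ZMod 3) + 2 = 0 from rfl, rt_zero, h.1]⟩
  have hk : ∀ k : ZMod 3, k = 0 ∨ k = 1 ∨ k = 2 := by decide
  rcases hk k with rfl | rfl | rfl
  · rwa [rt_zero]
  · exact h1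
  · exact h2

theorem orth_symm {x y : T} (h : orth x y) : orth y x := by
  refine ⟨by rw [b4_comm]; exact h.1, ?_⟩
  rw [← b4_rt, rt_rt, show (1 : ZMod 3) + 1 = 2 from rfl, rt_two, b4_add, b4_rt,
    b4_comm (rt 1 y), b4_comm y, h.1, h.2, add_zero]

theorem orth_rt_iff (x y : T) (k l : ZMod 3) : orth (rt k x) (rt l y) ↔ orth x y := by
  have aux : ∀ x y k l, orth x y → orth (rt k x) (rt l y) := fun x y k l h =>
    orth_rt_right (orth_symm (orth_rt_right (orth_symm h) k)) l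
  refine ⟨fun h => ?_, aux x y k l⟩
  have := aux _ _ (-k) (-l) h
  rwa [rt_rt, rt_rt, neg_add_cancel, neg_add_cancel, rt_zero, rt_zero] at this

theorem bf_v0 (x : V) : bf x v0 = (x 0 + x 1).2 := by
  simp [bf, Fin.sum_univ_six, v0]

theorem bf_om_v0 (x : V) : bf x (om v0) = (x 0 + x 1).1 := by
  simp [bf, Fin.sum_univ_six, v0, om, om1]

theorem bf_lift (x : V) (w : T) : bf x (lift w) = b4 (tl x) w := by
  simp [bf, b4, tm, tl, lift, Fin.sum_univ_six]

theorem bf_tl {u u' : V} (hu : u 0 = u 1) (hu' : u' 0 = u' 1) : bf u u' = b4 (tl u) (tl u') := by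
  simp only [bf, b4, tm, tl, Fin.sum_univ_six, hu, hu']
  rw [CharTwo.add_self_eq_zero, zero_add]
  rfl

theorem qf_tl {u : V} (hu : u 0 = u 1) : qf u = q4 (tl u) := by
  simp only [qf, q4, tl, Fin.sum_univ_six, hu]
  rw [CharTwo.add_self_eq_zero, zero_add]
  rfl

theorem decomp2 {u : V} (hu : u 0 = u 1) : u = lift (tl u) + sc (u 0) v0 := by
  have h1 : ∀ c : F4, fm c (1, 0) = c := by decide
  have h0 : ∀ c : F4, fm c 0 = 0 := by decide
  funext i; fin_cases i <;> simp [lift, tl, sc, v0, h1, h0, ← hu]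

theorem decomp6 (u : V) : u = lift (tl u) + sc (u 0) ea + sc (u 1) eb := by
  have h1 : ∀ c : F4, fm c (1, 0) = c := by decide
  have h0 : ∀ c : F4, fm c 0 = 0 := by decide
  funext i; simp only [Pi.add_apply]; fin_cases i <;> simp [lift, tl, sc, ea, eb, h1, h0]

/-- Pairs of nonzero entries generate the four coordinates. -/
theorem span_pairs {P : T → Prop} (hadd : ∀ w w', P w → P w' → P (w + w'))
    (hA : ∀ x y : F4, x ≠ 0 → y ≠ 0 → P ![x, y, 0, 0]) (hB : ∀ x y : F4, x ≠ 0 → y ≠ 0 → P ![0, 0, x, y])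
    (w : T) : P w := by
  have hs : ∀ x : F4, ∃ a b : F4, a ≠ 0 ∧ b ≠ 0 ∧ a + b = x := by decide
  have h2 : ∀ a : F4, a + a = 0 := by decide
  have one : ((1, 0) : F4) ≠ 0 := by decide
  obtain ⟨a, b, ha, hb, e0⟩ := hs (w 0)
  obtain ⟨a', b', ha', hb', e1⟩ := hs (w 1)
  obtain ⟨c, d, hc, hd, e2⟩ := hs (w 2)
  obtain ⟨c', d', hc', hd', e3⟩ := hs (w 3)
  have e : w = (![a, (1, 0), 0, 0] + ![b, (1, 0), 0, 0]) + (![(1, 0), a', 0, 0] + ![(1, 0), b', 0, 0]) +
      ((![0, 0, c, (1, 0)] + ![0, 0, d, (1, 0)]) + (![0, 0, (1, 0), c'] + ![0, 0, (1, 0), d'])) := by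
    funext i; fin_cases i <;> simp [e0, e1, e2, e3, h2]
  rw [e]
  exact hadd _ _ (hadd _ _ (hadd _ _ (hA _ _ ha one) (hA _ _ hb one)) (hadd _ _ (hA _ _ one ha') (hA _ _ one hb')))
    (hadd _ _ (hadd _ _ (hB _ _ hc one) (hB _ _ hd one)) (hadd _ _ (hB _ _ one hc') (hB _ _ one hd')))

theorem pair_iso : ∀ x y : F4, x ≠ 0 → y ≠ 0 → q4 ![x, y, 0, 0] = 0 ∧ ![x, y, 0, 0] ≠ (0 : T) ∧
    q4 ![0, 0, x, y] = 0 ∧ ![0, 0, x, y] ≠ (0 : T) ∧
    ∀ x' y' : F4, x' ≠ 0 → y' ≠ 0 →
      q4 (![x, y, 0, 0] + ![0, 0, x', y']) = 0 ∧ (![x, y, 0, 0] + ![0, 0, x', y']) ≠ (0 : T) := by decide +kernel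

theorem rot_inj : ∀ (a b : ZMod 3) (x : F4), x ≠ 0 → rot a x = rot b x → a = b := by decide

theorem pair_classes : ∀ (γ k : ZMod 3) (c x y : F4), x ≠ 0 → y ≠ 0 → c ≠ 0 →
    (¬ big γ (lift ![x, y, 0, 0]) ∧ big γ (lift (rt k ![x, y, 0, 0]) + sc c v0)) ∧
    (¬ big γ (lift ![0, 0, x, y]) ∧ big γ (lift (rt k ![0, 0, x, y]) + sc c v0)) := by decide +kernel

theorem pair_singular : ∀ x y : F4, x ≠ 0 → y ≠ 0 →
    (qf (lift ![x, y, 0, 0]) = 0 ∧ lift ![x, y, 0, 0] ≠ 0) ∧
    (qf (lift ![0, 0, x, y]) = 0 ∧ lift ![0, 0, x, y] ≠ 0) := by decide +kernel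

/-- A vector of weight six in the short orbit. -/
def six (γ : ZMod 3) : V :=
  ![(if γ = 0 then (1, 0) else if γ = 1 then (0, 1) else (1, 1)), (1, 0), (1, 0), (1, 0), (1, 0), (1, 0)]

theorem six_spec : ∀ γ : ZMod 3, qf (six γ) = 0 ∧ six γ ≠ 0 ∧ ¬ big γ (six γ) := by decide +kernel

theorem six_moved : ∀ γ k : ZMod 3, k ≠ 0 →
    big γ (lift (rt k (tl (six γ))) + sc (six γ 0) ea + sc (six γ 1) eb) ∧
    big γ (lift (rt k (tl (six γ))) + sc (six γ 0) eb + sc (six γ 1) ea) := by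
  decide +kernel

theorem short_sum : ∀ γ : ZMod 3, (∑ j : Fin 5,
    if decide (¬ big γ (Frame.rep j)) then (![135, 1215, 243, 243, 243] : Fin 5 → ℕ) j else 0) = 378 := by
  decide +kernel

section Action

variable {G : Type*} [Group G] {z : G} {Q : Subgroup G} (F : Frame z Q)

/-- The action on the four coordinates. -/
def act4 (h : G) (w : T) : T := tl (F.pi h (lift w))

variable {F}

theorem pi_sc {h : G} (hh : Commute h z) (hlin : ∀ u, F.pi h (om u) = om (F.pi h u)) (c : F4) (u : V) :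
    F.pi h (sc c u) = sc c (F.pi h u) := by
  rw [sc_eq, sc_eq, F.pi_add hh]
  split_ifs <;> simp [F.pi_zero hh, hlin]

theorem pi_om_v0 {h : G} (hh : h ∈ F.stab v0) :
    (F.pi h (om v0) = om v0 ∧ F.pi h (om (om v0)) = om (om v0)) ∨
      (F.pi h (om v0) = om (om v0) ∧ F.pi h (om (om v0)) = om v0) := by
  obtain ⟨hz, he⟩ := F.mem_stab.1 hh
  rcases F.lin_or h hz with e | e
  · exact Or.inl ⟨by rw [e, he], by rw [e, e, he]⟩
  · exact Or.inr ⟨by rw [e, he], by rw [e, e, he, om_cube]⟩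

theorem tl_pi_sc {h : G} (hh : h ∈ F.stab v0) (c : F4) : tl (F.pi h (sc c v0)) = 0 := by
  obtain ⟨hz, he⟩ := F.mem_stab.1 hh
  have t0 : tl (0 : V) = 0 := by decide
  have t1 : tl v0 = 0 := by decide
  have t2 : tl (om v0) = 0 ∧ tl (om (om v0)) = 0 := by decide
  rw [sc_eq, F.pi_add hz, tl_add]
  split_ifs <;> rcases pi_om_v0 hh with e | e <;> simp [F.pi_zero hz, t0, t1, t2, e, he]

theorem pi_lift_eq {h : G} (hh : h ∈ F.stab v0) (w : T) : F.pi h (lift w) 0 = F.pi h (lift w) 1 := by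
  obtain ⟨hz, he⟩ := F.mem_stab.1 hh
  have h0 : ∀ a b : F4, (a + b).2 = 0 → (a + b).1 = 0 → a = b := by decide
  refine h0 _ _ ?_ ?_
  · rw [← bf_v0]
    conv_lhs => rw [← he]
    rw [F.bf_pi hz, bf_v0]; simp [lift]
  · rw [← bf_om_v0]
    rcases pi_om_v0 hh with e | e
    · conv_lhs => rw [← e.1]
      rw [F.bf_pi hz, bf_om_v0]; simp [lift]
    · conv_lhs => rw [← e.2]
      rw [F.bf_pi hz, ← one_add_om, bf_add_right, bf_v0, bf_om_v0]; simp [lift]

theorem act4_add {h : G} (hh : h ∈ F.stab v0) (w w' : T) : act4 F h (w + w') = act4 F h w + act4 F h w' := by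
  rw [act4, lift_add, F.pi_add (F.mem_stab.1 hh).1, tl_add]; rfl

theorem act4_one (w : T) : act4 F 1 w = w := by rw [act4, F.pi_one, tl_lift]

theorem act4_mul {g h : G} (hg : g ∈ F.stab v0) (hh : h ∈ F.stab v0) (w : T) :
    act4 F (g * h) w = act4 F g (act4 F h w) := by
  rw [act4, F.pi_mul (F.mem_stab.1 hg).1 (F.mem_stab.1 hh).1, decomp2 (pi_lift_eq hh w),
    F.pi_add (F.mem_stab.1 hg).1, tl_add, tl_pi_sc hg, add_zero]
  rfl

theorem act4_rt {h : G} (hh : h ∈ F.stab v0) (k : ZMod 3) :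
    ∃ k', ∀ w, act4 F h (rt k w) = rt k' (act4 F h w) := by
  have h1 : ∃ e, ∀ w, act4 F h (rt 1 w) = rt e (act4 F h w) := by
    rcases F.lin_or h (F.mem_stab.1 hh).1 with e | e
    · exact ⟨1, fun w => by rw [act4, ← om_lift, e, tl_om]; rfl⟩
    · exact ⟨2, fun w => by rw [act4, ← om_lift, e, tl_om, tl_om, rt_rt]; rfl⟩
  obtain ⟨e, he⟩ := h1
  have hk : ∀ k : ZMod 3, k = 0 ∨ k = 1 ∨ k = 1 + 1 := by decide
  rcases hk k with rfl | rfl | rfl
  · exact ⟨0, fun w => by rw [rt_zero, rt_zero]⟩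
  · exact ⟨e, he⟩
  · exact ⟨e + e, fun w => by rw [← rt_rt, he, he, rt_rt]⟩

theorem q4_act4 {h : G} (hh : h ∈ F.stab v0) (w : T) : q4 (act4 F h w) = q4 w := by
  rw [act4, ← qf_tl (pi_lift_eq hh w), F.qf_pi (F.mem_stab.1 hh).1,
    qf_tl (show lift w 0 = lift w 1 from rfl), tl_lift]

theorem b4_act4 {h : G} (hh : h ∈ F.stab v0) (x y : T) : b4 (act4 F h x) (act4 F h y) = b4 x y := by
  rw [act4, act4, ← bf_tl (pi_lift_eq hh x) (pi_lift_eq hh y), F.bf_pi (F.mem_stab.1 hh).1,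
    bf_tl (show lift x 0 = lift x 1 from rfl) (show lift y 0 = lift y 1 from rfl), tl_lift, tl_lift]

theorem orth_act4 {h : G} (hh : h ∈ F.stab v0) {x y : T} (e : orth x y) :
    orth (act4 F h x) (act4 F h y) := by
  refine ⟨by rw [b4_act4 hh]; exact e.1, ?_⟩
  rcases F.lin_or h (F.mem_stab.1 hh).1 with l | l
  · rw [show rt 1 (act4 F h y) = act4 F h (rt 1 y) by rw [act4, act4, ← om_lift, l, tl_om], b4_act4 hh]
    exact e.2
  · rw [show rt 1 (act4 F h y) = act4 F h (rt 2 y) by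
      rw [show rt 2 y = rt 1 (rt 1 y) by rw [rt_rt]; rfl, act4, act4, ← om_lift, ← om_lift, l, l, om_cube, tl_om],
      b4_act4 hh]
    exact (orth_rt_right e 2).1

theorem exists_image {h : G} (hh : h ∈ F.stab v0) (i : Fin 45) :
    ∃ j k, act4 F h (pt i) = rt k (pt j) := by
  obtain ⟨j, k, e⟩ := pt_cover (act4 F h (pt i)) (fun e => (pt_iso i).2 (by
    have h1 := act4_mul (inv_mem hh) hh (pt i)
    rw [inv_mul_cancel, act4_one, e] at h1
    have h0 := act4_add (inv_mem hh) 0 0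
    rw [add_zero] at h0
    rw [h1, left_eq_add.1 h0])) (by rw [q4_act4 hh]; exact (pt_iso i).1)
  exact ⟨j, k, e.symm⟩

theorem image_unique {w : T} {i j : Fin 45} {k l : ZMod 3} (h1 : w = rt k (pt i)) (h2 : w = rt l (pt j)) :
    i = j := by
  refine pt_inj i j (-l + k) ?_
  rw [← rt_rt, ← h1, h2, rt_rt, neg_add_cancel, rt_zero]

variable (F)

theorem exists_pointHom : ∃ φ : F.stab v0 →* autGraph,
    ∀ (h : F.stab v0) (i : Fin 45), ∃ k, act4 F (h : G) (pt i) = rt k (pt ((φ h : Equiv.Perm (Fin 45)) i)) := by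
  choose f g hf using fun (h : F.stab v0) (i : Fin 45) => exists_image h.2 i
  have hone : ∀ i, f 1 i = i := fun i => image_unique (hf 1 i)
    (show act4 F ((1 : F.stab v0) : G) (pt i) = rt 0 (pt i) by rw [rt_zero]; exact act4_one _)
  have hmul : ∀ a b i, f (a * b) i = f a (f b i) := fun a b i => by
    obtain ⟨e, he⟩ := act4_rt a.2 (g b i)
    refine image_unique (hf (a * b) i) (l := e + g a (f b i)) ?_
    rw [Subgroup.coe_mul, act4_mul a.2 b.2, hf b i, he, hf a (f b i), rt_rt]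
  let P : F.stab v0 →* Equiv.Perm (Fin 45) :=
    { toFun := fun h => ⟨f h, f h⁻¹, fun i => by rw [← hmul, inv_mul_cancel, hone],
        fun i => by rw [← hmul, mul_inv_cancel, hone]⟩
      map_one' := Equiv.ext hone
      map_mul' := fun a b => Equiv.ext (hmul a b) }
  have hP : ∀ h, P h ∈ autGraph := fun h i j => by
    show adj (f h i) (f h j) = adj i j
    rw [pt_adj, pt_adj, decide_eq_decide]
    have hne : f h i ≠ f h j ↔ i ≠ j := not_congr ((P h).injective.eq_iff)
    rw [hne]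
    refine and_congr_right fun _ => ?_
    rw [← orth_rt_iff (pt (f h i)) (pt (f h j)) (g h i) (g h j), ← hf h i, ← hf h j]
    refine ⟨fun e => ?_, orth_act4 h.2⟩
    have := orth_act4 (h⁻¹).2 e
    rwa [← act4_mul (h⁻¹).2 h.2, ← act4_mul (h⁻¹).2 h.2, Subgroup.coe_inv, inv_mul_cancel, act4_one,
      act4_one] at this
  exact ⟨P.codRestrict autGraph hP, fun h i => ⟨g h i, hf h i⟩⟩

variable {F}

/-- An element fixing every point is the identity or exchanges the first two coordinates. -/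
theorem pi_of_fix_points {γ : ZMod 3} (hγ : F.Classes γ) {h : G} (hh : h ∈ F.stab v0)
    (hfix : ∀ i, ∃ k, act4 F h (pt i) = rt k (pt i)) :
    (∀ u, F.pi h u = u) ∨ ∀ u, F.pi h u = perm (Equiv.swap 0 1) u := by
  obtain ⟨hz, hv⟩ := F.mem_stab.1 hh
  have hiso : ∀ w : T, q4 w = 0 → w ≠ 0 → ∃ k, act4 F h w = rt k w := by
    intro w hw hw0
    obtain ⟨i, l, rfl⟩ := pt_cover w hw0 hw
    obtain ⟨k, hk⟩ := hfix i
    obtain ⟨l', hl'⟩ := act4_rt hh l
    exact ⟨l' + k - l, by rw [hl', hk, rt_rt, rt_rt, sub_add_cancel]⟩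
  have one : ((1, 0) : F4) ≠ 0 := by decide
  have hsame : ∀ x y x' y' : F4, x ≠ 0 → y ≠ 0 → x' ≠ 0 → y' ≠ 0 → ∀ a b,
      act4 F h ![x, y, 0, 0] = rt a ![x, y, 0, 0] → act4 F h ![0, 0, x', y'] = rt b ![0, 0, x', y'] → a = b := by
    intro x y x' y' hx hy hx' hy' a b ea eb
    obtain ⟨c, ec⟩ := hiso _ ((pair_iso x y hx hy).2.2.2.2 x' y' hx' hy').1
      ((pair_iso x y hx hy).2.2.2.2 x' y' hx' hy').2
    rw [act4_add hh, ea, eb] at ec
    have r0 : ∀ a : ZMod 3, rot a 0 = 0 := by decide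
    have e0 := congrFun ec 0
    have e2 := congrFun ec 2
    simp [rt, r0] at e0 e2
    exact (rot_inj _ _ _ hx e0).trans (rot_inj _ _ _ hx' e2).symm
  obtain ⟨k, hk⟩ := hiso _ (pair_iso (1, 0) (1, 0) one one).2.2.1 (pair_iso (1, 0) (1, 0) one one).2.2.2.1
  have hall : ∀ w, act4 F h w = rt k w := by
    refine span_pairs (fun w w' a b => by rw [act4_add hh, a, b, rt_add]) (fun x y hx hy => ?_) fun x y hx hy => ?_
    · obtain ⟨a, ha⟩ := hiso _ (pair_iso x y hx hy).1 (pair_iso x y hx hy).2.1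
      rw [← hsame x y _ _ hx hy one one a k ha hk]; exact ha
    · obtain ⟨b, hb⟩ := hiso _ (pair_iso x y hx hy).2.2.1 (pair_iso x y hx hy).2.2.2.1
      obtain ⟨a, ha⟩ := hiso _ (pair_iso (1, 0) (1, 0) one one).1 (pair_iso (1, 0) (1, 0) one one).2.1
      rw [← (hsame _ _ x y one one hx hy a b ha hb).symm.trans (hsame _ _ _ _ one one one one a k ha hk)]
      exact hb
  have hlin : ∀ u, F.pi h (om u) = om (F.pi h u) := by
    rcases F.lin_or h hz with e | e
    · exact e
    · exfalso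
      have e1 : act4 F h (rt 1 ![(1, 0), 0, 0, 0]) = rt 2 (act4 F h ![(1, 0), 0, 0, 0]) := by
        rw [act4, ← om_lift, e, tl_om, tl_om, rt_rt]; rfl
      rw [hall, hall] at e1
      revert e1; clear hk hall; revert k; decide
  -- no shift along the fixed vector
  have hlift : ∀ w, F.pi h (lift w) = lift (rt k w) := by
    have hdec : ∀ w, F.pi h (lift w) = lift (rt k w) + sc (F.pi h (lift w) 0) v0 := fun w => by
      conv_lhs => rw [decomp2 (pi_lift_eq hh w)]
      rw [show tl (F.pi h (lift w)) = rt k w from hall w]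
    have hs0 : ∀ u, sc 0 u = (0 : V) := fun u => by rw [sc_eq]; simp
    refine span_pairs (fun w w' a b => by rw [lift_add, F.pi_add hz, a, b, rt_add, lift_add]) (fun x y hx hy => ?_)
      fun x y hx hy => ?_
    · by_cases hc : F.pi h (lift ![x, y, 0, 0]) 0 = 0
      · conv_lhs => rw [hdec, hc, hs0, add_zero]
      · exfalso
        obtain ⟨⟨n, b⟩, -⟩ := pair_classes γ k _ x y hx hy hc
        rw [← hdec] at b
        obtain ⟨⟨q, q0⟩, -⟩ := pair_singular x y hx hy
        exact n (((hγ _ _ q q0 ((F.qf_pi hz _).trans q) (F.ne_zero_of_rel ⟨h, hz, rfl⟩ q0)).1 ⟨h, hz, rfl⟩).2 b)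
    · by_cases hc : F.pi h (lift ![0, 0, x, y]) 0 = 0
      · conv_lhs => rw [hdec, hc, hs0, add_zero]
      · exfalso
        obtain ⟨-, n, b⟩ := pair_classes γ k _ x y hx hy hc
        rw [← hdec] at b
        obtain ⟨-, q, q0⟩ := pair_singular x y hx hy
        exact n (((hγ _ _ q q0 ((F.qf_pi hz _).trans q) (F.ne_zero_of_rel ⟨h, hz, rfl⟩ q0)).1 ⟨h, hz, rfl⟩).2 b)
  set x := F.pi h ea with hx
  have htl : tl x = 0 := by
    have : lift (tl x) = 0 := bf_nondeg fun w => by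
      rw [bf_comm, bf_lift, b4_comm, ← bf_lift, show tl w = rt k (rt (-k) (tl w)) by
        rw [rt_rt, add_neg_cancel, rt_zero], ← hlift, hx, F.bf_pi hz, bf_lift]
      simp [b4, tm, tl, rt, ea]
    rw [← tl_lift (tl x), this]; decide
  have hx1 : x = ea ∨ x = eb := by
    have h2 : (x 0 + x 1).2 = 0 := by
      rw [← bf_v0]
      conv_lhs => rw [← hv, hx]
      rw [F.bf_pi hz, bf_v0]; simp [ea]
    have h1 : (x 0 + x 1).1 = 1 := by
      rw [← bf_om_v0]
      conv_lhs => rw [← show F.pi h (om v0) = om v0 by rw [hlin, hv], hx]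
      rw [F.bf_pi hz, bf_om_v0]; simp [ea]
    have hq : nz (x 0) + nz (x 1) = 1 := by
      have hqx : qf x = 1 := by rw [hx, F.qf_pi hz]; decide
      rw [qf, Fin.sum_univ_six] at hqx
      have e := fun i => congrFun htl i
      have e2 : x 2 = 0 := e 0
      have e3 : x 3 = 0 := e 1
      have e4 : x 4 = 0 := e 2
      have e5 : x 5 = 0 := e 3
      rw [e2, e3, e4, e5] at hqx
      simpa [nz] using hqx
    have key : ∀ a b : F4, (a + b).2 = 0 → (a + b).1 = 1 → nz a + nz b = 1 →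
        (a = (1, 0) ∧ b = 0) ∨ (a = 0 ∧ b = (1, 0)) := by decide
    have e2 : x 2 = 0 := congrFun htl 0
    have e3 : x 3 = 0 := congrFun htl 1
    have e4 : x 4 = 0 := congrFun htl 2
    have e5 : x 5 = 0 := congrFun htl 3
    rcases key _ _ h2 h1 hq with ⟨a, b⟩ | ⟨a, b⟩
    · left; funext i; fin_cases i <;> simp [ea, eb, a, b, e2, e3, e4, e5]
    · right; funext i; fin_cases i <;> simp [ea, eb, a, b, e2, e3, e4, e5]
  have he1 : F.pi h eb = v0 + x := by
    rw [show eb = v0 + ea by decide, F.pi_add hz, hv]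
  have hpi : ∀ u, F.pi h u = lift (rt k (tl u)) + sc (u 0) x + sc (u 1) (v0 + x) := fun u => by
    conv_lhs => rw [decomp6 u]
    rw [F.pi_add hz, F.pi_add hz, hlift, pi_sc hz hlin, pi_sc hz hlin, he1]
  have hy : x = ea → v0 + x = eb := by rintro h; rw [h]; decide
  have hy' : x = eb → v0 + x = ea := by rintro h; rw [h]; decide
  have hk0 : k = 0 := by
    by_contra hk0
    obtain ⟨q, q0, n⟩ := six_spec γ
    refine n (((hγ _ _ q q0 ((F.qf_pi hz _).trans q) (F.ne_zero_of_rel ⟨h, hz, rfl⟩ q0)).1 ⟨h, hz, rfl⟩).2 ?_)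
    rw [hpi]
    rcases hx1 with e | e
    · rw [hy e, e]; exact (six_moved γ k hk0).1
    · rw [hy' e, e]; exact (six_moved γ k hk0).2
  subst hk0
  rcases hx1 with e | e
  · left; intro u
    rw [hpi, hy e, e, rt_zero]; exact (decomp6 u).symm
  · right; intro u
    rw [hpi, hy' e, e, rt_zero]
    have h1 : ∀ c : F4, fm c (1, 0) = c := by decide
    have h0 : ∀ c : F4, fm c 0 = 0 := by decide
    funext i; simp only [Pi.add_apply]; fin_cases i <;> simp [lift, tl, sc, perm, ea, eb, h1, h0, Equiv.swap_apply_of_ne_of_ne]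

end Action

variable {G : Type*} [Group G] [Finite G] {z : G} {Q : Subgroup G}

theorem card_stab (F : Frame z Q) {γ : ZMod 3} (hγ : F.Classes γ) :
    Nat.card (F.stab v0) = 2 ^ 13 * 51840 := by
  classical
  have hv : v0 = Frame.rep 0 := rfl
  have hn : ¬ big γ (Frame.rep 0) := by clear hγ; revert γ; decide
  have hc : (F.orb v0).card = 378 := by
    rw [hv, F.card_orb_eq 0 (fun j => decide (¬ big γ (Frame.rep j))) fun j => ?_]
    · exact short_sum γ
    · rw [decide_eq_true_iff, hγ _ _ (Frame.rep_spec 0).1 (Frame.rep_spec 0).2.1 (Frame.rep_spec j).1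
        (Frame.rep_spec j).2.1]
      simp [hn]
  have := F.card_orb_mul v0
  rw [hc] at this
  omega

/-- The stabiliser maps onto the automorphisms of the graph with kernel `Q`. -/
theorem exists_stabHom (F : Frame z Q) {γ : ZMod 3} (hγ : F.Classes γ)
    (hsw : ¬ ∃ h, Commute h z ∧ ∀ u, F.pi h u = perm (Equiv.swap 0 1) u) :
    ∃ φ : F.stab v0 →* autGraph, Function.Surjective φ ∧ ∀ h, φ h = 1 ↔ (h : G) ∈ Q := by
  obtain ⟨φ, hφ⟩ := exists_pointHom F
  have hQle : Q ≤ F.stab v0 := fun a ha => ⟨F.le_cent a ha, F.pi_eq_self_of_mem ha v0⟩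
  have hker : ∀ h, φ h = 1 ↔ (h : G) ∈ Q := fun h => by
    constructor
    · intro e
      rcases pi_of_fix_points hγ h.2 (fun i => by
        obtain ⟨k, hk⟩ := hφ h i
        rw [e] at hk
        exact ⟨k, hk⟩) with h1 | h1
      · exact F.faithful _ h.2.1 h1
      · exact absurd ⟨_, h.2.1, h1⟩ hsw
    · intro hq
      refine Subtype.ext (Equiv.ext fun i => ?_)
      obtain ⟨k, hk⟩ := hφ h i
      exact image_unique hk
        (show act4 F (h : G) (pt i) = rt 0 (pt i) by rw [act4, F.pi_eq_self_of_mem hq, tl_lift, rt_zero])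
  refine ⟨φ, ?_, hker⟩
  have hk : Nat.card φ.ker = 2 ^ 13 := by
    rw [show φ.ker = Q.subgroupOf (F.stab v0) from Subgroup.ext fun h => hker h,
      Nat.card_congr (Subgroup.subgroupOfEquivOfLe hQle).toEquiv, F.card_le]
  have h := φ.ker.card_mul_index
  rw [hk, card_stab F hγ, Subgroup.index_ker] at h
  rw [← MonoidHom.range_eq_top]
  exact Subgroup.eq_top_of_card_eq _ (by rw [card_autGraph]; omega)

/-- The stabiliser of a short vector modulo `Q` is the automorphism group of the graph. -/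
theorem nonempty_equiv {z : G} {Q : Subgroup (Subgroup.centralizer ({z} : Set G))} [Q.Normal]
    (F : Frame z (Q.map (Subgroup.centralizer ({z} : Set G)).subtype)) {γ : ZMod 3} (hγ : F.Classes γ)
    (hsw : ¬ ∃ h, Commute h z ∧ ∀ u, F.pi h u = perm (Equiv.swap 0 1) u)
    {t : Subgroup.centralizer ({z} : Set G)} (htQ : t ∈ Q) (hq : qf (F.mu (t : G)) = 0)
    (h0 : F.mu (t : G) ≠ 0) (hsmall : ¬ big γ (F.mu (t : G)))
    (S : Subgroup (Subgroup.centralizer ({z} : Set G)))
    (hS : ∀ h : Subgroup.centralizer ({z} : Set G), h ∈ S ↔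
      (h * t * h⁻¹ = t ∨ ((h * t * h⁻¹ : Subgroup.centralizer ({z} : Set G)) : G) = t * z)) :
    Nonempty (↥(S.map (QuotientGroup.mk' Q)) ≃* autGraph) := by
  have hCm : ∀ {h : G}, h ∈ (Subgroup.centralizer ({z} : Set G)) ↔ Commute h z := Subgroup.mem_centralizer_singleton_iff
  have hCc : ∀ h : (Subgroup.centralizer ({z} : Set G)), Commute (h : G) z := fun h => hCm.1 h.2
  have ht : (t : G) ∈ Q.map (Subgroup.centralizer ({z} : Set G)).subtype := ⟨t, htQ, rfl⟩
  have hmem : ∀ h : (Subgroup.centralizer ({z} : Set G)), h ∈ S ↔ F.pi (h : G) (F.mu (t : G)) = F.mu (t : G) := fun h => by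
    rw [hS, ← F.pi_mu _ (hCc h) _ ht, F.mu_eq_iff (F.normal _ (hCc h) _ ht) ht, Subtype.ext_iff]
    rfl
  have hn : ¬ big γ v0 := by clear hγ hsmall; revert γ; decide
  obtain ⟨c, hc, hce⟩ := (hγ _ v0 hq h0 (by decide) (by decide)).2 (iff_of_false hsmall hn)
  obtain ⟨φ, hφs, hφk⟩ := exists_stabHom F hγ hsw
  have hci : F.pi c⁻¹ v0 = F.mu (t : G) := by rw [← hce, F.pi_inv_apply hc]
  have hmap : ∀ h : S, c * ((h : (Subgroup.centralizer ({z} : Set G))) : G) * c⁻¹ ∈ F.stab v0 := fun h =>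
    ⟨(hc.mul_left (hCc _)).mul_left hc.inv_left, by
      rw [F.pi_mul (hc.mul_left (hCc _)) hc.inv_left, hci, F.pi_mul hc (hCc _), (hmem _).1 h.2, hce]⟩
  let ψ : S →* F.stab v0 :=
    MonoidHom.mk' (fun h => ⟨c * ((h : (Subgroup.centralizer ({z} : Set G))) : G) * c⁻¹, hmap h⟩) fun a b => Subtype.ext (by
      simp only [Subgroup.coe_mul]; group)
  have hψ : Function.Surjective ψ := fun y => by
    have hy : Commute (c⁻¹ * (y : G) * c) z := (hc.inv_left.mul_left y.2.1).mul_left hc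
    refine ⟨⟨⟨_, hCm.2 hy⟩, (hmem _).2 ?_⟩, Subtype.ext ?_⟩
    · show F.pi (c⁻¹ * (y : G) * c) _ = _
      rw [F.pi_mul (hc.inv_left.mul_left y.2.1) hc, hce, F.pi_mul hc.inv_left y.2.1, y.2.2, hci]
    · show c * (c⁻¹ * (y : G) * c) * c⁻¹ = y
      group
  let p : S →* ↥(S.map (QuotientGroup.mk' Q)) := (QuotientGroup.mk' Q).subgroupMap S
  have hp : Function.Surjective p := MonoidHom.subgroupMap_surjective _ _
  have hker : (φ.comp ψ).ker = p.ker := Subgroup.ext fun h => by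
    rw [MonoidHom.mem_ker, MonoidHom.mem_ker, MonoidHom.comp_apply, hφk]
    rw [show p h = 1 ↔ (h : (Subgroup.centralizer ({z} : Set G))) ∈ Q by
      rw [← (QuotientGroup.eq_one_iff (N := Q) (h : (Subgroup.centralizer ({z} : Set G)))), Subtype.ext_iff]; rfl]
    show c * ((h : (Subgroup.centralizer ({z} : Set G))) : G) * c⁻¹ ∈ Q.map (Subgroup.centralizer ({z} : Set G)).subtype ↔ _
    constructor
    · intro e
      have := F.normal c⁻¹ hc.inv_left _ e
      rw [show c⁻¹ * (c * ((h : (Subgroup.centralizer ({z} : Set G))) : G) * c⁻¹) * c⁻¹⁻¹ = ((h : (Subgroup.centralizer ({z} : Set G))) : G) by group] at this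
      obtain ⟨a, ha, e'⟩ := this
      exact Subtype.ext (a1 := a) (a2 := (h : (Subgroup.centralizer ({z} : Set G)))) e' ▸ ha
    · intro e
      exact F.normal c hc _ ⟨_, e, rfl⟩
  exact ⟨(QuotientGroup.quotientKerEquivOfSurjective p hp).symm.trans
    ((QuotientGroup.quotientMulEquivOfEq hker.symm).trans
      (QuotientGroup.quotientKerEquivOfSurjective (φ.comp ψ) (hφs.comp hψ)))⟩

end Cfsg.Agent.LFType23.StabSmall
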