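import Cfsg.Agent.LFType23.Involutions

/-!
A conjugate of the central involution with vector all ones: the stabiliser and the intersection of
the two extraspecial subgroups.
-/
set_option autoImplicit false

namespace Cfsg.Agent.LFType23

variable {G : Type*} [Group G] {z s : G} {Q R : Subgroup G}

theorem one6_spec : qf one6 = 0 ∧ one6 ≠ 0 := by decide

theorem big_one6 : ∀ γ : ZMod 3, γ ≠ 0 → big γ one6 := by decide

theorem perm_one6 (σ : Equiv.Perm (Fin 6)) : perm σ one6 = one6 := rfl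

/-- The permutation of coordinates as a permutation of vectors. -/
def permV (σ : Equiv.Perm (Fin 6)) : Equiv.Perm V where
  toFun := perm σ
  invFun := perm σ⁻¹
  left_inv := fun u => funext fun i => by simp [perm]
  right_inv := fun u => funext fun i => by simp [perm]

/-- The even coordinate permutations as a homomorphism. -/
def altHom : alternatingGroup (Fin 6) →* Equiv.Perm V :=
  MonoidHom.mk' (fun σ => permV (σ : Equiv.Perm (Fin 6))⁻¹) fun a b => Equiv.ext fun u => funext fun i => by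
    simp [permV, perm, mul_inv_rev]

theorem altHom_apply (σ : alternatingGroup (Fin 6)) (u : V) :
    altHom σ u = perm (σ : Equiv.Perm (Fin 6))⁻¹ u := rfl

theorem altHom_injective : Function.Injective altHom := by
  rw [injective_iff_map_eq_one]
  intro σ h
  apply Subtype.ext
  rw [OneMemClass.coe_one]
  refine inv_injective (Equiv.ext fun i => ?_)
  rw [inv_one, Equiv.Perm.one_apply]
  by_contra hne
  have h1 := congrFun (congrArg (fun p : Equiv.Perm V => p (Pi.single i (1, 0))) h) i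
  simp only [altHom_apply, perm, Equiv.Perm.coe_one, id_eq, Pi.single_eq_same, Pi.single_eq_of_ne hne] at h1
  exact absurd h1 (by decide)

instance : Fact (Nat.Prime 2) := ⟨Nat.prime_two⟩

/-- The standard situation. -/
structure Std (F : Frame z Q) (Fs : Frame s R) (γ : ZMod 3) : Prop where
  link : Linked F Fs
  classes : F.Classes γ
  gne : γ ≠ 0
  vec : F.mu s = one6

namespace Std

variable [Finite G] {F : Frame z Q} {Fs : Frame s R} {γ : ZMod 3} (S : Std F Fs γ)
include S

theorem card_x : Nat.card S.link.xgrp = 11520 := by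
  rw [S.link.card_xgrp S.classes, if_pos (by rw [S.vec]; exact big_one6 _ S.gne)]

theorem alt_le : altHom.range ≤ S.link.xgrp := by
  rintro _ ⟨σ, rfl⟩
  obtain ⟨h, hh, e⟩ := F.perm_mem (σ : Equiv.Perm (Fin 6))⁻¹ (by
    rw [map_inv, Equiv.Perm.mem_alternatingGroup.1 σ.2, inv_one])
  exact S.link.mem_xgrp.2 ⟨h, hh, by rw [e, S.vec]; rfl, fun u => (e u).symm⟩

theorem card_alt : Nat.card altHom.range = 360 := by
  rw [← Nat.card_congr (MonoidHom.ofInjective altHom_injective).toEquiv, nat_card_alternatingGroup, Nat.card_fin]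
  rfl

theorem alt_inf : altHom.range ⊓ S.link.wgrp = ⊥ := by
  have hs : IsSimpleGroup (alternatingGroup (Fin 6)) := alternatingGroup.isSimpleGroup (by simp)
  have hn : (S.link.wgrp.comap altHom).Normal := ⟨fun w hw g => by
    rw [Subgroup.mem_comap] at hw ⊢
    rw [map_mul, map_mul, map_inv]
    exact S.link.wgrp_normal (S.alt_le ⟨g, rfl⟩) hw⟩
  rcases hs.eq_bot_or_eq_top_of_normal _ hn with h | h
  · rw [eq_bot_iff]
    rintro _ ⟨⟨σ, rfl⟩, hw⟩
    have h1 : σ = 1 := by rw [← Subgroup.mem_bot, ← h]; exact hw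
    rw [h1, map_one]; exact one_mem _
  · exfalso
    have hle : altHom.range ≤ S.link.wgrp := by
      rintro _ ⟨σ, rfl⟩
      exact (h ▸ Subgroup.mem_top σ : σ ∈ S.link.wgrp.comap altHom)
    have h2 := Subgroup.card_dvd_of_le hle
    obtain ⟨n, hn⟩ := S.link.wgrp_two.exists_card_eq
    rw [S.card_alt, hn] at h2
    have h3 : 3 ∣ 2 ^ n := Dvd.dvd.trans (by norm_num) h2
    exact absurd (Nat.prime_three.dvd_of_dvd_pow h3) (by norm_num)

theorem card_w_dbar : Nat.card S.link.wgrp = 32 ∧ Nat.card S.link.dbar = 64 := by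
  classical
  have hle : Nat.card S.link.wgrp * Nat.card altHom.range ≤ Nat.card S.link.xgrp := by
    rw [← Nat.card_prod]
    refine Nat.card_le_card_of_injective (fun p => (⟨p.1.1 * p.2.1, mul_mem (S.link.wgrp_le p.1.2) (S.alt_le p.2.2)⟩ :
      S.link.xgrp)) fun p p' e => ?_
    have e' : p.1.1 * p.2.1 = p'.1.1 * p'.2.1 := congrArg Subtype.val e
    have h1 : p'.1.1⁻¹ * p.1.1 = p'.2.1 * p.2.1⁻¹ := by
      rw [eq_mul_inv_iff_mul_eq, mul_assoc, e', inv_mul_cancel_left]
    have h2 : p'.1.1⁻¹ * p.1.1 ∈ altHom.range ⊓ S.link.wgrp :=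
      Subgroup.mem_inf.2 ⟨by rw [h1]; exact altHom.range.mul_mem p'.2.2 (altHom.range.inv_mem p.2.2),
        S.link.wgrp.mul_mem (S.link.wgrp.inv_mem p'.1.2) p.1.2⟩
    rw [S.alt_inf, Subgroup.mem_bot] at h2
    rw [inv_mul_eq_one] at h2
    refine Prod.ext (Subtype.ext h2.symm) (Subtype.ext ?_)
    rw [← h2] at e'
    exact mul_left_cancel e'
  rw [S.card_x, S.card_alt] at hle
  have h1 := S.link.card_wgrp
  have h2 := S.link.dbar_le
  have h32 : 32 ≤ Nat.card S.link.wgrp := by nlinarith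
  constructor <;> nlinarith

theorem exists_decomp {f : Equiv.Perm V} (hf : f ∈ S.link.xgrp) :
    ∃ w ∈ S.link.wgrp, ∃ σ : alternatingGroup (Fin 6), f = w * altHom σ := by
  classical
  let g : S.link.wgrp × altHom.range → S.link.xgrp := fun p =>
    ⟨p.1.1 * p.2.1, mul_mem (S.link.wgrp_le p.1.2) (S.alt_le p.2.2)⟩
  have hinj : Function.Injective g := fun p p' e => by
    have e' : p.1.1 * p.2.1 = p'.1.1 * p'.2.1 := congrArg Subtype.val e
    have h1 : p'.1.1⁻¹ * p.1.1 = p'.2.1 * p.2.1⁻¹ := by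
      rw [eq_mul_inv_iff_mul_eq, mul_assoc, e', inv_mul_cancel_left]
    have h2 : p'.1.1⁻¹ * p.1.1 ∈ altHom.range ⊓ S.link.wgrp :=
      Subgroup.mem_inf.2 ⟨by rw [h1]; exact altHom.range.mul_mem p'.2.2 (altHom.range.inv_mem p.2.2),
        S.link.wgrp.mul_mem (S.link.wgrp.inv_mem p'.1.2) p.1.2⟩
    rw [S.alt_inf, Subgroup.mem_bot, inv_mul_eq_one] at h2
    refine Prod.ext (Subtype.ext h2.symm) (Subtype.ext ?_)
    rw [← h2] at e'
    exact mul_left_cancel e'
  have hbij : Function.Bijective g := (Nat.bijective_iff_injective_and_card g).2 ⟨hinj, by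
    rw [Nat.card_prod, S.card_w_dbar.1, S.card_alt, S.card_x]⟩
  obtain ⟨⟨w, ⟨_, σ, rfl⟩⟩, e⟩ := hbij.2 ⟨f, hf⟩
  exact ⟨w, w.2, σ, (congrArg Subtype.val e).symm⟩

/-- The stabiliser modulo the elementary subgroup is the alternating group. -/
theorem exists_quot_hom : ∃ φ : S.link.xgrp →* alternatingGroup (Fin 6), Function.Surjective φ ∧
    φ.ker = S.link.wgrp.subgroupOf S.link.xgrp := by
  classical
  choose w hw σ hσ using fun f : S.link.xgrp => S.exists_decomp f.2
  have uniq : ∀ (w w' : Equiv.Perm V) (a b : alternatingGroup (Fin 6)), w ∈ S.link.wgrp → w' ∈ S.link.wgrp →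
      w * altHom a = w' * altHom b → a = b := by
    intro w w' a b hw hw' e
    have h1 : w'⁻¹ * w = altHom b * (altHom a)⁻¹ := by
      rw [eq_mul_inv_iff_mul_eq, mul_assoc, e, inv_mul_cancel_left]
    have h2 : altHom (b * a⁻¹) ∈ altHom.range ⊓ S.link.wgrp :=
      Subgroup.mem_inf.2 ⟨⟨_, rfl⟩, by rw [map_mul, map_inv, ← h1]; exact mul_mem (inv_mem hw') hw⟩
    rw [S.alt_inf, Subgroup.mem_bot, map_eq_one_iff _ altHom_injective, mul_inv_eq_one] at h2
    exact h2.symm
  let φ : S.link.xgrp →* alternatingGroup (Fin 6) := MonoidHom.mk' σ fun a b => by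
    refine uniq (w (a * b)) (w a * (altHom (σ a) * w b * (altHom (σ a))⁻¹)) _ _ (hw _)
      (mul_mem (hw a) (S.link.wgrp_normal (S.alt_le ⟨_, rfl⟩) (hw b))) ?_
    rw [← hσ, Subgroup.coe_mul, hσ a, hσ b, map_mul]
    group
  have hφ : ∀ (f : S.link.xgrp) (a : alternatingGroup (Fin 6)) (v : Equiv.Perm V), v ∈ S.link.wgrp →
      (f : Equiv.Perm V) = v * altHom a → φ f = a := fun f a v hv e =>
    uniq (w f) v (σ f) a (hw f) hv ((hσ f).symm.trans e)
  refine ⟨φ, fun a => ⟨⟨altHom a, S.alt_le ⟨a, rfl⟩⟩, hφ _ a 1 (one_mem _) (one_mul _).symm⟩, ?_⟩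
  ext f
  rw [MonoidHom.mem_ker, Subgroup.mem_subgroupOf]
  constructor
  · intro h
    rw [hσ f, show σ f = 1 from h, map_one, mul_one]
    exact hw f
  · intro h
    exact hφ f 1 f h (by rw [map_one, mul_one])

theorem dbar_perm {σ : Equiv.Perm (Fin 6)} (hσ : Equiv.Perm.sign σ = 1) {u : V} (hu : u ∈ S.link.dbar) :
    perm σ u ∈ S.link.dbar := by
  obtain ⟨h, hh, e⟩ := F.perm_mem σ hσ
  have := S.link.dbar_stable hh (by rw [e, S.vec]; rfl) hu
  rwa [e] at this

theorem om_one_perp {u : V} (hu : u ∈ S.link.dbar) : bf u one6 = 0 :=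
  S.link.dbar_iso u hu one6 (S.vec ▸ S.link.vec_mem)

end Std

end Cfsg.Agent.LFType23
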