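import Cfsg.Agent.LFType23.Scalar

/-!
The central involution is a product of commutators in the centraliser of the scalar.
-/
set_option autoImplicit false

namespace Cfsg.Agent.LFType23

open scoped commutatorElement

variable {G : Type*} [Group G] {z : G} {Q : Subgroup G}

/-- The conjugate of a subgroup. -/
abbrev cj (g : G) (Q : Subgroup G) : Subgroup G := Q.map (MulAut.conj g).toMonoidHom

theorem mem_cj {g a : G} : a ∈ cj g Q ↔ g⁻¹ * a * g ∈ Q := by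
  constructor
  · rintro ⟨b, hb, rfl⟩
    simpa [MulAut.conj_apply, mul_assoc] using hb
  · intro h
    exact ⟨_, h, by simp [MulAut.conj_apply, mul_assoc]⟩

theorem cj_cj (g h : G) : cj h (cj g Q) = cj (h * g) Q := by
  ext a
  rw [mem_cj, mem_cj, mem_cj, show g⁻¹ * (h⁻¹ * a * h) * g = (h * g)⁻¹ * a * (h * g) by group]

namespace Frame

variable (F : Frame z Q)
include F

theorem cj_eq {g g' : G} (h : g * z * g⁻¹ = g' * z * g'⁻¹) : cj g Q = cj g' Q := by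
  have hk : Commute (g'⁻¹ * g) z := by
    refine mul_inv_eq_iff_eq_mul.1 ?_
    rw [show g'⁻¹ * g * z * (g'⁻¹ * g)⁻¹ = g'⁻¹ * (g * z * g⁻¹) * g' by group, h]; group
  ext a
  rw [mem_cj, mem_cj]
  constructor <;> intro ha
  · have := F.normal _ hk _ ha
    rwa [show g'⁻¹ * g * (g⁻¹ * a * g) * (g'⁻¹ * g)⁻¹ = g'⁻¹ * a * g' by group] at this
  · have := F.normal _ hk.inv_left _ ha
    rwa [show (g'⁻¹ * g)⁻¹ * (g'⁻¹ * a * g') * (g'⁻¹ * g)⁻¹⁻¹ = g⁻¹ * a * g by group] at this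

theorem exists_flip {y : G} (hy : y ∈ Q) (hy0 : F.mu y ≠ 0) : ∃ q ∈ Q, q * y * q⁻¹ = y * z := by
  obtain ⟨e0, he⟩ : ∃ e, bf e (F.mu y) = 1 := by
    by_contra hne
    push Not at hne
    refine hy0 (bf_nondeg fun w => ?_)
    rcases (by decide : ∀ y : ZMod 2, y = 0 ∨ y = 1) (bf (F.mu y) w) with h0 | h0
    · exact h0
    · exact absurd (by rw [bf_comm]; exact h0) (hne w)
  obtain ⟨q, hq, rfl⟩ := F.mu_surj e0
  exact ⟨q, hq, by rw [F.comm q hq y hy, if_neg (by rw [he]; decide)]⟩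

/-- The intersection depends only on the conjugate up to the central involution. -/
theorem inter_mul_base [Finite G] {g g' : G} (hQ : g * z * g⁻¹ ∈ Q) (hne : g * z * g⁻¹ ≠ z)
    (h : g' * z * g'⁻¹ = g * z * g⁻¹ * z) : Q ⊓ cj g Q = Q ⊓ cj g' Q := by
  have P : Linked F (F.tr g) := ⟨hQ, hne⟩
  obtain ⟨q, hq, e⟩ := F.exists_flip hQ P.vec_ne
  have e2 : cj g' Q = cj (q * g) Q := F.cj_eq (by
    rw [h, ← e]; group)
  rw [e2, ← cj_cj]
  have key : ∀ q ∈ Q, ∀ a ∈ Q, a ∈ cj g Q → q * a * q⁻¹ ∈ cj g Q := fun q hq a ha hag => by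
    rw [F.comm q hq a ha]
    split_ifs
    · exact hag
    · exact mul_mem hag P.z_mem
  ext a
  simp only [Subgroup.mem_inf]
  refine and_congr_right fun ha => ⟨fun hag => mem_cj.2 ?_, fun hag => ?_⟩
  · simpa using key q⁻¹ (inv_mem hq) a ha hag
  · have h1 := mem_cj.1 hag
    have := key q hq _ (by simpa using F.normal q⁻¹ ((F.le_cent q hq).inv_left) a ha) h1
    rwa [show q * (q⁻¹ * a * q) * q⁻¹ = a by group] at this

end Frame

theorem cycles_fix : ∀ i : Fin 6, ∃ σ : Equiv.Perm (Fin 6), Equiv.Perm.sign σ = 1 ∧ σ ^ 3 = 1 ∧ σ 0 = i := by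
  decide +kernel

theorem sigma_pairs :
    (perm (Equiv.swap 0 1 * Equiv.swap 2 3) (pr 0 4) + pr 0 4) +
      (perm (Equiv.swap 2 3 * Equiv.swap 4 5) (pr 2 0) + pr 2 0) +
      (perm (Equiv.swap 4 5 * Equiv.swap 0 1) (pr 4 2) + pr 4 2) = one6 ∧
      Equiv.Perm.sign (Equiv.swap (0 : Fin 6) 1 * Equiv.swap 2 3) = 1 ∧
      Equiv.Perm.sign (Equiv.swap (2 : Fin 6) 3 * Equiv.swap 4 5) = 1 ∧
      Equiv.Perm.sign (Equiv.swap (4 : Fin 6) 5 * Equiv.swap 0 1) = 1 := by decide +kernel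

theorem final_scalar : ∀ c γc : F4, (c = (0, 1) ∨ c = (1, 1)) → (γc = (0, 1) ∨ γc = (1, 1)) →
    ∀ e : ZMod 2, fm c (γc + (e, 0)) = (1, 0) ∨ fm c (γc + (e, 0)) = (1, 0) + c := by decide

theorem eps_sum : ∀ a b c : F4, (a = 0 ∨ a = (1, 0)) → (b = 0 ∨ b = (1, 0)) → (c = 0 ∨ c = (1, 0)) →
    ∃ e : ZMod 2, a + b + c = (e, 0) := by decide

variable {s g x : G} {γ : ZMod 3}

set_option maxHeartbeats 1000000 in
/-- The central involution lies in the derived subgroup. -/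
theorem triple_center [Finite G] (F : Frame z Q) (hx : F.Scalar x) {R : Subgroup G} (hRdef : R = cj g Q)
    (Fs : Frame s R) (hgs : g * z * g⁻¹ = s)
    (S : Std F Fs γ) (hsc : Fs.Classes γ) (hmz : Fs.mu z = one6)
    (hprod : s * (x * s * x⁻¹) * (x * (x * s * x⁻¹) * x⁻¹) = 1) :
    z ∈ ⁅Subgroup.centralizer ({z} : Set G) ⊓ Subgroup.centralizer ({x} : Set G),
      Subgroup.centralizer ({z} : Set G) ⊓ Subgroup.centralizer ({x} : Set G)⁆ := by
  classical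
  set Y := Subgroup.centralizer ({z} : Set G) ⊓ Subgroup.centralizer ({x} : Set G) with hYdef
  have memY : ∀ {y}, y ∈ Y ↔ Commute y z ∧ Commute y x := fun {y} => by
    simp only [hYdef, Subgroup.mem_inf, Subgroup.mem_centralizer_singleton_iff]; rfl
  have hx3 : ∀ a, x * (x * (x * a * x⁻¹) * x⁻¹) * x⁻¹ = a := fun a => by
    have e : x * x * x = 1 := by rw [← pow_three']; exact hx.cube
    rw [show x * (x * (x * a * x⁻¹) * x⁻¹) * x⁻¹ = (x * x * x) * a * (x * x * x)⁻¹ by group, e]; group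
  set s1 := x * s * x⁻¹ with hs1
  set s2 := x * s1 * x⁻¹ with hs2
  -- the conjugates
  have hs1Q : s1 ∈ Q := F.normal x hx.comm s S.link.mem
  have hmu1 : F.mu s1 = om one6 := by rw [hs1, F.pi_mu x hx.comm s S.link.mem, hx.act, S.vec]
  have hs1R : s1 ∈ R := by
    obtain ⟨d, hd, hdR, e⟩ := S.om_one_mem
    rcases (F.mu_eq_iff hs1Q hd).1 (hmu1.trans e.symm) with h | h <;> rw [h]
    exacts [hdR, mul_mem hdR S.link.z_mem]
  have hs1ne : s1 ≠ s := fun e => by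
    have : F.mu s1 = one6 := by rw [e, S.vec]
    rw [hmu1] at this
    exact one6_spec.2 (om_eq_self this)
  have hzs : z ≠ s := Ne.symm S.link.ne
  have hzs1 : z ≠ s1 := fun e => hzs (by
    have := congrArg (fun a => x⁻¹ * a * x) e
    rw [hs1] at this
    simpa [mul_assoc, hx.comm.symm.eq] using this)
  have hxz : x⁻¹ * z * x = z := by rw [mul_assoc, ← hx.comm.eq, inv_mul_cancel_left]
  have hzR1 : z ∈ cj x R := mem_cj.2 (by rw [hxz]; exact S.link.z_mem)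
  have L1 : Linked Fs (Fs.tr x) := ⟨hs1R, hs1ne⟩
  have hsq1 : s1 * s1 = 1 := (Fs.tr x).z_sq
  have hc1 : Commute s1 s := Fs.le_cent s1 hs1R
  have hs2e : s2 = s1 * s := by
    have h1 : (s * s1)⁻¹ = s2 := inv_eq_of_mul_eq_one_right hprod
    rw [← h1, mul_inv_rev, Fs.z_inv, inv_eq_of_mul_eq_one_left hsq1]
  -- the intersection `T`
  set T := R ⊓ cj x R with hT
  have hinter : R ⊓ cj x R = R ⊓ cj (x * x) R := Fs.inter_mul_base hs1R hs1ne (by
    rw [← hs2e, hs2, hs1]; group)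
  have hTx : ∀ t ∈ T, x * t * x⁻¹ ∈ T := fun t ht => by
    have h2 : t ∈ cj (x * x) R := by
      have : t ∈ R ⊓ cj (x * x) R := hinter ▸ ht
      exact this.2
    refine ⟨?_, mem_cj.2 (by simpa [mul_assoc] using ht.1)⟩
    have h3 := mem_cj.1 h2
    have e : x * x * x = 1 := by rw [← pow_three']; exact hx.cube
    have e1 : (x * x)⁻¹ = x := inv_eq_of_mul_eq_one_right e
    have e2 : x * x = x⁻¹ := eq_inv_of_mul_eq_one_left e
    rw [e1, e2] at h3
    exact h3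
  have Tc : ∀ a ∈ T, ∀ b ∈ T, Commute a b := fun a ha b hb => L1.inter_comm ha.1 ha.2 hb.1 hb.2
  have Tz : ∀ t ∈ T, Commute t z := fun t ht => by
    have h1 := Fs.comm t ht.1 z S.link.z_mem
    have h2 := (Fs.tr x).comm t ht.2 z hzR1
    rw [h1] at h2
    refine mul_inv_eq_iff_eq_mul.1 (h1.trans ?_)
    split_ifs at h2 ⊢ with ha hb hc
    all_goals try rfl
    all_goals exfalso
    · exact Fs.z_ne (mul_eq_left.1 h2)
    · exact hs1ne (mul_left_cancel h2).symm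
  -- the norm
  let N : G → G := fun t => t * (x * t * x⁻¹) * (x * (x * t * x⁻¹) * x⁻¹)
  have NT : ∀ t ∈ T, N t ∈ T := fun t ht => mul_mem (mul_mem ht (hTx t ht)) (hTx _ (hTx t ht))
  have Nmul : ∀ a ∈ T, ∀ b ∈ T, N (a * b) = N a * N b := fun a ha b hb => by
    have e : ∀ a b : G, x * (a * b) * x⁻¹ = (x * a * x⁻¹) * (x * b * x⁻¹) := fun a b => by group
    show a * b * (x * (a * b) * x⁻¹) * (x * (x * (a * b) * x⁻¹) * x⁻¹) = _
    rw [e a b, e (x * a * x⁻¹) (x * b * x⁻¹)]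
    simp only [N]
    set a1 := x * a * x⁻¹
    set b1 := x * b * x⁻¹
    set a2 := x * a1 * x⁻¹
    set b2 := x * b1 * x⁻¹
    have h1 : b * a1 = a1 * b := Tc b hb a1 (hTx a ha)
    have h2 : b * b1 * a2 = a2 * (b * b1) :=
      (Tc (b * b1) (mul_mem hb (hTx b hb)) a2 (hTx _ (hTx a ha))).eq
    calc a * b * (a1 * b1) * (a2 * b2) = a * (b * a1) * b1 * a2 * b2 := by group
      _ = a * a1 * (b * b1 * a2) * b2 := by rw [h1]; group
      _ = a * a1 * a2 * (b * b1 * b2) := by rw [h2]; group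
  have Ninv : ∀ a ∈ T, N a⁻¹ = (N a)⁻¹ := fun a ha => by
    refine eq_inv_of_mul_eq_one_left ?_
    rw [← Nmul _ (inv_mem ha) a ha, inv_mul_cancel]
    simp [N]
  have NY : ∀ t ∈ T, N t ∈ Y := fun t ht => memY.2 ⟨Tz _ (NT t ht), by
    refine (mul_inv_eq_iff_eq_mul.1 ?_ : x * N t = N t * x).symm
    have e : ∀ a b : G, x * (a * b) * x⁻¹ = (x * a * x⁻¹) * (x * b * x⁻¹) := fun a b => by group
    simp only [N]
    rw [e (t * (x * t * x⁻¹)), e t, hx3]
    have h1 := Tc t ht _ (mul_mem (hTx t ht) (hTx _ (hTx t ht)))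
    rw [← h1.eq, ← mul_assoc]⟩
  -- lifts of the permutations
  have hlift : ∀ σ : alternatingGroup (Fin 6), ∃ k, Commute k z ∧ Commute k x ∧ Commute k s ∧
      ∀ u, F.pi k u = altHom σ u := by
    intro σ
    obtain ⟨h, hh, e⟩ := F.perm_mem (σ : Equiv.Perm (Fin 6))⁻¹ (by
      rw [map_inv, Equiv.Perm.mem_alternatingGroup.1 σ.2, inv_one])
    obtain ⟨q, hq, hc⟩ := hx.exists_lift hh (fun u => by rw [e, e]; rfl)
    have he : ∀ u, F.pi (q * h) u = altHom σ u := fun u => by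
      rw [F.pi_mul (F.le_cent q hq) hh, F.pi_eq_self_of_mem hq, e, altHom_apply]
    refine ⟨q * h, (F.le_cent q hq).mul_left hh, hc, ?_, he⟩
    exact hx.comm_of_fixed ((F.le_cent q hq).mul_left hh) hc S.link.mem (by
      rw [he, altHom_apply, S.vec]; rfl)
  choose k kz kx ks kpi using hlift
  have kuniq : ∀ a b, Commute a z → Commute a x → Commute a s → Commute b z → Commute b x → Commute b s →
      (∀ u, F.pi a u = F.pi b u) → ∀ u, Fs.pi a u = Fs.pi b u := by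
    intro a b az ax as' bz bx bs e u
    have hq : b⁻¹ * a ∈ Q := F.faithful _ (bz.inv_left.mul_left az) fun u => by
      rw [F.pi_mul bz.inv_left az, e, F.pi_inv_apply bz]
    have hq2 := hx.fixed_mem hq (bx.inv_left.mul_left ax).symm
    rw [show a = b * (b⁻¹ * a) by group, Fs.pi_mul bs (bs.inv_left.mul_left as')]
    rcases hq2 with h | h <;> rw [h]
    · rw [Fs.pi_one]
    · rw [Fs.pi_eq_self_of_mem S.link.z_mem]
  have S' : Std Fs F γ := ⟨⟨S.link.z_mem, hzs⟩, hsc, S.gne, hmz⟩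
  have hkx : ∀ a, Commute a z → Commute a s → Fs.pi a one6 = one6 := fun a az as' => by
    rw [← hmz, ← Fs.pi_mu a as' z S.link.z_mem, az.eq, mul_inv_cancel_right]
  let kp : alternatingGroup (Fin 6) →* S'.link.xgrp := MonoidHom.mk'
    (fun σ => ⟨Fs.permHom ⟨k σ, Subgroup.mem_centralizer_singleton_iff.2 (ks σ)⟩,
      S'.link.mem_xgrp.2 ⟨k σ, ks σ, by rw [hmz]; exact hkx _ (kz σ) (ks σ), fun u => rfl⟩⟩)
    fun a b => Subtype.ext (Equiv.ext fun u => by
      rw [Subgroup.coe_mul, Equiv.Perm.mul_apply]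
      simp only [Frame.permHom_apply]
      rw [← Fs.pi_mul (ks a) (ks b)]
      refine kuniq _ _ (kz _) (kx _) (ks _) ((kz a).mul_left (kz b)) ((kx a).mul_left (kx b))
        ((ks a).mul_left (ks b)) (fun u => ?_) u
      rw [kpi, F.pi_mul (kz a) (kz b), kpi, kpi, map_mul]; rfl)
  obtain ⟨φ, -, hφk⟩ := S'.exists_quot_hom
  have hinj : Function.Injective (φ.comp kp) := by
    rw [injective_iff_map_eq_one]
    intro σ hσ
    have hmem : kp σ ∈ φ.ker := hσ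
    rw [hφk, Subgroup.mem_subgroupOf] at hmem
    obtain ⟨a, haQ, has, hae⟩ := S'.link.mem_wgrp.1 hmem
    have hr : a⁻¹ * k σ ∈ R := Fs.faithful _ (has.inv_left.mul_left (ks σ)) fun u => by
      have := hae u
      change Fs.pi (k σ) u = Fs.pi a u at this
      rw [Fs.pi_mul has.inv_left (ks σ), this, Fs.pi_inv_apply has]
    have haz := F.le_cent a haQ
    have hw : altHom σ ∈ altHom.range ⊓ S.link.wgrp :=
      Subgroup.mem_inf.2 ⟨⟨σ, rfl⟩, S.link.mem_wgrp.2 ⟨_, hr, haz.inv_left.mul_left (kz σ), fun u => by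
        rw [F.pi_mul haz.inv_left (kz σ), F.pi_eq_self_of_mem (inv_mem haQ), kpi]⟩⟩
    rw [S.alt_inf, Subgroup.mem_bot] at hw
    exact altHom_injective (hw.trans (map_one _).symm)
  let am : alternatingGroup (Fin 6) →* S'.link.xgrp := altHom.codRestrict _ fun σ => S'.alt_le ⟨σ, rfl⟩
  have hsurj : ∀ τ : alternatingGroup (Fin 6), ∃ σ, ∀ d ∈ S'.link.dbar, Fs.pi (k σ) d = perm (τ : Equiv.Perm (Fin 6))⁻¹ d ∨
      Fs.pi (k σ) d = perm (τ : Equiv.Perm (Fin 6))⁻¹ d + one6 := by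
    intro τ
    obtain ⟨σ, hσ⟩ := (Finite.injective_iff_surjective.1 hinj) (φ (am τ))
    have hw : kp σ * (am τ)⁻¹ ∈ φ.ker := by
      rw [MonoidHom.mem_ker, map_mul, map_inv]
      exact mul_inv_eq_one.2 hσ
    rw [hφk, Subgroup.mem_subgroupOf] at hw
    obtain ⟨a, haQ, has, hae⟩ := S'.link.mem_wgrp.1 hw
    refine ⟨σ, fun d hd => ?_⟩
    have he : Fs.pi (k σ) d = Fs.pi a (perm (τ : Equiv.Perm (Fin 6))⁻¹ d) := by
      rw [← hae, Subgroup.coe_mul, Equiv.Perm.mul_apply]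
      have e2 : ((am τ)⁻¹ : S'.link.xgrp).1 (perm (τ : Equiv.Perm (Fin 6))⁻¹ d) = d := by
        rw [Subgroup.coe_inv]
        exact (altHom τ).symm_apply_apply d
      rw [e2]; rfl
    obtain ⟨e, heR, heQ, hem⟩ := S'.dbar_perm (σ := (τ : Equiv.Perm (Fin 6))⁻¹)
      (by rw [map_inv, Equiv.Perm.mem_alternatingGroup.1 τ.2, inv_one]) hd
    rw [he, ← hem, ← Fs.pi_mu a has e heR, F.comm a haQ e heQ]
    split_ifs
    · exact Or.inl rfl
    · exact Or.inr (by rw [Fs.mu_mul e heR z S.link.z_mem, hmz])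
  -- the vector of `s1`
  set v2 := Fs.mu s1 with hv2
  have hv2d : v2 ∈ S'.link.dbar := ⟨s1, hs1R, hs1Q, rfl⟩
  have hk1 : ∀ σ, Commute (k σ) s1 := fun σ => by
    rw [hs1]
    exact ((kx σ).mul_right (ks σ)).mul_right (kx σ).inv_right
  have hkfix : ∀ σ, Fs.pi (k σ) v2 = v2 := fun σ => by
    rw [hv2, ← Fs.pi_mu _ (ks σ) s1 hs1R, (hk1 σ).eq, mul_inv_cancel_right]
  have hconst : v2 = sc (v2 0) one6 := funext fun i => by
    obtain ⟨τ, hτ, hτ3, hτi⟩ := cycles_fix i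
    obtain ⟨σ, hσ⟩ := hsurj ⟨τ⁻¹, Equiv.Perm.mem_alternatingGroup.2 (by rw [map_inv, hτ, inv_one])⟩
    have := hσ v2 hv2d
    rw [hkfix] at this
    simp only [inv_inv] at this
    have h10 : fm (v2 0) (1, 0) = v2 0 := by
      have : ∀ a : F4, fm a (1, 0) = a := by decide
      exact this _
    show v2 i = fm (v2 0) (1, 0)
    rcases this with h | h
    · rw [h10]
      conv_rhs => rw [h]
      simp [perm, hτi]
    · exfalso
      have p3 : perm τ (perm τ (perm τ v2)) = v2 := funext fun j => by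
        simp only [perm]
        have := congrArg (fun p : Equiv.Perm (Fin 6) => p j) hτ3
        simp only [pow_three', Equiv.Perm.mul_apply, Equiv.Perm.one_apply] at this
        rw [this]
      have h' : perm τ v2 = v2 + one6 := by
        conv_rhs => rw [h, add_assoc, add_self, add_zero]
      rw [h', perm_add, h', perm_one6, add_assoc, add_self, add_zero, h'] at p3
      exact one6_spec.2 (add_eq_left.1 p3)
  set c := v2 0 with hcdef
  have hc : c = (0, 1) ∨ c = (1, 1) := by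
    refine three_cube c (fun e => ?_) fun e => ?_
    · have : v2 = 0 := by rw [hconst, e, sc_fixed_zero]
      exact L1.vec_ne this
    · have h : Fs.mu s1 = Fs.mu z := by rw [← hv2, hconst, e, sc_one, hmz]
      rcases (Fs.mu_eq_iff hs1R S.link.z_mem).1 h with h' | h'
      · exact hzs1 h'.symm
      · have : s2 = z := by rw [hs2e, h', mul_assoc, Fs.z_sq, mul_one]
        exact hzs1 (by
          have h2 := congrArg (fun a => x⁻¹ * a * x) this
          simp only [hs2] at h2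
          rw [hxz] at h2
          rw [← h2]; group)
  have hklin : ∀ σ, Fs.Lin (k σ) := fun σ u => by
    rcases Fs.lin_or (k σ) (ks σ) with hl | hl
    · exact hl u
    exfalso
    have h1 := hkfix σ
    have h2 := hkx (k σ) (kz σ) (ks σ)
    rw [hconst] at h1
    have hne : ∀ c : F4, (c = (0, 1) ∨ c = (1, 1)) →
        (sc c one6 = om one6 ∧ om (om one6) ≠ sc c one6) ∨ (sc c one6 = om (om one6) ∧ om one6 ≠ sc c one6) := by decide
    rcases hne c hc with ⟨e, hn⟩ | ⟨e, hn⟩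
    · rw [e, hl, h2] at h1
      exact hn (h1.trans e.symm)
    · rw [e, hl, hl, h2, om_cube] at h1
      exact hn (h1.trans e.symm)
  -- vectors of `T`
  have hvec : ∀ d ∈ S'.link.dbar, ∃ t ∈ T, Fs.mu t = sc c d := by
    rintro d ⟨a, haR, haQ, rfl⟩
    obtain ⟨h, hh, he⟩ := Fs.diag_mem (fun _ => lg c) (by
      have : ∀ k : ZMod 3, ∑ _i : Fin 6, k = 0 := by decide
      exact this _)
    have hdiag : ∀ u, Fs.pi h u = sc c u := fun u => by
      rw [he]; funext i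
      have : ∀ (c y : F4), (c = (0, 1) ∨ c = (1, 1)) → rot (lg c) y = fm c y := by decide
      exact this c _ hc
    refine ⟨h * a * h⁻¹, ⟨Fs.normal h hh a haR, ?_⟩, by rw [Fs.pi_mu h hh a haR, hdiag]⟩
    have hmem : h * a * h⁻¹ ∈ R ⊓ cj h Q :=
      ⟨Fs.normal h hh a haR, mem_cj.2 (by simpa [mul_assoc] using haQ)⟩
    have hm : Fs.mu (h * z * h⁻¹) = Fs.mu s1 := by
      rw [Fs.pi_mu h hh z S.link.z_mem, hmz, hdiag, ← hconst]
    rcases (Fs.mu_eq_iff (Fs.normal h hh z S.link.z_mem) hs1R).1 hm with e | e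
    · have e2 : cj h Q = cj x R := by
        rw [hRdef, cj_cj]
        exact F.cj_eq (e.trans (by rw [hs1, ← hgs]; group))
      rw [e2] at hmem
      exact hmem.2
    · have e2 : cj h Q = cj (x * x) R := by
        rw [hRdef, cj_cj]
        exact F.cj_eq (e.trans (by rw [← hs2e, hs2, hs1, ← hgs]; group))
      rw [e2, ← hinter] at hmem
      exact hmem.2
  -- commutators
  have hcomm : ∀ (τ : Equiv.Perm (Fin 6)) (i j : Fin 6), Equiv.Perm.sign τ = 1 → i ≠ j →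
      ∃ f ∈ T, N f ∈ ⁅Y, Y⁆ ∧ ∃ ε : F4, (ε = 0 ∨ ε = (1, 0)) ∧
        Fs.mu f = sc c (sc (rot γ (1, 0)) (perm τ (pr i j) + pr i j) + sc ε one6) := by
    intro τ i j hτ hij
    obtain ⟨σ, hσ⟩ := hsurj ⟨τ⁻¹, Equiv.Perm.mem_alternatingGroup.2 (by rw [map_inv, hτ, inv_one])⟩
    set d := sc (rot γ (1, 0)) (pr i j)
    have hd : d ∈ S'.link.dbar := S'.pair_mem i j hij
    obtain ⟨t, ht, htm⟩ := hvec d hd
    have hconjT : ∀ b ∈ T, k σ * b * (k σ)⁻¹ ∈ T := fun b hb =>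
      ⟨Fs.normal _ (ks σ) b hb.1, (Fs.tr x).normal _ (hk1 σ) b hb.2⟩
    have hkN : ∀ b, N (k σ * b * (k σ)⁻¹) = k σ * N b * (k σ)⁻¹ := fun b => by
      have e : ∀ b, x * (k σ * b * (k σ)⁻¹) * x⁻¹ = k σ * (x * b * x⁻¹) * (k σ)⁻¹ := fun b => by
        rw [show x * (k σ * b * (k σ)⁻¹) * x⁻¹ = (x * k σ) * b * (x * k σ)⁻¹ by group, ← (kx σ).eq]; group
      simp only [N, e]
      group
    have hfT : t * k σ * t⁻¹ * (k σ)⁻¹ ∈ T := by
      rw [show t * k σ * t⁻¹ * (k σ)⁻¹ = t * (k σ * t⁻¹ * (k σ)⁻¹) by group]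
      exact mul_mem ht (hconjT _ (inv_mem ht))
    refine ⟨t * k σ * t⁻¹ * (k σ)⁻¹, hfT, ?_, ?_⟩
    · have e : N (t * k σ * t⁻¹ * (k σ)⁻¹) = ⁅N t, k σ⁆ := by
        rw [show t * k σ * t⁻¹ * (k σ)⁻¹ = t * (k σ * t⁻¹ * (k σ)⁻¹) by group,
          Nmul _ ht _ (hconjT _ (inv_mem ht)), hkN, Ninv t ht, commutatorElement_def]
        group
      rw [e]
      exact Subgroup.commutator_mem_commutator (NY t ht) (memY.2 ⟨kz σ, kx σ⟩)
    · have hti : t⁻¹ ∈ R := inv_mem ht.1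
      have hm : Fs.mu (t * k σ * t⁻¹ * (k σ)⁻¹) = sc c (d + Fs.pi (k σ) d) := by
        rw [show t * k σ * t⁻¹ * (k σ)⁻¹ = t * (k σ * t⁻¹ * (k σ)⁻¹) by group,
          Fs.mu_mul t ht.1 _ (Fs.normal _ (ks σ) _ hti), Fs.pi_mu _ (ks σ) _ hti, Fs.mu_inv ht.1, htm,
          Fs.lin_sc (ks σ) (hklin σ), sc_add]
      rcases hσ d hd with e | e <;> simp only [inv_inv] at e
      · refine ⟨0, Or.inl rfl, ?_⟩
        rw [hm, e, perm_sc, sc_add (rot γ (1, 0)), sc_fixed_zero, add_zero, add_comm]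
      · refine ⟨(1, 0), Or.inr rfl, ?_⟩
        rw [hm, e, perm_sc, sc_add (rot γ (1, 0)), sc_one]
        congr 1
        abel
  obtain ⟨hp, h1, h2, h3⟩ := sigma_pairs
  obtain ⟨f1, hf1, hN1, ε1, hε1, hm1⟩ := hcomm _ 0 4 h1 (by decide)
  obtain ⟨f2, hf2, hN2, ε2, hε2, hm2⟩ := hcomm _ 2 0 h2 (by decide)
  obtain ⟨f3, hf3, hN3, ε3, hε3, hm3⟩ := hcomm _ 4 2 h3 (by decide)
  obtain ⟨e, he⟩ := eps_sum _ _ _ hε1 hε2 hε3
  set f := f1 * f2 * f3 with hf
  have hfT : f ∈ T := mul_mem (mul_mem hf1 hf2) hf3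
  have hmf : Fs.mu f = sc (fm c (rot γ (1, 0) + (e, 0))) one6 := by
    rw [hf, Fs.mu_mul _ (mul_mem hf1.1 hf2.1) _ hf3.1, Fs.mu_mul _ hf1.1 _ hf2.1, hm1, hm2, hm3, ← sc_sc,
      ← he, sc_add_left, sc_add_left, sc_add_left]
    simp only [sc_add]
    conv_rhs => arg 1; rw [← hp]
    simp only [sc_add]
    abel
  have hNf : N f ∈ ⁅Y, Y⁆ := by
    rw [hf, Nmul _ (mul_mem hf1 hf2) _ hf3, Nmul _ hf1 _ hf2]
    exact mul_mem (mul_mem hN1 hN2) hN3
  have hsT : s ∈ T := ⟨Fs.z_mem, by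
    have : s = s1 * s2 := by rw [hs2e, ← mul_assoc, hsq1, one_mul]
    rw [this]
    refine mul_mem (Fs.tr x).z_mem (mem_cj.2 ?_)
    rw [hs2, show x⁻¹ * (x * s1 * x⁻¹) * x = s1 by group]; exact hs1R⟩
  have hs1T : s1 ∈ T := ⟨hs1R, (Fs.tr x).z_mem⟩
  have hzT : z ∈ T := ⟨S.link.z_mem, hzR1⟩
  have Ns : N s = 1 := hprod
  have Ns1 : N s1 = 1 := by
    show s1 * s2 * (x * s2 * x⁻¹) = 1
    rw [show x * s2 * x⁻¹ = s by rw [hs2, hs1]; exact hx3 s, hs2e, ← mul_assoc, hsq1, one_mul, Fs.z_sq]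
  have Nz : N z = z := by
    show z * (x * z * x⁻¹) * (x * (x * z * x⁻¹) * x⁻¹) = z
    rw [hx.comm.eq, mul_inv_cancel_right, hx.comm.eq, mul_inv_cancel_right, F.z_sq, one_mul]
  have hgc : rot γ (1, 0) = (0, 1) ∨ rot γ (1, 0) = (1, 1) := by
    have : ∀ g : ZMod 3, g ≠ 0 → rot g (1, 0) = (0, 1) ∨ rot g (1, 0) = (1, 1) := by decide
    exact this γ S.gne
  rcases final_scalar c _ hc hgc e with h | h
  · rw [h, sc_one, ← hmz] at hmf
    rcases (Fs.mu_eq_iff hfT.1 S.link.z_mem).1 hmf with h' | h' <;> rw [h'] at hNf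
    · rwa [Nz] at hNf
    · rwa [Nmul z hzT s hsT, Nz, Ns, mul_one] at hNf
  · rw [h, sc_add_left, sc_one, ← hconst, hv2, ← hmz, ← Fs.mu_mul z S.link.z_mem s1 hs1R] at hmf
    rcases (Fs.mu_eq_iff hfT.1 (mul_mem S.link.z_mem hs1R)).1 hmf with h' | h' <;> rw [h'] at hNf
    · rwa [Nmul z hzT s1 hs1T, Nz, Ns1, mul_one] at hNf
    · rwa [Nmul _ (mul_mem hzT hs1T) s hsT, Nmul z hzT s1 hs1T, Nz, Ns1, Ns, mul_one, mul_one] at hNf

end Cfsg.Agent.LFType23
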